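import Cfsg.Agent.Lib.PMinimalLie.BN
import Cfsg.Agent.Lib.SylowOvergroup.Small

/-!
`A₆` at the prime two: two subgroups of order 24 over the Sylow subgroup, which an automorphism may exchange.
-/

set_option autoImplicit false

namespace Cfsg.Agent.Lib.PMinimalLie

open Equiv

namespace A6

/-- the pair -/
def sy : Perm (Fin 6) := swap 4 5

/-- the three pairs -/
def sz : Perm (Fin 6) := swap 0 1 * swap 2 3 * swap 4 5

/-- the central involution of the Sylow subgroup -/
def z : Perm (Fin 6) := swap 0 1 * swap 2 3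

/-- the Sylow subgroup as a list -/
def els : List (Perm (Fin 6)) :=
  [1, swap 0 1 * swap 2 3, swap 0 2 * swap 1 3, swap 0 3 * swap 1 2, swap 0 1 * swap 4 5, swap 2 3 * swap 4 5,
    swap 0 2 * swap 2 1 * swap 1 3 * swap 4 5, swap 1 3 * swap 2 1 * swap 0 2 * swap 4 5]

/-- membership in the Sylow subgroup, decidably -/
abbrev P (g : Perm (Fin 6)) : Prop := g * sy = sy * g ∧ g * sz = sz * g

theorem els_mem : ∀ u ∈ els, P u ∧ Perm.sign u = 1 := by decide +kernel

theorem mem_els : ∀ g : Perm (Fin 6), Perm.sign g = 1 → P g → g ∈ els := by decide +kernel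

theorem z_unique : ∀ u ∈ els, u * u = 1 → u ≠ 1 → (∀ v ∈ els, u * v = v * u) → u = z := by decide +kernel

theorem z_central : ∀ v ∈ els, z * v = v * z := by decide +kernel

theorem cent_z : ∀ g : Perm (Fin 6), Perm.sign g = 1 → g * z = z * g → P g := by decide +kernel

theorem key : ∀ g : Perm (Fin 6), Perm.sign g = 1 → g * sy = sy * g ∨ g * sz = sz * g ∨ ¬ P (g * z * g⁻¹) ∨
    (g * z * g⁻¹ ≠ z ∧ ∀ u ∈ els, P (g * u * g⁻¹) → u = 1 ∨ u = z) := by decide +kernel

local notation "G" => alternatingGroup (Fin 6)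

/-- the stabilizer of the pair -/
def Y : Subgroup G := (Subgroup.centralizer {sy}).subgroupOf G

/-- the stabilizer of the three pairs -/
def Z : Subgroup G := (Subgroup.centralizer {sz}).subgroupOf G

theorem mem_Y {g : G} : g ∈ Y ↔ (g : Perm (Fin 6)) * sy = sy * g :=
  Subgroup.mem_centralizer_singleton_iff

theorem mem_Z {g : G} : g ∈ Z ↔ (g : Perm (Fin 6)) * sz = sz * g :=
  Subgroup.mem_centralizer_singleton_iff

theorem mem_els_of_mem {g : G} (hg : g ∈ Y ⊓ Z) : (g : Perm (Fin 6)) ∈ els :=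
  mem_els _ (Perm.mem_alternatingGroup.1 g.2)
    ⟨mem_Y.1 (Subgroup.mem_inf.1 hg).1, mem_Z.1 (Subgroup.mem_inf.1 hg).2⟩

/-- an element of the list in the group -/
def el (u : Perm (Fin 6)) (hu : u ∈ els) : G := ⟨u, Perm.mem_alternatingGroup.2 (els_mem u hu).2⟩

theorem el_mem {u : Perm (Fin 6)} (hu : u ∈ els) : el u hu ∈ Y ⊓ Z :=
  Subgroup.mem_inf.2 ⟨mem_Y.2 (els_mem u hu).1.1, mem_Z.2 (els_mem u hu).1.2⟩

theorem card_syl : Nat.card ↥(Y ⊓ Z) = 8 := by
  let f : {u // u ∈ els} → ↥(Y ⊓ Z) := fun u => ⟨el u.1 u.2, el_mem u.2⟩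
  have hf : Function.Bijective f :=
    ⟨fun u v e => Subtype.ext (congrArg (fun g : ↥(Y ⊓ Z) => (g.1 : Perm (Fin 6))) e),
      fun g => ⟨⟨_, mem_els_of_mem g.2⟩, rfl⟩⟩
  rw [← Nat.card_congr (Equiv.ofBijective f hf), Nat.card_eq_fintype_card]
  decide +kernel

/-- the Sylow subgroup, packed -/
noncomputable def sylow [Fact (Nat.Prime 2)] : Sylow 2 G :=
  (IsPGroup.of_card (n := 3) (by rw [card_syl]; norm_num) : IsPGroup 2 ↥(Y ⊓ Z)).toSylow (by
    have h := (Y ⊓ Z).card_mul_index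
    rw [card_syl, SylowOvergroup.card_A6] at h
    omega)

/-- a proper overgroup lies in one of the two -/
theorem le_or_le {W : Subgroup G} (hW : Y ⊓ Z ≤ W) (hWt : W ≠ ⊤) : W ≤ Y ∨ W ≤ Z := by
  classical
  haveI := Fact.mk Nat.prime_two
  suffices h : ∀ g ∈ W, g ∈ Y ∨ g ∈ Z by
    by_contra hn
    push Not at hn
    obtain ⟨⟨a, ha, haY⟩, ⟨b, hb, hbZ⟩⟩ := SetLike.not_le_iff_exists.1 hn.1, SetLike.not_le_iff_exists.1 hn.2
    have haZ := (h a ha).resolve_left haY
    have hbY := (h b hb).resolve_right hbZ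
    rcases h _ (mul_mem ha hb) with hh | hh
    · exact haY ((Subgroup.mul_mem_cancel_right Y hbY).1 hh)
    · exact hbZ ((Subgroup.mul_mem_cancel_left Z haZ).1 hh)
  intro g hg
  by_contra hn
  push Not at hn
  have hidx : ¬ 2 ∣ W.index := fun h => (sylow).not_dvd_index (h.trans (Subgroup.index_dvd_of_le hW))
  obtain ⟨R, hRW, hRp, hRn, hR1⟩ : ∃ R : Subgroup G, R ≤ W ∧ IsPGroup 2 ↥R ∧
      (∀ m ∈ W, ∀ r ∈ R, m * r * m⁻¹ ∈ R) ∧ R ≠ ⊥ := by
    by_contra hno
    push Not at hno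
    exact hWt (SylowOvergroup.good_A6 W hidx fun R h1 h2 h3 => hno R h1 h2 h3)
  have hRU : R ≤ Y ⊓ Z := by
    haveI : (R.subgroupOf W).Normal :=
      ⟨fun r hr m => hRn m.1 m.2 _ (Subgroup.mem_subgroupOf.1 hr)⟩
    let S : Sylow 2 ↥W := (sylow).subtype hW
    have hRp' : IsPGroup 2 ↥(R.subgroupOf W) := hRp.comap_of_injective W.subtype W.subtype_injective
    have h1 : R.subgroupOf W ≤ (S : Subgroup ↥W) :=
      le_sup_left.trans (S.is_maximal' (hRp'.to_sup_of_normal_left S.isPGroup') le_sup_right).le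
    intro r hr
    exact h1 (Subgroup.mem_subgroupOf.2 (show ((⟨r, hRW hr⟩ : ↥W) : G) ∈ R from hr))
  -- the central involution lies in every such subgroup
  obtain ⟨a, haR, ha1⟩ := (Subgroup.bot_or_exists_ne_one R).resolve_left hR1
  have hzR : el z (by decide +kernel) ∈ R := by
    have hconj : ∀ u ∈ els, ∀ v ∈ els, u ≠ 1 → u = z ∨ u * v * u⁻¹ * v⁻¹ = 1 ∨ u * v * u⁻¹ * v⁻¹ = z := by
      decide +kernel
    have hcent : ∀ u ∈ els, (∀ v ∈ els, u * v * u⁻¹ * v⁻¹ = 1) → u = 1 ∨ u = z := by decide +kernel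
    by_cases hc : ∀ v ∈ els, (a : Perm (Fin 6)) * v * (a : Perm (Fin 6))⁻¹ * v⁻¹ = 1
    · rcases hcent _ (mem_els_of_mem (hRU haR)) hc with h | h
      · exact absurd (Subtype.ext h : a = 1) ha1
      · exact (show a = el z _ from Subtype.ext h) ▸ haR
    · push Not at hc
      obtain ⟨v, hv, hav⟩ := hc
      rcases hconj _ (mem_els_of_mem (hRU haR)) v hv (fun h => ha1 (Subtype.ext h)) with h | h | h
      · exact (show a = el z _ from Subtype.ext h) ▸ haR
      · exact absurd h hav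
      · have h1 := mul_mem haR (hRn _ (hW (el_mem hv)) _ (inv_mem haR))
        exact (show a * (el v hv * a⁻¹ * (el v hv)⁻¹) = el z _ from Subtype.ext (by
          simp only [Subgroup.coe_mul, Subgroup.coe_inv]
          rw [← mul_assoc, ← mul_assoc]
          exact h)) ▸ h1
  have hmem : ∀ r ∈ R, P ((g : Perm (Fin 6)) * r * (g : Perm (Fin 6))⁻¹) := fun r hr => by
    have h := hRU (hRn g hg r hr)
    exact ⟨mem_Y.1 (Subgroup.mem_inf.1 h).1, mem_Z.1 (Subgroup.mem_inf.1 h).2⟩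
  rcases key g (Perm.mem_alternatingGroup.1 g.2) with h | h | h | ⟨h, hall⟩
  · exact hn.1 (mem_Y.2 h)
  · exact hn.2 (mem_Z.2 h)
  · exact h (hmem _ hzR)
  · have hgz := hRn g hg _ hzR
    rcases hall _ (mem_els_of_mem (hRU hgz)) (hmem _ hgz) with e | e
    · have : (z : Perm (Fin 6)) = 1 := by
        have e' : (g : Perm (Fin 6)) * z * (g : Perm (Fin 6))⁻¹ = 1 := e
        exact conj_eq_one_iff.1 e'
      exact absurd this (by decide +kernel)
    · exact h e

theorem isSwap : IsSwap 2 G := by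
  classical
  haveI := Fact.mk Nat.prime_two
  haveI : IsSimpleGroup G := alternatingGroup.isSimpleGroup (by simp)
  have hyz : ∃ g : G, g ∈ Y ∧ g ∉ Z :=
    ⟨⟨swap 0 1 * swap 1 2, Perm.mem_alternatingGroup.2 (by decide +kernel)⟩,
      mem_Y.2 (by decide +kernel), fun h => absurd (mem_Z.1 h) (by decide +kernel)⟩
  have hzy : ∃ g : G, g ∈ Z ∧ g ∉ Y :=
    ⟨⟨swap 0 2 * swap 2 4 * (swap 1 3 * swap 3 5), Perm.mem_alternatingGroup.2 (by decide +kernel)⟩,
      mem_Z.2 (by decide +kernel), fun h => absurd (mem_Y.1 h) (by decide +kernel)⟩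
  have hYt : Y ≠ ⊤ := fun e => by
    obtain ⟨g, -, hg⟩ := hzy
    exact hg (e.symm ▸ Subgroup.mem_top _)
  have hZt : Z ≠ ⊤ := fun e => by
    obtain ⟨g, -, hg⟩ := hyz
    exact hg (e.symm ▸ Subgroup.mem_top _)
  have hsup : Y ⊔ Z = ⊤ := by
    by_contra h
    rcases le_or_le (inf_le_left.trans le_sup_left) h with h | h
    · obtain ⟨g, h1, h2⟩ := hzy
      exact h2 (h (Subgroup.mem_sup_right h1))
    · obtain ⟨g, h1, h2⟩ := hyz
      exact h2 (h (Subgroup.mem_sup_left h1))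
  have hnorm : Subgroup.normalizer ((Y ⊓ Z : Subgroup G) : Set G) = Y ⊓ Z := by
    refine le_antisymm (fun g hg => ?_) Subgroup.le_normalizer
    have hz : el z (by decide +kernel) ∈ Y ⊓ Z := el_mem _
    have h1 := (Subgroup.mem_normalizer_iff.1 hg _).1 hz
    have hzc : ((g * el z (by decide +kernel) * g⁻¹ : G) : Perm (Fin 6)) = z := by
      refine z_unique _ (mem_els_of_mem h1) ?_ ?_ fun v hv => ?_
      · simp only [Subgroup.coe_mul, Subgroup.coe_inv, el]
        rw [show (g : Perm (Fin 6)) * z * (g : Perm (Fin 6))⁻¹ * ((g : Perm (Fin 6)) * z * (g : Perm (Fin 6))⁻¹) =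
          g * (z * z) * (g : Perm (Fin 6))⁻¹ by group, show z * z = 1 by decide +kernel]
        simp
      · simp only [Subgroup.coe_mul, Subgroup.coe_inv, el]
        intro e
        exact absurd (conj_eq_one_iff.1 e) (by decide +kernel)
      · have h2 : g⁻¹ * el v hv * g ∈ Y ⊓ Z := by
          have := (Subgroup.mem_normalizer_iff.1 (inv_mem hg) _).1 (el_mem hv)
          simpa using this
        have h3 := z_central _ (mem_els_of_mem h2)
        simp only [Subgroup.coe_mul, Subgroup.coe_inv, el] at h3 ⊢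
        calc (g : Perm (Fin 6)) * z * (g : Perm (Fin 6))⁻¹ * v
            = g * (z * ((g : Perm (Fin 6))⁻¹ * v * g)) * (g : Perm (Fin 6))⁻¹ := by group
          _ = g * (((g : Perm (Fin 6))⁻¹ * v * g) * z) * (g : Perm (Fin 6))⁻¹ := by rw [h3]
          _ = v * ((g : Perm (Fin 6)) * z * (g : Perm (Fin 6))⁻¹) := by group
    simp only [Subgroup.coe_mul, Subgroup.coe_inv, el] at hzc
    have := cent_z g (Perm.mem_alternatingGroup.1 g.2) (by
      calc (g : Perm (Fin 6)) * z = (g * z * (g : Perm (Fin 6))⁻¹) * g := by group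
        _ = z * g := by rw [hzc])
    exact Subgroup.mem_inf.2 ⟨mem_Y.2 this.1, mem_Z.2 this.2⟩
  refine isSwap_of_one sylow fun Γ _ hinv => ?_
  have hinv' : Inv Γ (Y ⊓ Z) := hinv
  -- the images of the two
  have himg : ∀ γ ∈ Γ, ∀ W : Subgroup G, (W = Y ∨ W = Z) → W.map γ.toMonoidHom = Y ∨ W.map γ.toMonoidHom = Z := by
    intro γ hγ W hW
    have hUW : Y ⊓ Z ≤ W := hW.elim (fun e => e ▸ inf_le_left) (fun e => e ▸ inf_le_right)
    have hWt : W ≠ ⊤ := hW.elim (fun e => e ▸ hYt) (fun e => e ▸ hZt)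
    have hle : Y ⊓ Z ≤ W.map γ.toMonoidHom := (map_eq_of_inv hinv' hγ).ge.trans (Subgroup.map_mono hUW)
    have hne : W.map γ.toMonoidHom ≠ ⊤ := fun e => hWt (Subgroup.map_injective γ.injective
      (e.trans (Subgroup.map_top_of_surjective _ γ.surjective).symm))
    have hmax : ∀ A : Subgroup G, (A = Y ∨ A = Z) → ∀ B : Subgroup G, B ≠ ⊤ → A ≤ B → B = A := by
      intro A hA B hB hAB
      rcases le_or_le ((hA.elim (fun e => e ▸ inf_le_left) (fun e => e ▸ inf_le_right) : Y ⊓ Z ≤ A).trans hAB) hB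
        with h | h <;> rcases hA with rfl | rfl
      · exact le_antisymm h hAB
      · obtain ⟨g, h1, h2⟩ := hzy
        exact absurd (h (hAB h1)) h2
      · obtain ⟨g, h1, h2⟩ := hyz
        exact absurd (h (hAB h1)) h2
      · exact le_antisymm h hAB
    have hmap : ∀ A : Subgroup G, (A = Y ∨ A = Z) → W.map γ.toMonoidHom ≤ A → W.map γ.toMonoidHom = A := by
      intro A hA hle'
      have h1 : W ≤ A.comap γ.toMonoidHom := Subgroup.map_le_iff_le_comap.1 hle'
      have h2 : A.comap γ.toMonoidHom ≠ ⊤ := fun e => hA.elim (fun e' => hYt (e' ▸ Subgroup.comap_injective γ.surjective (e.trans (Subgroup.comap_top _).symm))) (fun e' => hZt (e' ▸ Subgroup.comap_injective γ.surjective (e.trans (Subgroup.comap_top _).symm)))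
      rw [← hmax W hW _ h2 h1]
      exact Subgroup.map_comap_eq_self_of_surjective γ.surjective A
    rcases le_or_le hle hne with h | h
    · exact Or.inl (hmap Y (Or.inl rfl) h)
    · exact Or.inr (hmap Z (Or.inr rfl) h)
  have hYZ : Y ≠ Z := fun e => by
    obtain ⟨g, h1, h2⟩ := hyz
    exact h2 (e ▸ h1)
  by_cases hall : ∀ γ ∈ Γ, Y.map γ.toMonoidHom = Y
  · refine Or.inl ⟨Y, Z, fun γ hγ y hy => (hall γ hγ).le (Subgroup.mem_map_of_mem _ hy), fun γ hγ y hy => ?_,
      hYt, hZt, hsup⟩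
    have e : Z.map γ.toMonoidHom = Z := (himg γ hγ Z (Or.inr rfl)).resolve_left fun e =>
      hYZ (Subgroup.map_injective γ.injective ((hall γ hγ).trans e.symm))
    exact e.le (Subgroup.mem_map_of_mem _ hy)
  push Not at hall
  obtain ⟨γ, hγ, hγY⟩ := hall
  have hYZ' : Y.map γ.toMonoidHom = Z := (himg γ hγ Y (Or.inl rfl)).resolve_left hγY
  refine Or.inr ⟨⟨γ, hγ, ?_⟩, fun W hW hWt hWi => ?_⟩
  · rintro ⟨g, rfl⟩
    have hg : g ∈ Y ⊓ Z := by
      rw [← hnorm]
      refine Subgroup.mem_normalizer_iff.2 fun x => ⟨fun hx => hinv' _ hγ x hx, fun hx => ?_⟩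
      have h := hinv' _ (inv_mem hγ) _ hx
      rwa [show (MulAut.conj g)⁻¹ (g * x * g⁻¹) = x from (MulAut.conj g).symm_apply_apply x] at h
    refine hγY (le_antisymm ?_ fun y hy => ⟨g⁻¹ * y * g, ?_, by simp [mul_assoc]⟩)
    · rintro _ ⟨y, hy, rfl⟩
      exact mul_mem (mul_mem (Subgroup.mem_inf.1 hg).1 hy) (inv_mem (Subgroup.mem_inf.1 hg).1)
    · exact mul_mem (mul_mem (inv_mem (Subgroup.mem_inf.1 hg).1) hy) (Subgroup.mem_inf.1 hg).1
  · have e : ((sylow : Sylow 2 G) : Subgroup G) = Y ⊓ Z := rfl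
    rw [e, hnorm] at hW ⊢
    have hsub : ∀ {A : Subgroup G}, W ≤ A → W.map γ.toMonoidHom ≤ A.map γ.toMonoidHom := fun h => Subgroup.map_mono h
    have hWW := map_eq_of_inv hWi hγ
    rcases le_or_le hW hWt with h | h
    · exact le_inf h (hWW.ge.trans ((hsub h).trans hYZ'.le))
    · have hZY : Z.map γ.toMonoidHom = Y := (himg γ hγ Z (Or.inr rfl)).resolve_right fun e =>
        hYZ (Subgroup.map_injective γ.injective (hYZ'.trans e.symm))
      exact le_inf (hWW.ge.trans ((hsub h).trans hZY.le)) h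

end A6

end Cfsg.Agent.Lib.PMinimalLie
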