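import Cfsg.Agent.Lib.PMinimalLie.Transport
import Cfsg.Agent.Lib.BNPair.Parabolic

/-!
Automorphisms fixing the Borel subgroup of a finite Tits system permute the minimal parabolic subgroups; an
invariant way of dividing the distinguished generators gives the two pieces.
-/

set_option autoImplicit false

namespace Cfsg.Agent.Lib.PMinimalLie

open BNPair

variable {G : Type*} [Group G] [Finite G] (P : Cfsg.BNPair G)

theorem map_eq_of_inv {Γ : Subgroup (MulAut G)} {B : Subgroup G} (hB : Inv Γ B) {γ : MulAut G} (hγ : γ ∈ Γ) :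
    B.map γ.toMonoidHom = B := by
  refine le_antisymm ?_ fun b hb => ⟨γ⁻¹ b, hB _ (inv_mem hγ) b hb, γ.apply_symm_apply b⟩
  rintro _ ⟨b, hb, rfl⟩
  exact hB γ hγ b hb

/-- the minimal parabolic subgroups are permuted -/
theorem exists_map_single {Γ : Subgroup (MulAut G)} (hB : Inv Γ P.B) {γ : MulAut G} (hγ : γ ∈ Γ) {s : G}
    (hs : s ∈ P.S) : ∃ s' ∈ P.S, (P.parabolic {s}).map γ.toMonoidHom = P.parabolic {s'} := by
  have hs1 := Set.singleton_subset_iff.2 hs
  have hle : P.B ≤ (P.parabolic {s}).map γ.toMonoidHom :=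
    (map_eq_of_inv hB hγ).ge.trans (Subgroup.map_mono le_sup_left)
  obtain ⟨J, hJ, e⟩ := exists_eq_parabolic P _ hle
  obtain ⟨s', hs'⟩ : J.Nonempty := by
    by_contra hJ0
    rw [Set.not_nonempty_iff_eq_empty.1 hJ0, show P.parabolic (∅ : Set G) = P.B by
      simp [Cfsg.BNPair.parabolic]] at e
    have h1 := Subgroup.map_injective (f := γ.toMonoidHom) γ.injective (e.trans (map_eq_of_inv hB hγ).symm)
    exact gen_notMem P ⟨s, hs⟩ (h1.le (Subgroup.mem_sup_right (Subgroup.subset_closure (Set.mem_singleton s))))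
  refine ⟨s', hJ hs', le_antisymm ?_ ?_⟩
  · have hs'1 := Set.singleton_subset_iff.2 (hJ hs')
    have hle' : P.B ≤ (P.parabolic {s'}).comap γ.toMonoidHom := fun b hb => Subgroup.mem_sup_left (hB γ hγ b hb)
    obtain ⟨I, hI, eI⟩ := exists_eq_parabolic P _ hle'
    have h2 : (P.parabolic {s'}).comap γ.toMonoidHom ≤ P.parabolic {s} := by
      intro y hy
      have h3 : γ y ∈ (P.parabolic {s}).map γ.toMonoidHom := by
        rw [e]
        exact (parabolic_le_iff P hs'1 hJ).2 (Set.singleton_subset_iff.2 hs') hy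
      exact (Subgroup.mem_map_iff_mem γ.injective).1 h3
    rw [eI] at h2
    have hIs := (parabolic_le_iff P hI hs1).1 h2
    have hIne : I.Nonempty := by
      by_contra hI0
      rw [Set.not_nonempty_iff_eq_empty.1 hI0, show P.parabolic (∅ : Set G) = P.B by
        simp [Cfsg.BNPair.parabolic]] at eI
      have h4 : γ⁻¹ s' ∈ P.B := eI.le (by
        rw [Subgroup.mem_comap]
        show γ (γ.symm s') ∈ _
        rw [γ.apply_symm_apply]
        exact Subgroup.mem_sup_right (Subgroup.subset_closure (Set.mem_singleton s')))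
      have h5 : γ (γ⁻¹ s') ∈ P.B := hB γ hγ _ h4
      rw [show γ (γ⁻¹ s') = s' from γ.apply_symm_apply s'] at h5
      exact gen_notMem P ⟨s', hJ hs'⟩ h5
    rw [(Set.subset_singleton_iff_eq.1 hIs).resolve_left hIne.ne_empty] at eI
    rw [← eI]
    exact Subgroup.map_comap_le _ _
  · rw [e]
    exact (parabolic_le_iff P (Set.singleton_subset_iff.2 (hJ hs')) hJ).2 (Set.singleton_subset_iff.2 hs')

theorem inv_parabolic {Γ : Subgroup (MulAut G)} (hB : Inv Γ P.B) {J : Set G} (hJ : J ⊆ P.S)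
    (h : ∀ γ ∈ Γ, ∀ s ∈ J, ∀ s' ∈ P.S, (P.parabolic {s}).map γ.toMonoidHom = P.parabolic {s'} → s' ∈ J) :
    Inv Γ (P.parabolic J) := by
  intro γ hγ y hy
  have hle : P.parabolic J ≤ (P.parabolic J).comap γ.toMonoidHom := by
    refine sup_le (fun b hb => Subgroup.mem_sup_left (hB γ hγ b hb)) ((Subgroup.closure_le _).2 fun s hs => ?_)
    obtain ⟨s', hs', e⟩ := exists_map_single P hB hγ (hJ hs)
    have h1 : γ s ∈ P.parabolic {s'} :=
      e ▸ Subgroup.mem_map_of_mem _ (Subgroup.mem_sup_right (Subgroup.subset_closure (Set.mem_singleton s)))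
    exact (parabolic_le_iff P (Set.singleton_subset_iff.2 hs') hJ).2
      (Set.singleton_subset_iff.2 (h γ hγ s hs s' hs' e)) h1
  exact hle hy

/-- An invariant set of generators, neither empty nor everything, gives the pieces. -/
theorem hasPieces_of_class {Γ : Subgroup (MulAut G)} (hB : Inv Γ P.B) {J : Set G} (hJ : J ⊆ P.S)
    (h : ∀ γ ∈ Γ, ∀ s ∈ J, ∀ s' ∈ P.S, (P.parabolic {s}).map γ.toMonoidHom = P.parabolic {s'} → s' ∈ J)
    (hne : J.Nonempty) (hne' : J ≠ P.S) : HasPieces Γ := by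
  refine ⟨P.parabolic J, P.parabolic (P.S \ J), inv_parabolic P hB hJ h,
    inv_parabolic P hB Set.diff_subset fun γ hγ s hs s' hs' e => ⟨hs', fun hsJ => hs.2 ?_⟩, ?_, ?_, ?_⟩
  · refine h γ⁻¹ (inv_mem hγ) s' hsJ s hs.1 ?_
    rw [← e, Subgroup.map_map]
    convert Subgroup.map_id (P.parabolic {s})
    ext y
    exact γ.symm_apply_apply y
  · intro e
    exact hne' (parabolic_injective P hJ le_rfl (e.trans (parabolic_S P).symm))
  · intro e
    obtain ⟨j, hj⟩ := hne
    exact (((parabolic_injective P Set.diff_subset le_rfl (e.trans (parabolic_S P).symm))).ge (hJ hj)).2 hj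
  · refine eq_top_iff.2 ?_
    rw [← parabolic_S P]
    refine sup_le (le_trans le_sup_left le_sup_left) ((Subgroup.closure_le _).2 fun s hs => ?_)
    by_cases hsJ : s ∈ J
    · exact Subgroup.mem_sup_left (Subgroup.mem_sup_right (Subgroup.subset_closure hsJ))
    · exact Subgroup.mem_sup_right (Subgroup.mem_sup_right (Subgroup.subset_closure ⟨hs, hsJ⟩))

/-- minimal parabolic subgroups of two different orders -/
theorem hasPieces_of_card {Γ : Subgroup (MulAut G)} (hB : Inv Γ P.B) {s t : G} (hs : s ∈ P.S) (ht : t ∈ P.S)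
    (hne : Nat.card ↥(P.parabolic {s}) ≠ Nat.card ↥(P.parabolic {t})) : HasPieces Γ := by
  refine hasPieces_of_class P hB (J := {r ∈ P.S | Nat.card ↥(P.parabolic {r}) = Nat.card ↥(P.parabolic {s})})
    (fun r hr => hr.1) (fun γ _ r hr r' hr' e => ⟨hr', ?_⟩) ⟨s, hs, rfl⟩ fun e => ?_
  · rw [← e, Nat.card_congr ((P.parabolic {r}).equivMapOfInjective γ.toMonoidHom γ.injective).toEquiv.symm, hr.2]
  · exact hne ((e.ge ht).2).symm

/-- two generators and an odd prime -/
theorem hasPieces_of_two {p : ℕ} [Fact p.Prime] (hp : p ≠ 2) {Γ : Subgroup (MulAut G)} (hΓ : IsPGroup p ↥Γ)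
    (hB : Inv Γ P.B) {s t : G} (hS : P.S = {s, t}) (hne : s ≠ t) : HasPieces Γ := by
  refine hasPieces_of_class P hB (J := {s}) (by rw [hS]; simp) (fun γ hγ r hr r' hr' e => ?_)
    (Set.singleton_nonempty s) (fun e => hne ?_)
  swap
  · have : t ∈ ({s} : Set G) := by rw [e, hS]; simp
    exact (Set.mem_singleton_iff.1 this).symm
  rw [Set.mem_singleton_iff] at hr ⊢
  subst hr
  rw [hS] at hr'
  rcases hr' with h | h
  · exact h
  exfalso
  rw [Set.mem_singleton_iff] at h
  subst h
  obtain ⟨j, hj⟩ := hΓ ⟨γ, hγ⟩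
  have hodd : Odd (p ^ j) := ((Fact.out : p.Prime).odd_of_ne_two hp).pow
  obtain ⟨k, hk⟩ := hodd
  -- the square fixes both minimal parabolic subgroups
  have hst : ∀ η ∈ Γ, (P.parabolic {r}).map η.toMonoidHom = P.parabolic {r'} →
      (P.parabolic {r'}).map η.toMonoidHom = P.parabolic {r} := by
    intro η hη e1
    obtain ⟨u, hu, e2⟩ := exists_map_single P hB hη (show r' ∈ P.S by rw [hS]; simp)
    rw [hS] at hu
    rcases hu with rfl | hu
    · exact e2
    · rw [Set.mem_singleton_iff] at hu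
      rw [hu] at e2
      have h2 := Subgroup.map_injective (f := η.toMonoidHom) η.injective (e1.trans e2.symm)
      exact absurd (Set.singleton_eq_singleton_iff.1 (parabolic_injective P (by rw [hS]; simp) (by rw [hS]; simp) h2)) hne
  have hmul : ∀ (M : Subgroup G) (a b : MulAut G), M.map (a * b).toMonoidHom = (M.map b.toMonoidHom).map a.toMonoidHom :=
    fun M a b => (Subgroup.map_map M a.toMonoidHom b.toMonoidHom).symm
  have hpow : ∀ n : ℕ, (P.parabolic {r}).map (γ ^ (2 * n)).toMonoidHom = P.parabolic {r} := by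
    intro n
    induction n with
    | zero => exact Subgroup.map_id _
    | succ n ih =>
      rw [show γ ^ (2 * (n + 1)) = γ * γ * γ ^ (2 * n) by rw [← pow_two, ← pow_add]; ring_nf, hmul, ih, hmul, e,
        hst γ hγ e]
  have h1 : γ * γ ^ (2 * k) = 1 := by
    rw [← pow_succ', ← hk]; exact congrArg Subtype.val hj
  have h3 : (P.parabolic {r}).map (γ * γ ^ (2 * k)).toMonoidHom = P.parabolic {r'} := by rw [hmul, hpow, e]
  rw [h1] at h3
  exact hne (Set.singleton_eq_singleton_iff.1 (parabolic_injective P (by rw [hS]; simp) (by rw [hS]; simp)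
    ((Subgroup.map_id _).symm.trans h3)))

/-- one generator -/
theorem onlyBorel_of_rank_one {Γ : Subgroup (MulAut G)} {U : Subgroup G} {s : G} (hS : P.S = {s})
    (hBn : P.B = Subgroup.normalizer (U : Set G)) : OnlyBorel U Γ := by
  intro Y hY hYt _
  obtain ⟨J, hJ, rfl⟩ := exists_eq_parabolic P Y (hBn ▸ hY)
  rw [hS] at hJ
  rcases Set.subset_singleton_iff_eq.1 hJ with rfl | rfl
  · rw [show P.parabolic (∅ : Set G) = P.B by simp [Cfsg.BNPair.parabolic], hBn]
  · exact absurd (by rw [← hS, parabolic_S]) hYt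

theorem inv_normalizer {U : Subgroup G} {Γ : Subgroup (MulAut G)} (h : Inv Γ U) :
    Inv Γ (Subgroup.normalizer (U : Set G)) := by
  intro γ hγ n hn
  refine Subgroup.mem_normalizer_iff.2 fun x => ?_
  obtain ⟨x, rfl⟩ := γ.surjective x
  have key : ∀ y, γ y ∈ U ↔ y ∈ U := fun y => ⟨fun hy => by
    have := h γ⁻¹ (inv_mem hγ) _ hy
    rwa [show γ⁻¹ (γ y) = y from γ.symm_apply_apply y] at this, h γ hγ y⟩
  rw [← map_inv, ← map_mul, ← map_mul, key, key]
  exact Subgroup.mem_normalizer_iff.1 hn x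

end Cfsg.Agent.Lib.PMinimalLie
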