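import Mathlib
import Cfsg.Prelude.Def_Local
import Cfsg.Prelude.Def_LocalEven
import Cfsg.Agent.Lib.Components.GenFitting

/-!
A `p`-minimal group with simple generalized Fitting subgroup `K`: what two invariant generating proper
subgroups of `K`, or the absence of invariant subgroups over the Sylow normalizer, say about it.
-/

set_option autoImplicit false

namespace Cfsg.Agent.Lib.PMinimalLie

open Subgroup

variable {K : Type*} [Group K]

/-- `Y` is mapped into itself by `Γ` -/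
def Inv (Γ : Subgroup (MulAut K)) (Y : Subgroup K) : Prop := ∀ γ ∈ Γ, ∀ y ∈ Y, γ y ∈ Y

/-- two invariant proper subgroups generating the group -/
def HasPieces (Γ : Subgroup (MulAut K)) : Prop :=
  ∃ Y Z : Subgroup K, Inv Γ Y ∧ Inv Γ Z ∧ Y ≠ ⊤ ∧ Z ≠ ⊤ ∧ Y ⊔ Z = ⊤

/-- no invariant proper subgroup lies strictly over the normalizer of `U` -/
def OnlyBorel (U : Subgroup K) (Γ : Subgroup (MulAut K)) : Prop :=
  ∀ Y : Subgroup K, normalizer (U : Set K) ≤ Y → Y ≠ ⊤ → Inv Γ Y → Y ≤ normalizer (U : Set K)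

/-- `Γ` contains an automorphism that is not inner -/
def HasOuter (Γ : Subgroup (MulAut K)) : Prop := ∃ γ ∈ Γ, γ ∉ (MulAut.conj : K →* MulAut K).range

/-- as in rank one -/
def IsSingle (p : ℕ) (K : Type*) [Group K] : Prop :=
  ∀ (U : Sylow p K) (Γ : Subgroup (MulAut K)), IsPGroup p ↥Γ → Inv Γ (U : Subgroup K) → OnlyBorel (U : Subgroup K) Γ

/-- as in rank at least two -/
def IsRigid (p : ℕ) (K : Type*) [Group K] : Prop :=
  ∀ (U : Sylow p K) (Γ : Subgroup (MulAut K)), IsPGroup p ↥Γ → Inv Γ (U : Subgroup K) → HasPieces Γ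

/-- as in rank two with an exchange of the two maximal parabolics -/
def IsSwap (p : ℕ) (K : Type*) [Group K] : Prop :=
  ∀ (U : Sylow p K) (Γ : Subgroup (MulAut K)), IsPGroup p ↥Γ → Inv Γ (U : Subgroup K) →
    HasPieces Γ ∨ (HasOuter Γ ∧ OnlyBorel (U : Subgroup K) Γ)

variable {X : Type*} [Group X] (N : Subgroup X) [N.Normal]

theorem centralizer_fstar_eq_bot [Finite X] (hs : IsSimpleGroup ↥(Cfsg.generalizedFittingSubgroup X))
    (hna : ¬ IsMulCommutative ↥(Cfsg.generalizedFittingSubgroup X)) :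
    centralizer (Cfsg.generalizedFittingSubgroup X : Set X) = ⊥ := by
  haveI := hs
  set K := Cfsg.generalizedFittingSubgroup X
  have hle := Components.centralizer_generalizedFittingSubgroup_le (G := X)
  refine eq_bot_iff.2 fun x hx => ?_
  have hz : (⟨x, hle hx⟩ : ↥K) ∈ center ↥K :=
    mem_center_iff.2 fun y => Subtype.ext (mem_centralizer_iff.1 hx y.1 y.2)
  rcases IsSimpleGroup.eq_bot_or_eq_top_of_normal (center ↥K) inferInstance with h | h
  · rw [h, Subgroup.mem_bot] at hz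
    exact Subgroup.mem_bot.2 (congrArg Subtype.val hz)
  · exact absurd ⟨⟨fun a b => (mem_center_iff.1 (h ▸ mem_top b) a)⟩⟩ hna

variable {N}

/-- the automorphisms of `N` effected by `S` -/
def autGroup (N : Subgroup X) [N.Normal] (S : Subgroup X) : Subgroup (MulAut ↥N) :=
  S.map (MulAut.conjNormal : X →* MulAut ↥N)

theorem le_normalizer_map {S : Subgroup X} {Y : Subgroup ↥N} (h : Inv (autGroup N S) Y) :
    S ≤ normalizer ((Y.map N.subtype : Subgroup X) : Set X) := by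
  intro s hs
  have key : ∀ t ∈ S, ∀ y ∈ Y.map N.subtype, t * y * t⁻¹ ∈ Y.map N.subtype := by
    rintro t ht _ ⟨y, hy, rfl⟩
    exact ⟨_, h _ (mem_map_of_mem _ ht) y hy, MulAut.conjNormal_apply t y⟩
  refine mem_normalizer_iff.2 fun x => ⟨key s hs x, fun hx => ?_⟩
  simpa [mul_assoc] using key s⁻¹ (inv_mem hs) _ hx

theorem inv_of_le_normalizer {S : Subgroup X} {Y : Subgroup ↥N}
    (h : S ≤ normalizer ((Y.map N.subtype : Subgroup X) : Set X)) : Inv (autGroup N S) Y := by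
  rintro _ ⟨s, hs, rfl⟩ y hy
  obtain ⟨z, hz, e⟩ := (mem_normalizer_iff.1 (h hs) (y : X)).1 ⟨y, hy, rfl⟩
  have : (MulAut.conjNormal s y : ↥N) = z := Subtype.ext ((MulAut.conjNormal_apply s y).trans e.symm)
  exact this ▸ hz

theorem normalizer_map_ne_top [IsSimpleGroup ↥N] {Y : Subgroup ↥N} (h1 : Y ≠ ⊥) (h2 : Y ≠ ⊤) :
    normalizer ((Y.map N.subtype : Subgroup X) : Set X) ≠ ⊤ := by
  intro e
  haveI hn : (Y.map N.subtype).Normal := normalizer_eq_top_iff.1 e
  have hY : Y.Normal := ⟨fun y hy g => by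
    obtain ⟨z, hz, e⟩ := hn.conj_mem _ (mem_map_of_mem N.subtype hy) (g : X)
    exact (Subtype.ext e : z = g * y * g⁻¹) ▸ hz⟩
  exact (hY.eq_bot_or_eq_top).elim h1 h2

theorem exists_sylow_over {p : ℕ} [Fact p.Prime] [Finite X] (U : Sylow p ↥N) :
    ∃ S : Sylow p X, (S : Subgroup X) ≤ normalizer (((U : Subgroup ↥N).map N.subtype : Subgroup X) : Set X) := by
  obtain ⟨S, hS⟩ := (U.isPGroup'.map N.subtype).exists_le_sylow
  refine ⟨S, ?_⟩
  have e : (S : Subgroup X).subgroupOf N = (U : Subgroup ↥N) :=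
    U.is_maximal' (S.isPGroup'.comap_of_injective N.subtype N.subtype_injective) fun u hu => hS ⟨u, hu, rfl⟩
  intro s hs
  have key : ∀ t ∈ (S : Subgroup X), ∀ x ∈ (U : Subgroup ↥N).map N.subtype,
      t * x * t⁻¹ ∈ (U : Subgroup ↥N).map N.subtype := by
    rintro t ht _ ⟨u, hu, rfl⟩
    refine ⟨⟨t * u * t⁻¹, Normal.conj_mem inferInstance _ u.2 t⟩, ?_, rfl⟩
    rw [← e]
    exact mul_mem (mul_mem ht (hS ⟨u, hu, rfl⟩)) (inv_mem ht)
  refine mem_normalizer_iff.2 fun x => ⟨key s hs x, fun hx => ?_⟩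
  simpa [mul_assoc] using key s⁻¹ (inv_mem hs) _ hx

/-- the trichotomy for the socle and its consequences -/
theorem conclusion [Finite X] {p : ℕ} [Fact p.Prime] (hX : Cfsg.IsPMinimal p X) [IsSimpleGroup ↥N]
    (U : Sylow p ↥N) (hU : (U : Subgroup ↥N) ≠ ⊥) (hUt : (U : Subgroup ↥N) ≠ ⊤) {A B : Prop}
    (h : (A ∧ IsSingle p ↥N) ∨ IsRigid p ↥N ∨ (B ∧ IsSwap p ↥N)) :
    IsCoatom (normalizer (((U : Subgroup ↥N).map N.subtype : Subgroup X) : Set X)) ∧ (A ∨ (N ≠ ⊤ ∧ B)) := by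
  set U' := (U : Subgroup ↥N).map N.subtype with hU'
  have hne : normalizer (U' : Set X) ≠ ⊤ := normalizer_map_ne_top hU hUt
  have hfr : normalizer (U' : Set X) ⊔ N = ⊤ := Sylow.normalizer_sup_eq_top U
  obtain ⟨S, hS⟩ := exists_sylow_over U
  set Γ := autGroup N (S : Subgroup X) with hΓ
  have hΓp : IsPGroup p ↥Γ := S.isPGroup'.map _
  have hΓU : Inv Γ (U : Subgroup ↥N) := inv_of_le_normalizer hS
  have hpieces : ¬ HasPieces Γ := by
    rintro ⟨Y, Z, hY, hZ, hYt, hZt, hsup⟩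
    obtain ⟨-, M, hM, huni⟩ := hX S
    have hYb : Y ≠ ⊥ := fun e => hZt (by rwa [e, bot_sup_eq] at hsup)
    have hZb : Z ≠ ⊥ := fun e => hYt (by rwa [e, sup_bot_eq] at hsup)
    have hle : ∀ L : Subgroup X, (S : Subgroup X) ≤ L → L ≠ ⊤ → L ≤ M := fun L hSL hL => by
      rcases (eq_top_or_exists_le_coatom L) with e | ⟨M', hM', hLM'⟩
      · exact absurd e hL
      · exact hLM'.trans (le_of_eq (huni M' ⟨hM', hSL.trans hLM'⟩))
    have hYM := (le_normalizer.trans (hle _ (le_normalizer_map hY) (normalizer_map_ne_top hYb hYt)) :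
      Y.map N.subtype ≤ M)
    have hZM := (le_normalizer.trans (hle _ (le_normalizer_map hZ) (normalizer_map_ne_top hZb hZt)) :
      Z.map N.subtype ≤ M)
    refine hM.1.1 (eq_top_iff.2 ?_)
    rw [← hfr]
    refine sup_le (hle _ hS hne) ?_
    rw [← N.range_subtype, MonoidHom.range_eq_map, ← hsup, Subgroup.map_sup]
    exact sup_le hYM hZM
  have hcoat : OnlyBorel (U : Subgroup ↥N) Γ → IsCoatom (normalizer (U' : Set X)) := by
    intro hob
    refine ⟨hne, fun Y hY => ?_⟩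
    by_contra hYt
    have hYN : Y.subgroupOf N ≠ ⊤ := fun e =>
      hYt (eq_top_iff.2 (hfr ▸ sup_le hY.le (Subgroup.subgroupOf_eq_top.1 e)))
    have hinv : Inv Γ (Y.subgroupOf N) := by
      rintro _ ⟨s, hs, rfl⟩ y hy
      rw [mem_subgroupOf, MulAut.conjNormal_apply]
      exact mul_mem (mul_mem (hY.le (hS hs)) (mem_subgroupOf.1 hy)) (inv_mem (hY.le (hS hs)))
    have hnle : normalizer ((U : Subgroup ↥N) : Set ↥N) ≤ Y.subgroupOf N := fun g hg => by
      refine mem_subgroupOf.2 (hY.le (mem_normalizer_iff.2 fun x => ⟨?_, ?_⟩))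
      · rintro ⟨u, hu, rfl⟩
        exact ⟨g * u * g⁻¹, (mem_normalizer_iff.1 hg u).1 hu, rfl⟩
      · rintro ⟨u, hu, e⟩
        refine ⟨g⁻¹ * u * g, ?_, ?_⟩
        · simpa using SetLike.mem_coe.2 ((mem_normalizer_iff.1 (inv_mem hg) u).1 hu)
        · simp [show (u : X) = g * x * (g : X)⁻¹ from e, mul_assoc]
    have hle := hob _ hnle hYN hinv
    refine hY.not_ge fun y hy => ?_
    have hy' : y ∈ normalizer (U' : Set X) ⊔ N := hfr.symm ▸ mem_top y
    obtain ⟨n, hn, k, hk, rfl⟩ := mem_sup_of_normal_right.1 hy'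
    have hkY : k ∈ Y := by simpa using mul_mem (inv_mem (hY.le hn)) hy
    refine mul_mem hn (mem_normalizer_iff.2 fun x => ?_)
    have hg := hle (show (⟨k, hk⟩ : ↥N) ∈ Y.subgroupOf N from mem_subgroupOf.2 hkY)
    constructor
    · rintro ⟨u, hu, rfl⟩
      exact ⟨_, (mem_normalizer_iff.1 hg u).1 hu, rfl⟩
    · rintro ⟨u, hu, e⟩
      refine ⟨(⟨k, hk⟩ : ↥N)⁻¹ * u * ⟨k, hk⟩, ?_, ?_⟩
      · simpa using SetLike.mem_coe.2 ((mem_normalizer_iff.1 (inv_mem hg) u).1 hu)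
      · simp [show (u : X) = k * x * k⁻¹ from e, mul_assoc]
  rcases h with ⟨hA, h1⟩ | h1 | ⟨hB, h1⟩
  · exact ⟨hcoat (h1 U Γ hΓp hΓU), Or.inl hA⟩
  · exact absurd (h1 U Γ hΓp hΓU) hpieces
  · obtain ⟨⟨γ, hγ, hout⟩, hob⟩ := (h1 U Γ hΓp hΓU).resolve_left hpieces
    refine ⟨hcoat hob, Or.inr ⟨fun e => hout ?_, hB⟩⟩
    obtain ⟨s, -, rfl⟩ := hγ
    exact ⟨⟨s, e ▸ mem_top s⟩, MulEquiv.ext fun y => Subtype.ext (MulAut.conjNormal_apply s y).symm⟩

end Cfsg.Agent.Lib.PMinimalLie
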