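import Cfsg.Agent.Lib.PMinimalLie.BN
import Cfsg.Agent.Lib.Chev.Aut.Diagram
import Cfsg.Agent.Lib.Chev.Parabolic

/-!
The Chevalley groups: an automorphism fixing `U` permutes the minimal parabolic subgroups by a symmetry of the
diagram.
-/

set_option autoImplicit false

namespace Cfsg.Agent.Lib.PMinimalLie

open Cfsg.Lie Cfsg.Agent.Lib.Chev Cfsg.Agent.Lib.Chev.Aut

variable {D : ChevalleyDatum} {C : Cert} {F : Type*} [Field F] [Fintype F] (hh : Rooted D C)
include hh

theorem ns_mem_bnS (i : Fin D.rank) : ns hh F i ∈ (hh.bnPair F).S := ⟨i, i.2, coe_nS hh.toChecked i.2⟩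

theorem exists_ns_eq {s : ↥(D.group F)} (hs : s ∈ (hh.bnPair F).S) : ∃ i, s = ns hh F i := by
  obtain ⟨i, hi, e⟩ := hs
  exact ⟨⟨i, hi⟩, Subtype.ext (Units.ext (e.trans (coe_nS hh.toChecked hi).symm))⟩

theorem normalizer_Ug : Subgroup.normalizer (Ug D F : Set ↥(D.group F)) = Bg D F := by
  refine le_antisymm (fun g hg => mem_B_of_normalizes hh g fun u hu => (Subgroup.mem_normalizer_iff.1 hg u).1 hu)
    fun b hb => Subgroup.mem_normalizer_iff.2 fun g => (borel_normalizes_U hh hb g).symm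

/-- The permutation of the nodes belonging to an automorphism that fixes `U`. -/
theorem exists_node_map {Γ : Subgroup (MulAut ↥(D.group F))} (hinv : Inv Γ (Ug D F)) {γ : MulAut ↥(D.group F)}
    (hγ : γ ∈ Γ) : ∃ (η : MulAut ↥(D.group F)) (π : Equiv.Perm (Fin D.rank)) (σ : Fin D.rank → F ≃+* F),
      Acts hh η π σ ∧ ∀ i, ∀ s' ∈ (hh.bnPair F).S,
        ((hh.bnPair F).parabolic {ns hh F i}).map γ.toMonoidHom = (hh.bnPair F).parabolic {s'} → s' = ns hh F (π i) := by
  obtain ⟨x, hx⟩ := exists_conj_mul_mem hh γ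
  set θ := MulAut.conj x * γ with hθ
  have hxB : x ∈ Bg D F := mem_B_of_normalizes hh x fun u hu => by
    have h1 := (hx (γ⁻¹ u)).1.2 (hinv _ (inv_mem hγ) u hu)
    rw [hθ, MulAut.mul_apply, show γ (γ⁻¹ u) = u from γ.apply_symm_apply u] at h1
    exact h1
  obtain ⟨c, η, π, σ, e, ha⟩ := exists_diag_mul_acts hh hx
  refine ⟨η, π, σ, ha, fun i s' hs' hmap => ?_⟩
  set M := (hh.bnPair F).parabolic {s'}
  have hBM : Bg D F ≤ M := le_sup_left (a := (hh.bnPair F).B)
  have hsm : ∀ t, xg hh (sm D (π i)) t ∈ M := by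
    intro t
    set u := (σ i).symm (t / (chiOf D C c (sm D (π i)) : F))
    have h1 : θ (xg hh (sm D i) u) = xg hh (sm D (π i)) t := by
      rw [e, MulAut.mul_apply, (ha i u).2, diagAut_xg hh c (sm_lt hh (π i)), RingEquiv.apply_symm_apply,
        mul_div_cancel₀ _ (Units.ne_zero _)]
    have h2 : γ (xg hh (sm D i) u) ∈ M := by
      rw [← hmap]
      exact Subgroup.mem_map_of_mem _ (Pm_le_of_mem hh (M := (hh.bnPair F).parabolic {ns hh F i})
        (le_sup_left (a := (hh.bnPair F).B))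
        (Subgroup.mem_sup_right (Subgroup.subset_closure (Set.mem_singleton _))) (sm_mem_Pm hh i u))
    have h3 : θ (xg hh (sm D i) u) ∈ M := mul_mem (mul_mem (hBM hxB) h2) (inv_mem (hBM hxB))
    rwa [h1] at h3
  have hns : ns hh F (π i) ∈ M := by
    have h1 : nel hh (π i) ((1 : Fˣ) : F) ∈ M :=
      mul_mem (mul_mem (hBM (U_le_B (xg_sp_mem_U hh (π i) _))) (hsm _)) (hBM (U_le_B (xg_sp_mem_U hh (π i) _)))
    rw [nel_eq] at h1
    simpa using mul_mem (inv_mem (hBM (H_le_B (hel_mem_H hh (π i) 1)))) h1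
  exact (BNPair.mem_of_mem_parabolic (hh.bnPair F) (Set.singleton_subset_iff.2 hs') (ns_mem_bnS hh (π i)) hns).symm

theorem ns_injective : Function.Injective (ns hh F) := fun i j e =>
  eq_of_ns_mem hh (e ▸ ns_mem_Pm hh j : ns hh F i ∈ Pm hh F j)

/-- A set of nodes fixed by every symmetry gives the pieces. -/
theorem isRigid_chev {p : ℕ} [Fact p.Prime] [CharP F p] (J₀ : Finset (Fin D.rank)) (hne : J₀.Nonempty)
    (hne' : ∃ i, i ∉ J₀)
    (hok : ∀ {η : MulAut ↥(D.group F)} {π : Equiv.Perm (Fin D.rank)} {σ : Fin D.rank → F ≃+* F},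
      Acts hh η π σ → ∀ i ∈ J₀, π i ∈ J₀) : IsRigid p ↥(D.group F) := by
  obtain ⟨P, hP⟩ := hh.exists_sylow_posUnipotent (F := F) p
  refine isRigid_of_one P fun Γ _ hinv => ?_
  have hinv' : Inv Γ (Ug D F) := by rw [hP] at hinv; exact hinv
  have hB : Inv Γ (hh.bnPair F).B := by
    show Inv Γ (Bg D F)
    rw [← normalizer_Ug hh]
    exact inv_normalizer hinv'
  refine hasPieces_of_class (hh.bnPair F) hB (J := ns hh F '' (J₀ : Set (Fin D.rank))) ?_ ?_ (Finset.coe_nonempty.2 hne |>.image _) ?_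
  · rintro _ ⟨i, -, rfl⟩
    exact ns_mem_bnS hh i
  · rintro γ hγ _ ⟨i, hi, rfl⟩ s' hs' e
    obtain ⟨η, π, σ, ha, hmap⟩ := exists_node_map hh hinv' hγ
    exact ⟨π i, hok ha i hi, (hmap i s' hs' e).symm⟩
  · intro e
    obtain ⟨i, hi⟩ := hne'
    obtain ⟨j, hj, hji⟩ := e.ge (ns_mem_bnS hh i)
    exact hi (ns_injective hh hji ▸ hj)

/-- Rank two and an odd prime. -/
theorem isRigid_chev_two {p : ℕ} [Fact p.Prime] [CharP F p] (hp : p ≠ 2) (hr : D.rank = 2) :
    IsRigid p ↥(D.group F) := by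
  obtain ⟨P, hP⟩ := hh.exists_sylow_posUnipotent (F := F) p
  refine isRigid_of_one P fun Γ hΓ hinv => ?_
  have hB : Inv Γ (hh.bnPair F).B := by
    show Inv Γ (Bg D F)
    rw [← normalizer_Ug hh]
    rw [hP] at hinv
    exact inv_normalizer hinv
  refine hasPieces_of_two (hh.bnPair F) hp hΓ hB (s := ns hh F ⟨0, by omega⟩) (t := ns hh F ⟨1, by omega⟩)
    (Set.ext fun s => ⟨fun hs => ?_, fun hs => ?_⟩) fun e => by simpa using ns_injective hh e
  · obtain ⟨⟨i, hi⟩, rfl⟩ := exists_ns_eq hh hs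
    have : i = 0 ∨ i = 1 := by omega
    rcases this with rfl | rfl
    · exact Or.inl rfl
    · exact Or.inr rfl
  · rcases hs with rfl | hs
    · exact ns_mem_bnS hh _
    · rw [Set.mem_singleton_iff.1 hs]
      exact ns_mem_bnS hh _

omit hh

/-- the five exceptional types -/
theorem isRigid_excChev {p : ℕ} [Fact p.Prime] [CharP F p] :
    (3 ≤ Fintype.card F → IsRigid p ↥(chevG2.group F)) ∧ IsRigid p ↥(chevF4.group F) ∧
      IsRigid p ↥(chevE6.group F) ∧ IsRigid p ↥(chevE7.group F) ∧ IsRigid p ↥(chevE8.group F) ∧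
      IsRigid p ↥(chevD4.group F) := by
  refine ⟨fun hF => ?_, ?_, ?_, ?_, ?_, ?_⟩
  · by_cases hp : p = 2
    swap
    · exact isRigid_chev_two rooted_G2 hp rfl
    refine isRigid_chev rooted_G2 {(⟨0, by decide⟩ : Fin _)} (Finset.singleton_nonempty _) ⟨⟨1, by decide⟩, by simp⟩
      fun {η π σ} ha i hi => ?_
    rw [Finset.mem_singleton] at hi ⊢
    subst hi
    have hm : permList π ∈ syms chevG2 2 := permList_mem_syms rooted_G2 ha
    simp only [syms_G2.1, List.mem_cons, List.not_mem_nil, or_false] at hm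
    rcases hm with e | e
    · exact Fin.ext (by rw [← permList_getD, e]; rfl)
    exfalso
    have e0 : (π ⟨0, by decide⟩).val = 1 := by rw [← permList_getD, e]; rfl
    have e1 : (π ⟨1, by decide⟩).val = 0 := by rw [← permList_getD, e]; rfl
    have h := sigma_eq_pow rooted_G2 ha ⟨1, by decide⟩ ⟨0, by decide⟩ 3 (by decide +kernel)
      (by simp only [sp, e0, e1]; decide +kernel)
    rcases ringChar_of_cube (fun t => h t (by norm_num)) with hc | ⟨-, hi⟩
    · rw [ringChar.eq F p] at hc; omega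
    · classical
      have hsub : (Finset.univ : Finset F) ⊆ {0, 1} := fun a _ => by
        have h0 : a * (a - 1) = 0 := by linear_combination hi a
        rcases mul_eq_zero.1 h0 with h0 | h0
        · simp [h0]
        · simp [sub_eq_zero.1 h0]
      have := (Finset.card_le_card hsub).trans Finset.card_le_two
      simp at this
      omega
  · refine isRigid_chev (Rooted.mk checked_F4 descent_F4)
      {(⟨0, by decide⟩ : Fin chevF4.rank), (⟨3, by decide⟩ : Fin chevF4.rank)}
      (Finset.insert_nonempty _ _) ⟨(⟨1, by decide⟩ : Fin chevF4.rank), by simp⟩ fun {η π σ} ha i hi => ?_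
    have hm : permList π ∈ syms chevF4 4 := permList_mem_syms _ ha
    simp only [syms_F4.1, List.mem_cons, List.not_mem_nil, or_false] at hm
    simp only [Finset.mem_insert, Finset.mem_singleton] at hi ⊢
    rcases hi with rfl | rfl <;> rcases hm with e | e <;> simp [Fin.ext_iff, ← permList_getD, e]
  · refine isRigid_chev (Rooted.mk checked_E6 descent_E6) {(⟨1, by decide⟩ : Fin _)}
      (Finset.singleton_nonempty _) ⟨⟨0, by decide⟩, by simp⟩ fun {η π σ} ha i hi => ?_
    have hm : permList π ∈ syms chevE6 6 := permList_mem_syms _ ha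
    simp only [syms_E6.1, List.mem_cons, List.not_mem_nil, or_false] at hm
    rw [Finset.mem_singleton] at hi ⊢
    subst hi
    rcases hm with e | e <;> simp [Fin.ext_iff, ← permList_getD, e]
  · refine isRigid_chev (Rooted.mk checked_E7 descent_E7) {(⟨0, by decide⟩ : Fin _)}
      (Finset.singleton_nonempty _) ⟨⟨1, by decide⟩, by simp⟩ fun {η π σ} ha i hi => ?_
    have hm : permList π ∈ syms chevE7 7 := permList_mem_syms _ ha
    simp only [syms_E7.1, List.mem_cons, List.not_mem_nil, or_false] at hm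
    rw [Finset.mem_singleton] at hi ⊢
    subst hi
    simp [Fin.ext_iff, ← permList_getD, hm]
  · refine isRigid_chev (Rooted.mk checked_E8 descent_E8) {(⟨0, by decide⟩ : Fin _)}
      (Finset.singleton_nonempty _) ⟨⟨1, by decide⟩, by simp⟩ fun {η π σ} ha i hi => ?_
    have hm : permList π ∈ syms chevE8 8 := permList_mem_syms _ ha
    simp only [syms_E8.1, List.mem_cons, List.not_mem_nil, or_false] at hm
    rw [Finset.mem_singleton] at hi ⊢
    subst hi
    simp [Fin.ext_iff, ← permList_getD, hm]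
  · refine isRigid_chev (⟨checked_D4, descent_D4⟩ : Rooted chevD4 D4.cert) {(⟨1, by decide⟩ : Fin _)}
      (Finset.singleton_nonempty _) ⟨⟨0, by decide⟩, by simp⟩ fun {η π σ} ha i hi => ?_
    have hm : permList π ∈ syms chevD4 4 := permList_mem_syms _ ha
    have h := List.all_eq_true.1 syms_D4 _ hm
    simp only [Bool.and_eq_true, decide_eq_true_eq, List.mem_cons, List.not_mem_nil, or_false] at h
    rw [Finset.mem_singleton] at hi ⊢
    subst hi
    rcases h.2 with e | e | e | e | e | e <;> simp [Fin.ext_iff, ← permList_getD, e]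

end Cfsg.Agent.Lib.PMinimalLie
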