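import Cfsg.Agent.Lib.PMinimalLie.Basic
import Cfsg.Agent.Lib.SylowOvergroup.Basic

/-!
Stabilizers of the fixed-point series of a Sylow subgroup in a projective representation are invariant
under every automorphism induced by an additive bijection of the module that fixes the Sylow subgroup.
-/

set_option autoImplicit false

namespace Cfsg.Agent.Lib.PMinimalLie

variable {G : Type*} [Group G] {K : Type*} [Group K] {F : Type*} [Semiring F]
  {V : Type*} [AddCommGroup V] [Module F V] {V' : Type*} [AddCommGroup V'] [Module F V']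

/-- stabilizer of a set of vectors -/
def setStab (ρ : G →* (V ≃ₗ[F] V)) (S : Set V) : Subgroup G where
  carrier := {g | ∀ v, v ∈ S ↔ ρ g v ∈ S}
  one_mem' := by simp
  mul_mem' := by
    intro a b ha hb v
    rw [map_mul, LinearEquiv.mul_apply, ← ha, ← hb]
  inv_mem' := by
    intro a ha v
    have e : ρ a (ρ a⁻¹ v) = v := by
      rw [← LinearEquiv.mul_apply, ← map_mul, mul_inv_cancel, map_one]; rfl
    conv_lhs => rw [← e]
    exact (ha (ρ a⁻¹ v)).symm

/-- its image in `K` -/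
def stabK (π : G →* K) (ρ : G →* (V ≃ₗ[F] V)) (S : Set V) : Subgroup K := (setStab ρ S).map π

/-- the iterated fixed points of `P` -/
def fixSeq (ρ : G →* (V ≃ₗ[F] V)) (P : Subgroup G) : ℕ → Submodule F V
  | 0 => ⊥
  | k + 1 =>
    { carrier := {v | ∀ u ∈ P, ρ u v - v ∈ fixSeq ρ P k}
      add_mem' := fun {a b} ha hb u hu => by
        rw [map_add, add_sub_add_comm]
        exact add_mem (ha u hu) (hb u hu)
      zero_mem' := fun u _ => by simp
      smul_mem' := fun c {a} ha u hu => by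
        rw [map_smul, ← smul_sub]
        exact Submodule.smul_mem _ c (ha u hu) }

theorem mem_fixSeq_succ {ρ : G →* (V ≃ₗ[F] V)} {P : Subgroup G} {k : ℕ} {v : V} :
    v ∈ fixSeq ρ P (k + 1) ↔ ∀ u ∈ P, ρ u v - v ∈ fixSeq ρ P k := Iff.rfl

/-- `γ` is induced by `φ` from `ρ` to `ρ'` -/
def Intertwines (π : G →* K) (ρ : G →* (V ≃ₗ[F] V)) (ρ' : G →* (V' ≃ₗ[F] V')) (γ : MulAut K) (φ : V ≃+ V') :
    Prop := ∀ g, ∃ g', π g' = γ (π g) ∧ ∀ v, ρ' g' (φ v) = φ (ρ g v)

variable {π : G →* K} {ρ : G →* (V ≃ₗ[F] V)} {ρ' : G →* (V' ≃ₗ[F] V')}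

theorem mem_sylow_of_map_mem {p : ℕ} [Fact p.Prime] [Finite G] (hz : π.ker ≤ Subgroup.center G) (P : Sylow p G)
    {g : G} {k : ℕ} (hg : g ^ p ^ k = 1) (hm : π g ∈ (P : Subgroup G).map π) : g ∈ P := by
  obtain ⟨u, hu, hug⟩ := hm
  have hzc : u⁻¹ * g ∈ Subgroup.center G := hz (by rw [MonoidHom.mem_ker, map_mul, map_inv, hug, inv_mul_cancel])
  have hcomm : Commute u g := by
    have h1 : u * (u⁻¹ * g) = (u⁻¹ * g) * u := Subgroup.mem_center_iff.1 hzc u
    show u * g = g * u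
    calc u * g = u * (u * (u⁻¹ * g)) := by group
      _ = u * ((u⁻¹ * g) * u) := by rw [h1]
      _ = g * u := by group
  obtain ⟨j, hj⟩ := P.isPGroup' ⟨u, hu⟩
  have hj' : u ^ p ^ j = 1 := congrArg Subtype.val hj
  have hzp : (u⁻¹ * g) ^ p ^ (j + k) = 1 := by
    rw [(hcomm.inv_left).mul_pow, inv_pow, pow_add, pow_mul, hj', one_pow, inv_one, one_mul,
      mul_comm, pow_mul, hg, one_pow]
  have hR : IsPGroup p ↥(Subgroup.zpowers (u⁻¹ * g)) := by
    rw [Subgroup.zpowers_eq_closure]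
    intro x
    refine ⟨j + k, Subtype.ext ?_⟩
    obtain ⟨x, hx⟩ := x
    rw [← Subgroup.zpowers_eq_closure] at hx
    obtain ⟨m, rfl⟩ := hx
    show ((u⁻¹ * g) ^ m) ^ p ^ (j + k) = 1
    rw [← zpow_natCast, ← zpow_mul, mul_comm, zpow_mul, zpow_natCast, hzp, one_zpow]
  have hmem : u⁻¹ * g ∈ P := by
    have hn : (P : Subgroup G) ≤ Subgroup.normalizer ((Subgroup.zpowers (u⁻¹ * g) : Subgroup G) : Set G) := by
      intro x _
      refine Subgroup.mem_normalizer_iff.2 fun y => ⟨?_, ?_⟩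
      · rintro ⟨m, rfl⟩
        refine ⟨m, ?_⟩
        have := Subgroup.mem_center_iff.1 (zpow_mem hzc m) x
        show (u⁻¹ * g) ^ m = x * (u⁻¹ * g) ^ m * x⁻¹
        rw [this, mul_inv_cancel_right]
      · rintro ⟨m, hm⟩
        refine ⟨m, ?_⟩
        have := Subgroup.mem_center_iff.1 (zpow_mem hzc m) x
        have hm' : (u⁻¹ * g) ^ m = x * y * x⁻¹ := hm
        show (u⁻¹ * g) ^ m = y
        calc (u⁻¹ * g) ^ m = x⁻¹ * (x * (u⁻¹ * g) ^ m) := by group
          _ = y := by rw [this, hm']; group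
    have e := P.is_maximal' (P.isPGroup'.to_sup_of_normal_right' hR hn) le_sup_left
    exact e.le (Subgroup.mem_sup_right (Subgroup.mem_zpowers _))
  have := mul_mem hu hmem
  rwa [mul_inv_cancel_left] at this

theorem image_fixSeq_subset {p : ℕ} [Fact p.Prime] [Finite G] (hz : π.ker ≤ Subgroup.center G)
    (hρ : Function.Injective ρ) (hρ' : Function.Injective ρ') (P : Sylow p G) {γ : MulAut K}
    (hγ : ∀ x ∈ (P : Subgroup G).map π, γ x ∈ (P : Subgroup G).map π) {φ : V ≃+ V'}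
    (hφ : Intertwines π ρ ρ' γ φ) :
    ∀ k, ∀ v ∈ fixSeq ρ (P : Subgroup G) k, φ v ∈ fixSeq ρ' (P : Subgroup G) k := by
  choose f hf1 hf2 using hφ
  have hfP : ∀ u ∈ P, f u ∈ P := by
    intro u hu
    obtain ⟨j, hj⟩ := P.isPGroup' ⟨u, hu⟩
    have hj' : u ^ p ^ j = 1 := congrArg Subtype.val hj
    have hpow : ∀ n : ℕ, ∀ v, ρ' (f u ^ n) (φ v) = φ (ρ (u ^ n) v) := by
      intro n
      induction n with
      | zero => simp
      | succ n ih =>
        intro v
        rw [pow_succ, pow_succ, map_mul, map_mul, LinearEquiv.mul_apply, LinearEquiv.mul_apply, hf2, ih]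
    refine mem_sylow_of_map_mem hz P (k := j) (hρ' (LinearEquiv.ext fun w => ?_))
      (by rw [hf1]; exact hγ _ (Subgroup.mem_map_of_mem _ hu))
    obtain ⟨v, rfl⟩ := φ.surjective w
    rw [hpow, hj', map_one, map_one]
    rfl
  let f' : ↥(P : Subgroup G) → ↥(P : Subgroup G) := fun u => ⟨f u, hfP u u.2⟩
  have hinj : Function.Injective f' := by
    intro a b hab
    refine Subtype.ext (hρ (LinearEquiv.ext fun v => φ.injective ?_))
    rw [← hf2, ← hf2, show f a.1 = f b.1 from congrArg Subtype.val hab]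
  intro k
  induction k with
  | zero =>
    intro v hv
    rw [show v = 0 from (Submodule.mem_bot F).1 hv, map_zero]
    exact zero_mem _
  | succ k ih =>
    intro v hv
    refine mem_fixSeq_succ.2 fun u' hu' => ?_
    obtain ⟨u, hu⟩ := Finite.injective_iff_surjective.1 hinj ⟨u', hu'⟩
    rw [← show f u.1 = u' from congrArg Subtype.val hu, hf2, ← map_sub]
    exact ih _ (mem_fixSeq_succ.1 hv u.1 u.2)

theorem map_stabK_subset {γ : MulAut K} {φ : V ≃+ V'} (hφ : Intertwines π ρ ρ' γ φ) {S : Set V} {S' : Set V'}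
    (hS : φ '' S = S') : ∀ y ∈ stabK π ρ S, γ y ∈ stabK π ρ' S' := by
  rintro _ ⟨g, hg, rfl⟩
  obtain ⟨g', h1, h2⟩ := hφ g
  refine ⟨g', fun w => ?_, h1⟩
  obtain ⟨v, rfl⟩ := φ.surjective w
  rw [h2, ← hS, φ.injective.mem_set_image, φ.injective.mem_set_image]
  exact hg v

theorem inv_stabK {p : ℕ} [Fact p.Prime] [Finite G] [Finite V] (hz : π.ker ≤ Subgroup.center G)
    (hρ : Function.Injective ρ) (P : Sylow p G) {Γ : Subgroup (MulAut K)}
    (hΓP : Inv Γ ((P : Subgroup G).map π)) (hall : ∀ γ ∈ Γ, ∃ φ : V ≃+ V, Intertwines π ρ ρ γ φ) (k : ℕ) :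
    Inv Γ (stabK π ρ (fixSeq ρ (P : Subgroup G) k : Set V)) := by
  intro γ hγ y hy
  obtain ⟨φ, hφ⟩ := hall γ hγ
  refine map_stabK_subset hφ ?_ y hy
  refine Set.eq_of_subset_of_ncard_le ?_ (le_of_eq (Set.ncard_image_of_injective _ φ.injective).symm)
  rintro _ ⟨v, hv, rfl⟩
  exact image_fixSeq_subset hz hρ hρ P (hΓP γ hγ) hφ k v hv

theorem mem_setStab_of_mapsTo [Finite V] {ρ : G →* (V ≃ₗ[F] V)} {S : Set V} {g : G}
    (h : ∀ v ∈ S, ρ g v ∈ S) : g ∈ setStab ρ S := by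
  have e : ρ g '' S = S := Set.eq_of_subset_of_ncard_le (Set.image_subset_iff.2 h)
    (le_of_eq (Set.ncard_image_of_injective _ (ρ g).injective).symm)
  intro v
  conv_rhs => rw [← e]
  exact ((ρ g).injective.mem_set_image).symm

section Field

variable {E : Type*} [Field E] {W : Type*} [AddCommGroup W] [Module E W] [Finite W] {τ : G →* (W ≃ₗ[E] W)}

theorem exists_fixed_ne_zero {p : ℕ} [Fact p.Prime] [Finite E] [CharP E p] {R : Subgroup G} (hR : IsPGroup p ↥R)
    {S : Submodule E W} (hS : S ≠ ⊥) (hinv : ∀ u ∈ R, ∀ v ∈ S, τ u v ∈ S) :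
    ∃ v ∈ S, v ≠ 0 ∧ ∀ u ∈ R, τ u v = v := by
  haveI := Fintype.ofFinite E
  let _ : MulAction ↥R ↥S :=
    { smul := fun u v => ⟨τ u.1 v.1, hinv u.1 u.2 v.1 v.2⟩
      one_smul := fun v => Subtype.ext (show τ (1 : G) v.1 = v.1 by rw [map_one]; rfl)
      mul_smul := fun a b v => Subtype.ext (show τ (a.1 * b.1) v.1 = τ a.1 (τ b.1 v.1) by
        rw [map_mul]; rfl) }
  have h0 : (0 : ↥S) ∈ MulAction.fixedPoints ↥R ↥S := fun u => Subtype.ext (map_zero (τ u.1))
  have hd : p ∣ Nat.card ↥S := by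
    obtain ⟨k, -, hk⟩ := FiniteField.card E p
    rw [Module.natCard_eq_pow_finrank (K := E), Nat.card_eq_fintype_card, hk, ← pow_mul]
    refine dvd_pow_self p (mul_ne_zero k.pos.ne' ?_)
    rwa [Ne, Submodule.finrank_eq_zero]
  obtain ⟨v, hv, hne⟩ := hR.exists_fixed_point_of_prime_dvd_card_of_fixed_point ↥S hd h0
  exact ⟨v, v.2, fun e => hne (Subtype.ext e).symm, fun u hu => congrArg Subtype.val (hv ⟨u, hu⟩)⟩

/-- A proper subgroup over the image of a Sylow subgroup stabilizes a proper non-zero invariant subspace. -/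
theorem exists_invariant_submodule' {p : ℕ} [Fact p.Prime] [Finite G] [Finite E] [CharP E p] [Nontrivial W]
    (hgood : SylowOvergroup.Good p G) (hπ : Function.Surjective π) (hτ : Function.Injective τ) (P : Sylow p G)
    {Y : Subgroup K} (hP : (P : Subgroup G).map π ≤ Y) (hY : Y ≠ ⊤) :
    ∃ S : Submodule E W, S ≠ ⊥ ∧ S ≠ ⊤ ∧ (∀ u ∈ P, ∀ v ∈ S, τ u v ∈ S) ∧
      ∀ g, π g ∈ Y → ∀ v ∈ S, τ g v ∈ S := by
  set M := Y.comap π with hM
  have hPM : (P : Subgroup G) ≤ M := Subgroup.map_le_iff_le_comap.1 hP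
  have hMt : M ≠ ⊤ := fun e => hY (Subgroup.comap_injective hπ (e.trans (Subgroup.comap_top π).symm))
  obtain ⟨R, hRM, hRp, hRn, hR⟩ : ∃ R ≤ M, IsPGroup p ↥R ∧ (∀ m ∈ M, ∀ r ∈ R, m * r * m⁻¹ ∈ R) ∧ R ≠ ⊥ := by
    by_contra hcon
    push Not at hcon
    exact hMt (hgood M (fun hd => P.not_dvd_index (hd.trans (Subgroup.index_dvd_of_le hPM)))
      fun R h1 h2 h3 => hcon R h1 h2 h3)
  let S : Submodule E W :=
    { carrier := {v | ∀ r ∈ R, τ r v = v}
      add_mem' := fun {a b} ha hb r hr => by rw [map_add, ha r hr, hb r hr]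
      zero_mem' := fun r _ => map_zero (τ r)
      smul_mem' := fun c {a} ha r hr => by rw [map_smul, ha r hr] }
  have hMS : ∀ m ∈ M, ∀ v ∈ S, τ m v ∈ S := by
    intro m hm v hv r hr
    have := hv (m⁻¹ * r * m) (by simpa using hRn m⁻¹ (inv_mem hm) r hr)
    conv_rhs => rw [← this]
    rw [← LinearEquiv.mul_apply, ← LinearEquiv.mul_apply, ← map_mul, ← map_mul]
    congr 2
    group
  refine ⟨S, ?_, fun e => hR ((Subgroup.eq_bot_iff_forall R).2 fun r hr => hτ (LinearEquiv.ext fun v => ?_)),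
    fun u hu => hMS u (hPM hu), hMS⟩
  · obtain ⟨v, -, hv0, hv⟩ := exists_fixed_ne_zero (τ := τ) hRp (S := ⊤) top_ne_bot fun _ _ _ _ => trivial
    exact fun e => hv0 ((Submodule.mem_bot E).1 (e ▸ (hv : v ∈ S)))
  · rw [map_one]
    exact ((e ▸ Submodule.mem_top : v ∈ S) : ∀ r ∈ R, τ r v = v) r hr

theorem exists_invariant_submodule {p : ℕ} [Fact p.Prime] [Finite G] [Finite E] [CharP E p] [Nontrivial W]
    (hgood : SylowOvergroup.Good p G) (hπ : Function.Surjective π) (hτ : Function.Injective τ) (P : Sylow p G)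
    {Y : Subgroup K} (hP : (P : Subgroup G).map π ≤ Y) (hY : Y ≠ ⊤) :
    ∃ S : Submodule E W, S ≠ ⊥ ∧ S ≠ ⊤ ∧ (∀ u ∈ P, ∀ v ∈ S, τ u v ∈ S) ∧ Y ≤ stabK π τ (S : Set W) := by
  obtain ⟨S, h0, h1, hu, hS⟩ := exists_invariant_submodule' hgood hπ hτ P hP hY
  refine ⟨S, h0, h1, hu, fun y hy => ?_⟩
  obtain ⟨g, rfl⟩ := hπ y
  exact ⟨g, mem_setStab_of_mapsTo (hS g hy), rfl⟩

end Field

end Cfsg.Agent.Lib.PMinimalLie
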