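import Cfsg.Agent.Lib.PMinimalLie.Basic

/-!
Transport of the three properties along isomorphisms; one Sylow subgroup suffices.
-/

set_option autoImplicit false

namespace Cfsg.Agent.Lib.PMinimalLie

open Subgroup

variable {K L : Type*} [Group K] [Group L] {p : ℕ}

/-- the automorphism group carried along `e` -/
def moveAut (e : K ≃* L) (Γ : Subgroup (MulAut K)) : Subgroup (MulAut L) := Γ.map (MulAut.congr e).toMonoidHom

theorem moveAut_congr_apply (e : K ≃* L) (γ : MulAut K) (y : L) : MulAut.congr e γ y = e (γ (e.symm y)) := rfl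

theorem inv_comap (e : K ≃* L) {Γ : Subgroup (MulAut K)} {Y : Subgroup L} (h : Inv (moveAut e Γ) Y) :
    Inv Γ (Y.comap e.toMonoidHom) := by
  intro γ hγ y hy
  have := h _ (mem_map_of_mem _ hγ) (e y) hy
  rw [MulEquiv.coe_toMonoidHom, moveAut_congr_apply, e.symm_apply_apply] at this
  exact this

theorem inv_map (e : K ≃* L) {Γ : Subgroup (MulAut K)} {Y : Subgroup K} (h : Inv Γ Y) :
    Inv (moveAut e Γ) (Y.map e.toMonoidHom) := by
  rintro _ ⟨γ, hγ, rfl⟩ _ ⟨y, hy, rfl⟩
  exact ⟨γ y, h γ hγ y hy, by simp [moveAut_congr_apply]⟩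

theorem hasPieces_of_move (e : K ≃* L) {Γ : Subgroup (MulAut K)} (h : HasPieces (moveAut e Γ)) : HasPieces Γ := by
  obtain ⟨Y, Z, hY, hZ, hYt, hZt, hs⟩ := h
  have key : ∀ W : Subgroup L, W.comap e.toMonoidHom = ⊤ → W = ⊤ := fun W hW =>
    comap_injective e.surjective (hW.trans (comap_top _).symm)
  refine ⟨_, _, inv_comap e hY, inv_comap e hZ, mt (key Y) hYt, mt (key Z) hZt, ?_⟩
  refine eq_top_iff.2 fun x _ => ?_
  have hx : e x ∈ Y ⊔ Z := hs ▸ mem_top _
  rw [← Subgroup.map_comap_eq_self_of_surjective (f := e.toMonoidHom) e.surjective Y,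
    ← Subgroup.map_comap_eq_self_of_surjective (f := e.toMonoidHom) e.surjective Z, ← Subgroup.map_sup] at hx
  obtain ⟨x', hx', ex⟩ := hx
  exact e.injective ex ▸ hx'

theorem mem_normalizer_map (e : K ≃* L) {U : Subgroup K} {g : K} :
    e g ∈ normalizer ((U.map e.toMonoidHom : Subgroup L) : Set L) ↔ g ∈ normalizer (U : Set K) := by
  simp only [mem_normalizer_iff]
  constructor
  · intro h x
    have := h (e x)
    rw [← map_inv, ← map_mul, ← map_mul] at this
    exact ((mem_map_iff_mem e.injective).symm.trans this).trans (mem_map_iff_mem e.injective)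
  · intro h y
    obtain ⟨y, rfl⟩ := e.surjective y
    rw [← map_inv, ← map_mul, ← map_mul]
    exact ((mem_map_iff_mem e.injective).trans (h y)).trans (mem_map_iff_mem e.injective).symm

theorem onlyBorel_of_move (e : K ≃* L) {U : Subgroup K} {Γ : Subgroup (MulAut K)}
    (h : OnlyBorel (U.map e.toMonoidHom) (moveAut e Γ)) : OnlyBorel U Γ := by
  intro Y hY hYt hinv y hy
  refine (mem_normalizer_map e).1 (h (Y.map e.toMonoidHom) (fun x hx => ?_) (fun et => hYt ?_) (inv_map e hinv) (mem_map_of_mem _ hy))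
  · exact ⟨e.symm x, hY ((mem_normalizer_map e).1 (by simpa using hx)), by simp⟩
  · exact Subgroup.map_injective e.injective (et.trans (Subgroup.map_top_of_surjective _ e.surjective).symm)

theorem hasOuter_of_move (e : K ≃* L) {Γ : Subgroup (MulAut K)} (h : HasOuter (moveAut e Γ)) : HasOuter Γ := by
  obtain ⟨_, ⟨γ, hγ, rfl⟩, hout⟩ := h
  refine ⟨γ, hγ, fun ⟨g, hg⟩ => hout ⟨e g, MulEquiv.ext fun y => ?_⟩⟩
  subst hg
  simp [moveAut_congr_apply]

variable [Fact p.Prime] [Finite K]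

/-- it suffices to look at one Sylow subgroup -/
theorem of_one {P : (U : Subgroup K) → Subgroup (MulAut K) → Prop}
    (hP : ∀ (g : K) U Γ, P (U.map (MulAut.conj g).toMonoidHom) (moveAut (MulAut.conj g) Γ) → P U Γ)
    (U₀ : Sylow p K) (h : ∀ Γ : Subgroup (MulAut K), IsPGroup p ↥Γ → Inv Γ (U₀ : Subgroup K) → P U₀ Γ)
    (U : Sylow p K) (Γ : Subgroup (MulAut K)) (hΓ : IsPGroup p ↥Γ) (hinv : Inv Γ (U : Subgroup K)) : P U Γ := by
  obtain ⟨g, hg⟩ := MulAction.exists_smul_eq K U U₀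
  have e : (U : Subgroup K).map (MulAut.conj g).toMonoidHom = (U₀ : Subgroup K) := by
    rw [← hg]; rfl
  exact hP g _ _ (e.symm ▸ h _ (hΓ.map _) (e ▸ inv_map _ hinv))

theorem isRigid_of_one (U₀ : Sylow p K)
    (h : ∀ Γ : Subgroup (MulAut K), IsPGroup p ↥Γ → Inv Γ (U₀ : Subgroup K) → HasPieces Γ) : IsRigid p K :=
  of_one (P := fun _ Γ => HasPieces Γ) (fun g _ _ => hasPieces_of_move _) U₀ h

theorem isSingle_of_one (U₀ : Sylow p K)
    (h : ∀ Γ : Subgroup (MulAut K), IsPGroup p ↥Γ → Inv Γ (U₀ : Subgroup K) → OnlyBorel (U₀ : Subgroup K) Γ) :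
    IsSingle p K :=
  of_one (P := fun U Γ => OnlyBorel U Γ) (fun g _ _ => onlyBorel_of_move _) U₀ h

theorem isSwap_of_one (U₀ : Sylow p K)
    (h : ∀ Γ : Subgroup (MulAut K), IsPGroup p ↥Γ → Inv Γ (U₀ : Subgroup K) →
      HasPieces Γ ∨ (HasOuter Γ ∧ OnlyBorel (U₀ : Subgroup K) Γ)) : IsSwap p K :=
  of_one (P := fun U Γ => HasPieces Γ ∨ (HasOuter Γ ∧ OnlyBorel U Γ))
    (fun g _ _ h => h.imp (hasPieces_of_move _) fun h => ⟨hasOuter_of_move _ h.1, onlyBorel_of_move _ h.2⟩) U₀ h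

/-- the image of a Sylow subgroup under an isomorphism -/
def moveSylow (e : K ≃* L) (U : Sylow p K) : Sylow p L :=
  U.mapSurjective (f := e.toMonoidHom) e.surjective

theorem IsRigid.of_equiv (h : IsRigid p K) (e : K ≃* L) : IsRigid p L := by
  haveI : Finite L := Finite.of_equiv K e.toEquiv
  exact isRigid_of_one (moveSylow e default) fun Γ hΓ hinv => hasPieces_of_move e.symm (h (moveSylow e.symm (moveSylow e default)) _ (hΓ.map _) (inv_map _ hinv))

theorem IsSingle.of_equiv (h : IsSingle p K) (e : K ≃* L) : IsSingle p L := by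
  haveI : Finite L := Finite.of_equiv K e.toEquiv
  exact isSingle_of_one (moveSylow e default) fun Γ hΓ hinv => onlyBorel_of_move e.symm (h (moveSylow e.symm (moveSylow e default)) _ (hΓ.map _) (inv_map _ hinv))

theorem IsSwap.of_equiv (h : IsSwap p K) (e : K ≃* L) : IsSwap p L := by
  haveI : Finite L := Finite.of_equiv K e.toEquiv
  exact isSwap_of_one (moveSylow e default) fun Γ hΓ hinv => (h (moveSylow e.symm (moveSylow e default)) _ (hΓ.map _) (inv_map _ hinv)).imp (hasPieces_of_move e.symm) fun h => ⟨hasOuter_of_move e.symm h.1, onlyBorel_of_move e.symm h.2⟩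

end Cfsg.Agent.Lib.PMinimalLie
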