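import Mathlib
import Cfsg.Agent.Lib.PMinimalLie.Rep
import Cfsg.Agent.Lib.PMinimalLie.Transport
import Cfsg.Agent.Lib.SylowOvergroup.Form

/-!
A group of isometries in which every automorphism considered comes from a semisimilarity: the stabilizer of the
fixed point and the stabilizer of a totally isotropic line through it generate.
-/

set_option autoImplicit false

namespace Cfsg.Agent.Lib.PMinimalLie

open Cfsg.Agent.Lib.SylowOvergroup Subgroup

variable {p : ℕ} {G : Type*} [Group G] {K : Type*} [Group K] {π : G →* K}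
  {F : Type*} [Field F] {V : Type*} [AddCommGroup V] [Module F V] {ρ : G →* (V ≃ₗ[F] V)}

theorem fixSeq_mono (P : Subgroup G) : ∀ k, fixSeq ρ P k ≤ fixSeq ρ P (k + 1)
  | 0 => bot_le
  | k + 1 => fun _ hv => mem_fixSeq_succ.2 fun u hu => fixSeq_mono P k (mem_fixSeq_succ.1 hv u hu)

theorem fixSeq_invariant (P : Subgroup G) {u : G} (hu : u ∈ P) :
    ∀ k, ∀ v ∈ fixSeq ρ P k, ρ u v ∈ fixSeq ρ P k
  | 0 => fun v hv => by rw [show v = 0 from (Submodule.mem_bot F).1 hv, map_zero]; exact zero_mem _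
  | k + 1 => fun v hv => by
    have := add_mem (fixSeq_mono P k (mem_fixSeq_succ.1 hv u hu)) hv
    rwa [sub_add_cancel] at this

theorem fixSeq_central (P : Subgroup G) {z : G} (hz : z ∈ Subgroup.center G) :
    ∀ k, ∀ v ∈ fixSeq ρ P k, ρ z v ∈ fixSeq ρ P k
  | 0 => fun v hv => by rw [show v = 0 from (Submodule.mem_bot F).1 hv, map_zero]; exact zero_mem _
  | k + 1 => fun v hv => mem_fixSeq_succ.2 fun u hu => by
    rw [← LinearEquiv.mul_apply, ← map_mul, Subgroup.mem_center_iff.1 hz u, map_mul, LinearEquiv.mul_apply,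
      ← map_sub]
    exact fixSeq_central P hz k _ (mem_fixSeq_succ.1 hv u hu)

theorem stabK_fixSeq_ne_top [Finite V] (hπ : Function.Surjective π) (hz : π.ker ≤ Subgroup.center G)
    (P : Subgroup G) (k : ℕ) {g : G} {v : V} (hv : v ∈ fixSeq ρ P k) (hg : ρ g v ∉ fixSeq ρ P k) :
    stabK π ρ (fixSeq ρ P k : Set V) ≠ ⊤ := by
  intro e
  obtain ⟨h, hh, he⟩ : π g ∈ stabK π ρ (fixSeq ρ P k : Set V) := e ▸ Subgroup.mem_top _
  have h2 : h⁻¹ * g ∈ π.ker := by rw [MonoidHom.mem_ker, map_mul, map_inv, he, inv_mul_cancel]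
  refine hg ?_
  have := (hh _).1 (fixSeq_central P (hz h2) k v hv)
  rwa [← LinearEquiv.mul_apply, ← map_mul, mul_inv_cancel_left] at this

/-- A `p`-group fixes a non-zero vector of the quotient by a proper invariant subspace. -/
theorem exists_fixed_mod [Fact p.Prime] [Finite F] [CharP F p] [Finite V] {R : Subgroup G} (hR : IsPGroup p ↥R)
    {S : Submodule F V} (hS : S ≠ ⊤) (hinv : ∀ u ∈ R, ∀ v ∈ S, ρ u v ∈ S) :
    ∃ v ∉ S, ∀ u ∈ R, ρ u v - v ∈ S := by
  haveI := Fintype.ofFinite F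
  let f : ↥R → (V ⧸ S →ₗ[F] V ⧸ S) := fun u => S.mapQ S (ρ u.1 : V →ₗ[F] V) fun v hv => hinv u.1 u.2 v hv
  let _ : MulAction ↥R (V ⧸ S) :=
    { smul := fun u v => f u v
      one_smul := fun v => by
        induction v using Submodule.Quotient.induction_on with
        | H v => show Submodule.Quotient.mk (ρ (1 : G) v) = _; rw [map_one]; rfl
      mul_smul := fun a b v => by
        induction v using Submodule.Quotient.induction_on with
        | H v => show Submodule.Quotient.mk (ρ (a.1 * b.1) v) = Submodule.Quotient.mk (ρ a.1 (ρ b.1 v))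
                 rw [map_mul]; rfl }
  have h0 : (0 : V ⧸ S) ∈ MulAction.fixedPoints ↥R (V ⧸ S) := fun u => map_zero (f u)
  haveI : Nontrivial (V ⧸ S) := Submodule.Quotient.nontrivial_iff.2 hS
  haveI : Finite (V ⧸ S) := Finite.of_surjective _ (Submodule.Quotient.mk_surjective S)
  have hd : p ∣ Nat.card (V ⧸ S) := by
    obtain ⟨k, -, hk⟩ := FiniteField.card F p
    rw [Module.natCard_eq_pow_finrank (K := F), Nat.card_eq_fintype_card, hk, ← pow_mul]
    exact dvd_pow_self p (mul_ne_zero k.pos.ne' Module.finrank_pos.ne')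
  obtain ⟨v, hv, hne⟩ := hR.exists_fixed_point_of_prime_dvd_card_of_fixed_point (V ⧸ S) hd h0
  induction v using Submodule.Quotient.induction_on with
  | H v =>
    exact ⟨v, fun h => hne ((Submodule.Quotient.mk_eq_zero S).2 h).symm, fun u hu =>
      (Submodule.Quotient.eq S).1 (hv ⟨u, hu⟩)⟩

variable {B : V → V → F} {sing : V → Prop}

/-- a point, a totally isotropic line through it and what the elements near them do -/
structure Flag (h : FormSetting ρ B sing) (x w : V) : Prop where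
  x_ne : x ≠ 0
  w_notMem : w ∉ Submodule.span F {x}
  xx : B x x = 0
  wx : B w x = 0
  moveA : ∀ v, B v x ≠ 0 → ∃ g ∈ formRad h (Submodule.span F {x}), ρ g v - v ∉ Submodule.span F {x}
  moveB : ∀ v, B v x = 0 → v ∉ Submodule.span F {x} → ∃ g ∈ formRad h (Submodule.span F {x}), ρ g v ≠ v
  moveC : ∀ v, B v x = 0 → v ∉ Submodule.span F {x, w} →
    ∃ g ∈ formRad h (Submodule.span F {x, w}), ρ g v - v ∉ Submodule.span F {x}
  swap : ∃ g, ρ g x ∈ Submodule.span F {x, w} ∧ ρ g w ∈ Submodule.span F {x, w} ∧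
    ρ g x ∉ Submodule.span F {x} ∧ ∃ v, B v x = 0 ∧ B (ρ g v) x ≠ 0
  perp : ∀ S : Submodule F V, x ∈ S → w ∈ S →
    (∀ g, ρ g x ∈ Submodule.span F {x} → ∀ v ∈ S, ρ g v ∈ S) → ∀ v, B v x = 0 → v ∈ S

variable {h : FormSetting ρ B sing} {x w : V}

theorem Flag.exists_sylow [Fact p.Prime] [CharP F p] [Finite F] [Finite V] [Finite G] (fl : Flag h x w) :
    ∃ P : Sylow p G, fixSeq ρ (P : Subgroup G) 1 = Submodule.span F {x} ∧
      fixSeq ρ (P : Subgroup G) 2 = Submodule.span F {x, w} := by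
  set R1 := formRad h (Submodule.span F {x})
  set R2 := formRad h (Submodule.span F {x, w})
  have hn : R1 ≤ Subgroup.normalizer (R2 : Set G) := by
    have key : ∀ g ∈ R1, ∀ r ∈ R2, g⁻¹ * r * g ∈ R2 := by
      intro g hg r hr
      have e : (Submodule.span F {x, w}).map (ρ g : V →ₗ[F] V) = Submodule.span F {x, w} := by
        refine Submodule.eq_of_le_of_finrank_eq ?_ (LinearEquiv.finrank_map_eq _ _)
        rw [Submodule.map_span, Submodule.span_le]
        have hx : x ∈ Submodule.span F {x} := Submodule.mem_span_singleton_self x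
        rintro _ ⟨v, hv | hv, rfl⟩ <;> rw [show v = _ from hv]
        · show ρ g x ∈ _
          rw [hg.1 x hx]
          exact Submodule.subset_span (Set.mem_insert _ _)
        · show ρ g w ∈ _
          have h1 : ρ g w - w ∈ Submodule.span F {x} := hg.2 w fun a ha => by
            obtain ⟨c, rfl⟩ := Submodule.mem_span_singleton.1 ha
            refine h.refl _ _ ?_
            rw [h.smul_left, h.refl _ _ fl.wx, mul_zero]
          have h2 := add_mem (Submodule.span_mono (Set.singleton_subset_iff.2 (Set.mem_insert x {w})) h1)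
            (Submodule.subset_span (Set.mem_insert_of_mem x (Set.mem_singleton w)))
          rwa [sub_add_cancel] at h2
      rw [← mem_formRad_map h g, e]
      exact hr
    intro g hg
    refine Subgroup.mem_normalizer_iff.2 fun r => ⟨fun hr => ?_, fun hr => ?_⟩
    · simpa using key g⁻¹ (inv_mem hg) r hr
    · simpa [mul_assoc] using key g hg _ hr
  obtain ⟨P, hP⟩ := ((isPGroup_formRad (p := p) h (Submodule.span F {x})).to_sup_of_normal_right'
    (isPGroup_formRad (p := p) h (Submodule.span F {x, w})) hn).exists_le_sylow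
  refine ⟨P, ?_⟩
  have h1 : fixSeq ρ (P : Subgroup G) 1 = Submodule.span F {x} := by
    have hle : fixSeq ρ (P : Subgroup G) 1 ≤ Submodule.span F {x} := by
      intro v hv
      have hfix : ∀ u ∈ P, ρ u v = v := fun u hu => sub_eq_zero.1 ((Submodule.mem_bot F).1 (mem_fixSeq_succ.1 hv u hu))
      by_contra hvx
      by_cases hb : B v x = 0
      · obtain ⟨g, hg, hgv⟩ := fl.moveB v hb hvx
        exact hgv (hfix g (hP (Subgroup.mem_sup_left hg)))
      · obtain ⟨g, hg, hgv⟩ := fl.moveA v hb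
        exact hgv (by rw [hfix g (hP (Subgroup.mem_sup_left hg)), sub_self]; exact zero_mem _)
    refine le_antisymm hle ((Submodule.span_singleton_le_iff_mem _ _).2 ?_)
    obtain ⟨v, -, hv0, hv⟩ := exists_fixed_ne_zero (τ := ρ) P.isPGroup' (S := ⊤)
      (fun e => fl.x_ne ((Submodule.mem_bot F).1 (e ▸ Submodule.mem_top))) fun _ _ _ _ => trivial
    have hmem : v ∈ fixSeq ρ (P : Subgroup G) 1 := mem_fixSeq_succ.2 fun u hu => by
      rw [hv u hu, sub_self]; exact zero_mem _
    obtain ⟨c, hc⟩ := Submodule.mem_span_singleton.1 (hle hmem)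
    have hc0 : c ≠ 0 := fun e => hv0 (by rw [← hc, e, zero_smul])
    have h2 := Submodule.smul_mem _ c⁻¹ hmem
    rwa [← hc, smul_smul, inv_mul_cancel₀ hc0, one_smul] at h2
  refine ⟨h1, le_antisymm ?_ ?_⟩
  · intro v hv
    rw [mem_fixSeq_succ, h1] at hv
    by_contra hvW
    by_cases hb : B v x = 0
    · obtain ⟨g, hg, hgv⟩ := fl.moveC v hb hvW
      exact hgv (hv g (hP (Subgroup.mem_sup_right hg)))
    · obtain ⟨g, hg, hgv⟩ := fl.moveA v hb
      exact hgv (hv g (hP (Subgroup.mem_sup_left hg)))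
  · have hle : fixSeq ρ (P : Subgroup G) 2 ≤ Submodule.span F {x, w} := by
      intro v hv
      rw [mem_fixSeq_succ, h1] at hv
      by_contra hvW
      by_cases hb : B v x = 0
      · obtain ⟨g, hg, hgv⟩ := fl.moveC v hb hvW
        exact hgv (hv g (hP (Subgroup.mem_sup_right hg)))
      · obtain ⟨g, hg, hgv⟩ := fl.moveA v hb
        exact hgv (hv g (hP (Subgroup.mem_sup_left hg)))
    obtain ⟨v, hv, hfix⟩ := exists_fixed_mod (ρ := ρ) P.isPGroup' (S := Submodule.span F {x})
      (fun e => fl.w_notMem (e ▸ Submodule.mem_top))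
      (fun u hu => by rw [← h1]; exact fixSeq_invariant _ hu 1)
    have hv2 : v ∈ fixSeq ρ (P : Subgroup G) 2 := by rw [mem_fixSeq_succ, h1]; exact hfix
    have hx2 : x ∈ fixSeq ρ (P : Subgroup G) 2 :=
      fixSeq_mono _ 1 (h1.ge (Submodule.mem_span_singleton_self x))
    obtain ⟨a, b, hab⟩ := Submodule.mem_span_pair.1 (hle hv2)
    have hb : b ≠ 0 := fun e => hv (by
      rw [← hab, e, zero_smul, add_zero]; exact Submodule.smul_mem _ _ (Submodule.mem_span_singleton_self x))
    have hw2 := Submodule.smul_mem _ b⁻¹ (sub_mem hv2 (Submodule.smul_mem _ a hx2))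
    rw [← hab, add_sub_cancel_left, smul_smul, inv_mul_cancel₀ hb, one_smul] at hw2
    rw [Submodule.span_le]
    rintro v (rfl | rfl)
    · exact hx2
    · exact hw2

/-- The stabilizers of the point and of the line are the two pieces. -/
theorem Flag.hasPieces [Fact p.Prime] [CharP F p] [Finite F] [Finite V] [Finite G] (fl : Flag h x w)
    (hπ : Function.Surjective π) (hz : π.ker ≤ Subgroup.center G) (hgood : Good p G) (P : Sylow p G)
    (h1 : fixSeq ρ (P : Subgroup G) 1 = Submodule.span F {x})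
    (h2 : fixSeq ρ (P : Subgroup G) 2 = Submodule.span F {x, w}) {Γ : Subgroup (MulAut K)}
    (hΓP : Inv Γ ((P : Subgroup G).map π)) (hall : ∀ γ ∈ Γ, ∃ φ : V ≃+ V, Intertwines π ρ ρ γ φ) :
    HasPieces Γ := by
  haveI : Nontrivial V := ⟨⟨x, 0, fl.x_ne⟩⟩
  set f := fixSeq ρ (P : Subgroup G)
  obtain ⟨g, hgx, hgw, hgn, v₀, hv₀, hv₀'⟩ := fl.swap
  have hxW : x ∈ Submodule.span F {x, w} := Submodule.subset_span (Set.mem_insert _ _)
  have hgW : ∀ v ∈ f 2, ρ g v ∈ f 2 := by
    rw [h2]
    intro v hv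
    obtain ⟨a, b, rfl⟩ := Submodule.mem_span_pair.1 hv
    rw [map_add, map_smul, map_smul]
    exact add_mem (Submodule.smul_mem _ a hgx) (Submodule.smul_mem _ b hgw)
  have hne1 : stabK π ρ (f 1 : Set V) ≠ ⊤ :=
    stabK_fixSeq_ne_top hπ hz _ 1 (h1.ge (Submodule.mem_span_singleton_self x)) (fun e => hgn (h1.le e))
  refine ⟨_, _, inv_stabK hz h.inj P hΓP hall 1, inv_stabK hz h.inj P hΓP hall 2, hne1, ?_, ?_⟩
  · obtain ⟨u, v, hv, hv'⟩ : ∃ g : G, ∃ v ∈ f 2, ρ g v ∉ f 2 := by
      by_contra hcon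
      push Not at hcon
      have hWx : ∀ v ∈ f 2, B v x = 0 := by
        rw [h2]
        intro v hv
        obtain ⟨a, b, rfl⟩ := Submodule.mem_span_pair.1 hv
        rw [h.add_left, h.smul_left, h.smul_left, fl.xx, fl.wx, mul_zero, mul_zero, add_zero]
      have hall' : ∀ v, B v x = 0 → v ∈ f 2 := fl.perp (f 2) (h2.ge hxW)
        (h2.ge (Submodule.subset_span (Set.mem_insert_of_mem x (Set.mem_singleton w)))) fun g _ v hv => hcon g v hv
      exact hv₀' (hWx _ (hcon g v₀ (hall' v₀ hv₀)))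
    exact stabK_fixSeq_ne_top hπ hz _ 2 hv hv'
  · by_contra hsup
    have hP1 : (P : Subgroup G).map π ≤ stabK π ρ (f 1 : Set V) ⊔ stabK π ρ (f 2 : Set V) := by
      refine le_trans ?_ le_sup_left
      rintro _ ⟨u, hu, rfl⟩
      exact ⟨u, mem_setStab_of_mapsTo (fixSeq_invariant _ hu 1), rfl⟩
    obtain ⟨S, hS0, hS1, hSP, hS⟩ := exists_invariant_submodule' hgood hπ h.inj P hP1 hsup
    have hx : x ∈ S := by
      obtain ⟨v, hv, hv0, hfix⟩ := exists_fixed_ne_zero (τ := ρ) P.isPGroup' hS0 hSP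
      have hmem : v ∈ f 1 := mem_fixSeq_succ.2 fun u hu => by rw [hfix u hu, sub_self]; exact zero_mem _
      obtain ⟨c, rfl⟩ := Submodule.mem_span_singleton.1 (h1.le hmem)
      have hc0 : c ≠ 0 := fun e => hv0 (by rw [e, zero_smul])
      have := Submodule.smul_mem _ c⁻¹ hv
      rwa [smul_smul, inv_mul_cancel₀ hc0, one_smul] at this
    have hstab2 : ∀ v ∈ S, ρ g v ∈ S :=
      hS g (Subgroup.mem_sup_right (Subgroup.mem_map_of_mem π (mem_setStab_of_mapsTo hgW)))
    have hw : w ∈ S := by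
      obtain ⟨a, b, hab⟩ := Submodule.mem_span_pair.1 hgx
      have hb : b ≠ 0 := fun e => hgn (by
        rw [← hab, e, zero_smul, add_zero]; exact Submodule.smul_mem _ _ (Submodule.mem_span_singleton_self x))
      have := Submodule.smul_mem _ b⁻¹ (sub_mem (hstab2 x hx) (Submodule.smul_mem _ a hx))
      rwa [← hab, add_sub_cancel_left, smul_smul, inv_mul_cancel₀ hb, one_smul] at this
    have hperp : ∀ v, B v x = 0 → v ∈ S := fl.perp S hx hw fun k hk =>
      hS k (Subgroup.mem_sup_left (Subgroup.mem_map_of_mem π (mem_setStab_of_mapsTo fun v hv => by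
        obtain ⟨c, rfl⟩ := Submodule.mem_span_singleton.1 (h1.le hv)
        rw [map_smul]
        exact Submodule.smul_mem _ c (h1.ge hk))))
    refine hS1 (eq_top_iff.2 fun v _ => ?_)
    have hv1 := hstab2 v₀ (hperp v₀ hv₀)
    have := hperp (v + (-(B v x / B (ρ g v₀) x)) • ρ g v₀) (by
      rw [h.add_left, h.smul_left, neg_mul, div_mul_cancel₀ _ hv₀', add_neg_cancel])
    have := sub_mem this (S.smul_mem (-(B v x / B (ρ g v₀) x)) hv1)
    rwa [add_sub_cancel_right] at this

theorem Flag.isRigid [Fact p.Prime] [CharP F p] [Finite F] [Finite V] [Finite G] [Finite K] (fl : Flag h x w)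
    (hπ : Function.Surjective π) (hz : π.ker ≤ Subgroup.center G) (hgood : Good p G)
    (hall : ∀ γ : MulAut K, ∃ φ : V ≃+ V, Intertwines π ρ ρ γ φ) : IsRigid p K := by
  obtain ⟨P, h1, h2⟩ := fl.exists_sylow (p := p)
  exact isRigid_of_one (P.mapSurjective hπ) fun Γ _ hinv =>
    fl.hasPieces hπ hz hgood P h1 h2 hinv fun γ _ => hall γ

end Cfsg.Agent.Lib.PMinimalLie
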