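import Cfsg.Agent.Lib.PMinimalLie.Transport
import Cfsg.Agent.Lib.SylowOvergroup.Small

/-!
`L₂(8)` at the prime three: the index of an overgroup of a Sylow normalizer is congruent to one.
-/

set_option autoImplicit false

namespace Cfsg.Agent.Lib.PMinimalLie

theorem index_modEq_one {G : Type*} [Group G] [Finite G] {p : ℕ} [Fact p.Prime] (U : Sylow p G) (Y : Subgroup G)
    (hY : Subgroup.normalizer ((U : Subgroup G) : Set G) ≤ Y) : Y.index ≡ 1 [MOD p] := by
  set N := Subgroup.normalizer ((U : Subgroup G) : Set G)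
  have h1 : N.index ≡ 1 [MOD p] := by
    have e1 : Nat.card (Sylow p G) = N.index := Sylow.card_eq_index_normalizer U
    rw [← e1]
    exact card_sylow_modEq_one p G
  have hUY : (U : Subgroup G) ≤ Y := Subgroup.le_normalizer.trans hY
  have e : Subgroup.normalizer (((U.subtype hUY : Sylow p ↥Y) : Subgroup ↥Y) : Set ↥Y) = N.subgroupOf Y := by
    rw [Sylow.coe_subtype]
    exact (Subgroup.subgroupOf_normalizer_eq hUY).symm
  have h2 : N.relIndex Y ≡ 1 [MOD p] := by
    have e2 : Nat.card (Sylow p ↥Y) = (N.subgroupOf Y).index :=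
      (Sylow.card_eq_index_normalizer (U.subtype hUY)).trans (congrArg Subgroup.index e)
    rw [Subgroup.relIndex, ← e2]
    exact card_sylow_modEq_one p ↥Y
  have h3 : N.relIndex Y * Y.index = N.index := Subgroup.relIndex_mul_index hY
  calc Y.index = 1 * Y.index := (one_mul _).symm
    _ ≡ N.relIndex Y * Y.index [MOD p] := (h2.symm).mul_right _
    _ ≡ 1 [MOD p] := h3 ▸ h1

theorem isSingle_L28 {F : Type*} [Field F] [Fintype F] (hF : Fintype.card F = 8) :
    IsSingle 3 (Matrix.ProjectiveSpecialLinearGroup (Fin 2) F) := by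
  haveI : Fact (Nat.Prime 3) := ⟨Nat.prime_three⟩
  haveI : Finite (Matrix.ProjectiveSpecialLinearGroup (Fin 2) F) := inferInstance
  intro U Γ _ _ Y hY hYt _
  have hc : Nat.card (Matrix.ProjectiveSpecialLinearGroup (Fin 2) F) = 3 ^ 2 * 56 := by
    have h := LinGroup.card_PSL_mul (F := F) 2 (by norm_num)
    rw [hF, Fin.prod_univ_two] at h
    norm_num at h ⊢
    omega
  set N := Subgroup.normalizer ((U : Subgroup (Matrix.ProjectiveSpecialLinearGroup (Fin 2) F)) :
    Set (Matrix.ProjectiveSpecialLinearGroup (Fin 2) F))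
  have hU56 : (U : Subgroup (Matrix.ProjectiveSpecialLinearGroup (Fin 2) F)).index ∣ 56 := by
    have h2 : Nat.Coprime (U : Subgroup (Matrix.ProjectiveSpecialLinearGroup (Fin 2) F)).index (3 ^ 2) :=
      ((Nat.prime_three.coprime_iff_not_dvd.2 U.not_dvd_index).symm).pow_right 2
    exact h2.dvd_of_dvd_mul_left (hc ▸ Subgroup.index_dvd_card _)
  have hd : ∀ W, N ≤ W → W ≠ ⊤ → W.index = 28 := by
    intro W hW hWt
    have h1 : W.index % 3 = 1 := index_modEq_one U W hW
    have h2 := (Cfsg.Agent.S0806.result (F := F) hF (by simp)).1 W hWt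
    have h3 : W.index ∣ 56 := (Subgroup.index_dvd_of_le (Subgroup.le_normalizer.trans hW)).trans hU56
    have := Nat.le_of_dvd (by norm_num) h3
    interval_cases h4 : W.index <;> omega
  have hNt : N ≠ ⊤ := fun e => hYt (top_le_iff.1 (e ▸ hY))
  refine (Subgroup.eq_of_le_of_card_ge hY ?_).ge
  have h1 := N.card_mul_index
  have h2 := Y.card_mul_index
  rw [hd N le_rfl hNt] at h1
  rw [hd Y hY hYt] at h2
  omega

end Cfsg.Agent.Lib.PMinimalLie
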