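import Cfsg.Agent.Lib.PMinimalLie.Rep
import Cfsg.Agent.Lib.PMinimalLie.Transport
import Cfsg.Agent.Lib.PSLAut.Main
import Cfsg.Agent.Lib.PSLAut.Sylow
import Cfsg.Agent.Lib.SylowOvergroup.Linear

/-!
The projective special linear groups.
-/

set_option autoImplicit false

namespace Cfsg.Agent.Lib.PMinimalLie

open Matrix PSLAut

variable {n : ℕ} {F : Type*} [Field F]

/-- the natural representation -/
abbrev natRep (n : ℕ) (F : Type*) [Field F] : SLn n F →* ((Fin n → F) ≃ₗ[F] (Fin n → F)) :=
  SylowOvergroup.slRep n F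

/-- the contragredient representation -/
noncomputable abbrev dualRep (n : ℕ) (F : Type*) [Field F] : SLn n F →* ((Fin n → F) ≃ₗ[F] (Fin n → F)) :=
  (natRep n F).comp (slInvTrans : MulAut (SLn n F)).toMonoidHom

theorem natRep_apply (s : SLn n F) (v : Fin n → F) : natRep n F s v = (s : Matrix (Fin n) (Fin n) F) *ᵥ v :=
  (Matrix.SpecialLinearGroup.toLin'_apply s v).trans rfl

theorem natRep_injective : Function.Injective (natRep n F) := Matrix.SpecialLinearGroup.toLin'_injective

theorem dualRep_injective : Function.Injective (dualRep n F) :=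
  natRep_injective.comp (slInvTrans : MulAut (SLn n F)).injective

theorem ker_proj_le : (proj : SLn n F →* PSLn n F).ker ≤ Subgroup.center (SLn n F) :=
  le_of_eq (QuotientGroup.ker_mk' _)

/-- the first `k` coordinate axes -/
def headSpace (n : ℕ) (F : Type*) [Field F] (k : ℕ) : Submodule F (Fin n → F) where
  carrier := {v | ∀ i : Fin n, k ≤ i → v i = 0}
  add_mem' ha hb i hi := by rw [Pi.add_apply, ha i hi, hb i hi, add_zero]
  zero_mem' _ _ := rfl
  smul_mem' c _ ha i hi := by rw [Pi.smul_apply, ha i hi, smul_zero]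

/-- the last `k` coordinate axes -/
def tailSpace (n : ℕ) (F : Type*) [Field F] (k : ℕ) : Submodule F (Fin n → F) where
  carrier := {v | ∀ i : Fin n, (i : ℕ) + k < n → v i = 0}
  add_mem' ha hb i hi := by rw [Pi.add_apply, ha i hi, hb i hi, add_zero]
  zero_mem' _ _ := rfl
  smul_mem' c _ ha i hi := by rw [Pi.smul_apply, ha i hi, smul_zero]

theorem ncard_tail_eq_head (k : ℕ) :
    (tailSpace n F k : Set (Fin n → F)).ncard = (headSpace n F k : Set (Fin n → F)).ncard := by
  let f : (Fin n → F) → (Fin n → F) := fun v i => v i.rev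
  have hf : Function.Injective f := fun a b h => funext fun i => by
    have := congrFun h i.rev; simpa [f] using this
  rw [← Set.ncard_image_of_injective _ hf]
  congr 1
  ext v
  constructor
  · rintro ⟨w, hw, rfl⟩ i hi
    refine hw _ ?_
    rw [Fin.val_rev]; omega
  · intro hv
    refine ⟨f v, fun i hi => hv _ ?_, funext fun i => by simp [f]⟩
    rw [Fin.val_rev]; omega

theorem transvection_mulVec_ne {i j l : Fin n} (h : l ≠ i) (c : F) (v : Fin n → F) :
    (Matrix.transvection i j c *ᵥ v) l = v l := by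
  rw [LinGroup.transvection_mulVec_apply, if_neg h]

theorem natRep_transvection {i j : Fin n} (h : i ≠ j) (c : F) (v : Fin n → F) :
    natRep n F (Matrix.SpecialLinearGroup.transvection h c) v = Matrix.transvection i j c *ᵥ v :=
  natRep_apply _ v

theorem dualRep_transvection {i j : Fin n} (h : i ≠ j) (c : F) (v : Fin n → F) :
    dualRep n F (Matrix.SpecialLinearGroup.transvection h c) v = Matrix.transvection j i (-c) *ᵥ v := by
  show natRep n F (slInvTrans (Matrix.SpecialLinearGroup.transvection h c)) v = _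
  rw [natRep_apply]
  congr 1
  show (((Matrix.SpecialLinearGroup.transvection h c)⁻¹ : SLn n F).transpose : Matrix (Fin n) (Fin n) F) = _
  have hinv : (Matrix.SpecialLinearGroup.transvection h c : SLn n F)⁻¹ = Matrix.SpecialLinearGroup.transvection h (-c) := by
    refine inv_eq_of_mul_eq_one_right (Subtype.ext ?_)
    rw [Matrix.SpecialLinearGroup.coe_mul, LinGroup.coe_transvection, LinGroup.coe_transvection,
      Matrix.transvection_mul_transvection_same _ _ h, add_neg_cancel, Matrix.transvection_zero]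
    rfl
  rw [hinv, Matrix.SpecialLinearGroup.coe_transpose, LinGroup.coe_transvection, Matrix.transvection,
    Matrix.transvection, Matrix.transpose_add, Matrix.transpose_one, Matrix.transpose_single]

variable [Fintype F] {p : ℕ} [Fact p.Prime] [CharP F p]

/-- the unitriangular matrices -/
def unitriSL (n : ℕ) (F : Type*) [Field F] [Fintype F] : Subgroup (SLn n F) :=
  (unitriGL n F).comap Matrix.SpecialLinearGroup.toGL

omit [Fact p.Prime] [CharP F p] in
theorem mem_unitriSL {s : SLn n F} : s ∈ unitriSL n F ↔ IsUnitri (s : Matrix (Fin n) (Fin n) F) := Iff.rfl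

theorem exists_sylow_unitri (n : ℕ) : ∃ P : Sylow p (SLn n F), (P : Subgroup (SLn n F)) = unitriSL n F := by
  have hp : IsPGroup p ↥(unitriSL n F) := by
    obtain ⟨f, hp, hf⟩ := FiniteField.card F p
    have h : IsPGroup p ↥(unitriGL n F) :=
      IsPGroup.of_card (n := (f : ℕ) * upperCount n) (by rw [card_unitriGL, hf, ← pow_mul])
    exact h.comap_of_injective _ Matrix.SpecialLinearGroup.toGL_injective
  refine ⟨hp.toSylow fun hd => not_dvd_index_unitriGL (n := n) (F := F) (p := p) (hd.trans ?_), rfl⟩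
  rw [unitriSL, Subgroup.index_comap]
  have hle : unitriGL n F ≤ (Matrix.SpecialLinearGroup.toGL : SLn n F →* GL (Fin n) F).range :=
    fun g hg => ⟨⟨_, det_eq_one_of_mem hg⟩, Units.ext rfl⟩
  exact ⟨_, (Subgroup.relIndex_mul_index hle).symm⟩

omit [Fact p.Prime] [CharP F p] in
theorem transvection_mem_unitri {i j : Fin n} (h : i < j) (c : F) :
    Matrix.SpecialLinearGroup.transvection h.ne c ∈ unitriSL n F := mem_unitriSL.2 (isUnitri_transvection h c)

omit [Fact p.Prime] [CharP F p] in
theorem fixSeq_nat : ∀ k : ℕ, k ≤ n → fixSeq (natRep n F) (unitriSL n F) k = headSpace n F k := by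
  intro k
  induction k with
  | zero =>
    intro _
    refine (eq_bot_iff.2 fun v hv => ?_).symm
    exact (Submodule.mem_bot F).2 (funext fun i => hv i (Nat.zero_le _))
  | succ k ih =>
    intro hk
    ext v
    rw [mem_fixSeq_succ, ih (by omega)]
    constructor
    · intro h j hj
      have hkj : (⟨k, by omega⟩ : Fin n) < j := by rw [Fin.lt_def]; show k < (j : ℕ); omega
      have := h _ (transvection_mem_unitri hkj 1) ⟨k, by omega⟩ le_rfl
      rw [natRep_transvection, Pi.sub_apply, LinGroup.transvection_mulVec_apply, if_pos rfl, one_mul,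
        add_sub_cancel_left] at this
      exact this
    · intro hv u hu i hi
      rw [natRep_apply, Pi.sub_apply, sub_eq_zero, Matrix.mulVec, dotProduct, Finset.sum_eq_single i]
      · rw [(mem_unitriSL.1 hu).1, one_mul]
      · intro l _ hl
        rcases lt_or_gt_of_ne hl with h1 | h1
        · rw [(mem_unitriSL.1 hu).2 i l h1, zero_mul]
        · rw [hv l (by rw [Fin.lt_def] at h1; omega), mul_zero]
      · simp

omit [Fact p.Prime] [CharP F p] in
theorem fixSeq_dual : ∀ k : ℕ, k ≤ n → fixSeq (dualRep n F) (unitriSL n F) k = tailSpace n F k := by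
  intro k
  induction k with
  | zero =>
    intro _
    refine (eq_bot_iff.2 fun v hv => ?_).symm
    exact (Submodule.mem_bot F).2 (funext fun i => hv i (by omega))
  | succ k ih =>
    intro hk
    ext v
    rw [mem_fixSeq_succ, ih (by omega)]
    constructor
    · intro h j hj
      have hjk : j < (⟨n - 1 - k, by omega⟩ : Fin n) := by rw [Fin.lt_def]; show (j : ℕ) < n - 1 - k; omega
      have := h _ (transvection_mem_unitri hjk 1) ⟨n - 1 - k, by omega⟩ (by show n - 1 - k + k < n; omega)
      rw [dualRep_transvection, Pi.sub_apply, LinGroup.transvection_mulVec_apply, if_pos rfl,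
        add_sub_cancel_left, neg_one_mul, neg_eq_zero] at this
      exact this
    · intro hv u hu i hi
      have hu' : IsUnitri ((u⁻¹ : SLn n F) : Matrix (Fin n) (Fin n) F) := mem_unitriSL.1 (inv_mem hu)
      show (natRep n F (slInvTrans u) v - v) i = 0
      rw [natRep_apply, show ((slInvTrans u : SLn n F) : Matrix (Fin n) (Fin n) F) =
        ((u⁻¹ : SLn n F) : Matrix (Fin n) (Fin n) F)ᵀ from Matrix.SpecialLinearGroup.coe_transpose _,
        Pi.sub_apply, sub_eq_zero, Matrix.mulVec, dotProduct, Finset.sum_eq_single i]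
      · rw [Matrix.transpose_apply, hu'.1, one_mul]
      · intro l _ hl
        rcases lt_or_gt_of_ne hl with h1 | h1
        · rw [hv l (by rw [Fin.lt_def] at h1; omega), mul_zero]
        · rw [Matrix.transpose_apply, hu'.2 l i h1, zero_mul]
      · simp

omit [Fintype F] [Fact p.Prime] [CharP F p] in
/-- semilinear map of the module -/
noncomputable def semiMap (g : GL (Fin n) F) (σ : F ≃+* F) : (Fin n → F) ≃+ (Fin n → F) where
  toFun v := (g : Matrix (Fin n) (Fin n) F) *ᵥ fun i => σ (v i)
  invFun v i := σ.symm ((((g⁻¹ : GL (Fin n) F) : Matrix (Fin n) (Fin n) F) *ᵥ v) i)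
  left_inv v := funext fun i => by
    simp only [mulVec_mulVec, Units.inv_mul, one_mulVec, RingEquiv.symm_apply_apply]
  right_inv v := by
    simp only [RingEquiv.apply_symm_apply, mulVec_mulVec, Units.mul_inv, one_mulVec]
  map_add' u v := by
    rw [← mulVec_add]; congr 1; funext i; simp

omit [Fintype F] [Fact p.Prime] [CharP F p] in
theorem natRep_semiMap (g : GL (Fin n) F) (σ : F ≃+* F) (s : SLn n F) (v : Fin n → F) :
    natRep n F (slConjFun g (Matrix.SpecialLinearGroup.map σ.toRingHom s)) (semiMap g σ v) =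
      semiMap g σ (natRep n F s v) := by
  rw [natRep_apply, natRep_apply, coe_slConjFun, coe_map_sl]
  show _ *ᵥ ((g : Matrix (Fin n) (Fin n) F) *ᵥ fun i => σ (v i)) = (g : Matrix (Fin n) (Fin n) F) *ᵥ _
  rw [mulVec_mulVec, Matrix.mul_assoc, Units.inv_mul, Matrix.mul_one, ← mulVec_mulVec]
  congr 1
  funext i
  simp [Matrix.mulVec, dotProduct, map_sum]

omit [Fintype F] [Fact p.Prime] [CharP F p] in
theorem slInvTrans_semi (g : GL (Fin n) F) (σ : F ≃+* F) (s : SLn n F) :
    slInvTrans (slConjFun g (Matrix.SpecialLinearGroup.map σ.toRingHom s)) =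
      slConjFun (glInvTrans g) (Matrix.SpecialLinearGroup.map σ.toRingHom (slInvTrans s)) := by
  show ((slConjFun g (Matrix.SpecialLinearGroup.map σ.toRingHom s))⁻¹).transpose = _
  refine Subtype.ext ?_
  rw [show (slConjFun g (Matrix.SpecialLinearGroup.map σ.toRingHom s))⁻¹ =
      slConjFun g (Matrix.SpecialLinearGroup.map σ.toRingHom s⁻¹) from
      ((map_inv (slConj g) _).symm.trans (by rw [← map_inv]; rfl)),
    Matrix.SpecialLinearGroup.coe_transpose, coe_slConjFun, coe_slConjFun, coe_map_sl, coe_map_sl,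
    Matrix.transpose_mul, Matrix.transpose_mul, ← Matrix.mul_assoc]
  rw [← map_inv, coe_glInvTrans, coe_glInvTrans, inv_inv]
  rfl

omit [Fintype F] [Fact p.Prime] [CharP F p] in
theorem intertwines_semi (g : GL (Fin n) F) (σ : F ≃+* F) :
    Intertwines proj (natRep n F) (natRep n F) (conj g * fieldAut σ) (semiMap g σ) ∧
    Intertwines proj (dualRep n F) (dualRep n F) (conj g * fieldAut σ) (semiMap (glInvTrans g) σ) := by
  refine ⟨fun s => ⟨_, rfl, natRep_semiMap g σ s⟩, fun s => ⟨_, rfl, fun v => ?_⟩⟩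
  show natRep n F (slInvTrans (slConjFun g (Matrix.SpecialLinearGroup.map σ.toRingHom s))) _ = _
  rw [slInvTrans_semi, natRep_semiMap]
  rfl

omit [Fintype F] [Fact p.Prime] [CharP F p] in
theorem intertwines_flip (g : GL (Fin n) F) (σ : F ≃+* F) :
    Intertwines proj (dualRep n F) (natRep n F) (conj g * fieldAut σ * invTrans) (semiMap g σ) ∧
    Intertwines proj (natRep n F) (dualRep n F) (conj g * fieldAut σ * invTrans) (semiMap (glInvTrans g) σ) := by
  refine ⟨fun s => ⟨_, rfl, natRep_semiMap g σ (slInvTrans s)⟩, fun s => ⟨_, rfl, fun v => ?_⟩⟩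
  show natRep n F (slInvTrans (slConjFun g (Matrix.SpecialLinearGroup.map σ.toRingHom (slInvTrans s)))) _ = _
  rw [slInvTrans_semi, show slInvTrans (slInvTrans s) = s from slInvTrans.left_inv s, natRep_semiMap]

/-- induced by a semilinear map -/
def IsSemi (β : MulAut (PSLn n F)) : Prop := ∃ (g : GL (Fin n) F) (σ : F ≃+* F), β = conj g * fieldAut σ

omit [Fintype F] [Fact p.Prime] [CharP F p] in
theorem isSemi_mul_self (hn : 2 ≤ n) [Finite F] (δ : MulAut (PSLn n F)) : IsSemi (δ * δ) := by
  haveI := Fintype.ofFinite F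
  obtain ⟨g, σ, ε, hε, rfl⟩ := exists_eq_conj_mul_fieldAut_mul hn δ
  rcases hε with rfl | rfl
  · refine ⟨g * glField σ g, σ * σ, ?_⟩
    simp only [mul_one, map_mul, ← mul_assoc]
    rw [mul_assoc (conj g) (fieldAut σ) (conj g), fieldAut_mul_conj, ← mul_assoc]
  · refine ⟨g * glField σ (glInvTrans g), σ * σ, ?_⟩
    calc conj g * fieldAut σ * invTrans * (conj g * fieldAut σ * invTrans)
        = conj g * fieldAut σ * (invTrans * conj g) * fieldAut σ * invTrans := by group
      _ = conj g * (fieldAut σ * conj (glInvTrans g)) * (invTrans * fieldAut σ) * invTrans := by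
          rw [invTrans_mul_conj]; group
      _ = conj g * (conj (glField σ (glInvTrans g)) * fieldAut σ) * (fieldAut σ * invTrans) * invTrans := by
          rw [fieldAut_mul_conj, invTrans_mul_fieldAut]
      _ = conj (g * glField σ (glInvTrans g)) * fieldAut (σ * σ) * (invTrans * invTrans) := by
          rw [map_mul, map_mul]; group
      _ = _ := by rw [invTrans_mul_self, mul_one]

/-- the image of the unitriangular group -/
abbrev uPSL (n : ℕ) (F : Type*) [Field F] [Fintype F] : Subgroup (PSLn n F) := (unitriSL n F).map proj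

/-- the stabilizer of the first `k` axes -/
abbrev headStab (n : ℕ) (F : Type*) [Field F] (k : ℕ) : Subgroup (PSLn n F) :=
  stabK proj (natRep n F) (headSpace n F k : Set (Fin n → F))

/-- the stabilizer of the last `k` axes in the contragredient action -/
noncomputable abbrev tailStab (n : ℕ) (F : Type*) [Field F] (k : ℕ) : Subgroup (PSLn n F) :=
  stabK proj (dualRep n F) (tailSpace n F k : Set (Fin n → F))

theorem image_head {γ : MulAut (PSLn n F)} (hγ : ∀ x ∈ uPSL n F, γ x ∈ uPSL n F)
    {φ : (Fin n → F) ≃+ (Fin n → F)} {k : ℕ} (hk : k ≤ n) :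
    (Intertwines proj (natRep n F) (natRep n F) γ φ →
      φ '' (headSpace n F k : Set (Fin n → F)) = headSpace n F k) ∧
    (Intertwines proj (natRep n F) (dualRep n F) γ φ →
      φ '' (headSpace n F k : Set (Fin n → F)) = tailSpace n F k) ∧
    (Intertwines proj (dualRep n F) (natRep n F) γ φ →
      φ '' (tailSpace n F k : Set (Fin n → F)) = headSpace n F k) ∧
    (Intertwines proj (dualRep n F) (dualRep n F) γ φ →
      φ '' (tailSpace n F k : Set (Fin n → F)) = tailSpace n F k) := by
  obtain ⟨p, hpc⟩ := CharP.exists F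
  haveI : Fact p.Prime := ⟨CharP.char_is_prime F p⟩
  obtain ⟨P, hP⟩ := exists_sylow_unitri (p := p) (F := F) n
  have hγ' : ∀ x ∈ (P : Subgroup (SLn n F)).map proj, γ x ∈ (P : Subgroup (SLn n F)).map proj := by
    rw [hP]; exact hγ
  have hc := ncard_tail_eq_head (n := n) (F := F) k
  refine ⟨fun h => ?_, fun h => ?_, fun h => ?_, fun h => ?_⟩ <;>
    refine Set.eq_of_subset_of_ncard_le ?_ (by rw [Set.ncard_image_of_injective _ φ.injective] <;> omega) <;>
    rintro _ ⟨v, hv, rfl⟩
  · have := image_fixSeq_subset ker_proj_le natRep_injective natRep_injective P hγ' h k v (by rw [hP, fixSeq_nat k hk]; exact hv)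
    rwa [hP, fixSeq_nat k hk] at this
  · have := image_fixSeq_subset ker_proj_le natRep_injective dualRep_injective P hγ' h k v (by rw [hP, fixSeq_nat k hk]; exact hv)
    rwa [hP, fixSeq_dual k hk] at this
  · have := image_fixSeq_subset ker_proj_le dualRep_injective natRep_injective P hγ' h k v (by rw [hP, fixSeq_dual k hk]; exact hv)
    rwa [hP, fixSeq_nat k hk] at this
  · have := image_fixSeq_subset ker_proj_le dualRep_injective dualRep_injective P hγ' h k v (by rw [hP, fixSeq_dual k hk]; exact hv)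
    rwa [hP, fixSeq_dual k hk] at this

theorem map_headStab {γ : MulAut (PSLn n F)} (hγ : ∀ x ∈ uPSL n F, γ x ∈ uPSL n F) {k : ℕ} (hk : k ≤ n)
    (h : IsSemi γ) : ∀ y ∈ headStab n F k, γ y ∈ headStab n F k := by
  obtain ⟨g, σ, rfl⟩ := h
  exact map_stabK_subset (intertwines_semi g σ).1 ((image_head hγ hk).1 (intertwines_semi g σ).1)

theorem map_flagStab (hn : 2 ≤ n) {γ : MulAut (PSLn n F)} (hγ : ∀ x ∈ uPSL n F, γ x ∈ uPSL n F) {k : ℕ}
    (hk : k ≤ n) : ∀ y ∈ headStab n F k ⊓ tailStab n F k, γ y ∈ headStab n F k ⊓ tailStab n F k := by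
  obtain ⟨g, σ, ε, hε, rfl⟩ := exists_eq_conj_mul_fieldAut_mul hn γ
  rcases hε with rfl | rfl
  · rw [mul_one] at hγ ⊢
    have hi := intertwines_semi g σ
    exact fun y hy => ⟨map_stabK_subset hi.1 ((image_head hγ hk).1 hi.1) y hy.1,
      map_stabK_subset hi.2 ((image_head hγ hk).2.2.2 hi.2) y hy.2⟩
  · have hi := intertwines_flip g σ
    exact fun y hy => ⟨map_stabK_subset hi.1 ((image_head hγ hk).2.2.1 hi.1) y hy.2,
      map_stabK_subset hi.2 ((image_head hγ hk).2.1 hi.2) y hy.1⟩

omit [Fact p.Prime] [CharP F p] in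
theorem rootElt_mem_headStab {i j : Fin n} (h : i ≠ j) (t : F) {k : ℕ} (hk : ¬ ((j : ℕ) < k ∧ k ≤ i)) :
    rootElt i j h t ∈ headStab n F k := by
  refine ⟨_, mem_setStab_of_mapsTo fun v hv l hl => ?_, rfl⟩
  rw [natRep_transvection, LinGroup.transvection_mulVec_apply]
  split
  · next e =>
    subst e
    rw [hv l hl, hv j (by omega), mul_zero, zero_add]
  · exact hv l hl

omit [Fact p.Prime] [CharP F p] in
theorem rootElt_mem_tailStab {i j : Fin n} (h : i ≠ j) (t : F) {k : ℕ}
    (hk : ¬ ((j : ℕ) + k < n ∧ n ≤ i + k)) : rootElt i j h t ∈ tailStab n F k := by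
  refine ⟨_, mem_setStab_of_mapsTo fun v hv l hl => ?_, rfl⟩
  rw [dualRep_transvection, LinGroup.transvection_mulVec_apply]
  split
  · next e =>
    subst e
    rw [hv l hl, hv i (by omega), mul_zero, zero_add]
  · exact hv l hl

omit [Fact p.Prime] [CharP F p] in
theorem rootElt_notMem_headStab {i j : Fin n} (h : i ≠ j) {k : ℕ} (hk : (j : ℕ) < k ∧ k ≤ i) :
    rootElt i j h (1 : F) ∉ headStab n F k := by
  rintro ⟨s, hs, e⟩
  obtain ⟨c, hc⟩ := proj_eq_proj_iff.1 e
  have hej : (Pi.single j 1 : Fin n → F) ∈ headSpace n F k := fun l hl => by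
    rw [Pi.single_eq_of_ne]
    intro e; subst e; omega
  have h1 := (hs _).1 hej
  have h2 : natRep n F (Matrix.SpecialLinearGroup.transvection h (1 : F)) (Pi.single j 1) = c • natRep n F s (Pi.single j 1) := by
    rw [natRep_apply, natRep_apply, hc, Matrix.smul_mulVec]
  have h3 := congrFun h2 i
  rw [natRep_transvection, LinGroup.transvection_mulVec_apply, if_pos rfl, Pi.single_eq_same,
    Pi.single_eq_of_ne h, zero_add, one_mul, Pi.smul_apply, h1 i hk.2, smul_zero] at h3
  exact one_ne_zero h3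

omit [Fact p.Prime] [CharP F p] in
theorem eq_top_of_rootElt_mem {M : Subgroup (PSLn n F)} (h : ∀ (i j : Fin n) (hij : i ≠ j) (t : F), rootElt i j hij t ∈ M) :
    M = ⊤ := by
  have := LinGroup.eq_top_of_transvection_mem (M.comap proj) fun i j hij t => h i j hij t
  exact Subgroup.comap_injective proj_surjective (this.trans (Subgroup.comap_top _).symm)

omit [Fact p.Prime] [CharP F p] in
theorem rootElt_mem_of_two {M : Subgroup (PSLn n F)} {i j k : Fin n} (hij : i ≠ j) (hjk : j ≠ k) (hik : i ≠ k)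
    (h1 : ∀ t, rootElt i j hij t ∈ M) (h2 : ∀ t, rootElt j k hjk t ∈ M) (t : F) : rootElt i k hik t ∈ M := by
  have := rootElt_comm i j k hij hjk hik t (1 : F)
  rw [mul_one] at this
  rw [← this]
  exact mul_mem (mul_mem (mul_mem (h1 t) (h2 1)) (h1 (-t))) (h2 (-1))

/-- all automorphisms of `Γ` are semilinear -/
def AllSemi (Γ : Subgroup (MulAut (PSLn n F))) : Prop := ∀ γ ∈ Γ, IsSemi γ

theorem hasPieces_semi (hn : 3 ≤ n) {Γ : Subgroup (MulAut (PSLn n F))} (hinv : Inv Γ (uPSL n F))
    (hsemi : AllSemi Γ) : HasPieces Γ := by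
  refine ⟨headStab n F 1, headStab n F 2, fun γ hγ => map_headStab (hinv γ hγ) (by omega) (hsemi γ hγ),
    fun γ hγ => map_headStab (hinv γ hγ) (by omega) (hsemi γ hγ),
    fun e => rootElt_notMem_headStab (i := ⟨1, by omega⟩) (j := ⟨0, by omega⟩) (k := 1) (by simp) (by simp)
      (e ▸ Subgroup.mem_top _),
    fun e => rootElt_notMem_headStab (i := ⟨2, by omega⟩) (j := ⟨0, by omega⟩) (k := 2) (by simp) (by simp)
      (e ▸ Subgroup.mem_top _), eq_top_of_rootElt_mem fun i j hij t => ?_⟩
  by_cases h1 : ¬ ((j : ℕ) < 1 ∧ 1 ≤ (i : ℕ))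
  · exact Subgroup.mem_sup_left (rootElt_mem_headStab hij t h1)
  push Not at h1
  have hz : (⟨1, by omega⟩ : Fin n) ≠ j := by intro e; have := congrArg Fin.val e; simp only at this; omega
  by_cases hi : i = (⟨1, by omega⟩ : Fin n)
  · have := congrArg Fin.val hi
    exact Subgroup.mem_sup_right (rootElt_mem_headStab hij t (by simp only at this; omega))
  · refine rootElt_mem_of_two hi hz hij (fun t => Subgroup.mem_sup_left (rootElt_mem_headStab hi t (by simp)))
      (fun t => Subgroup.mem_sup_right (rootElt_mem_headStab hz t (by simp))) t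

theorem hasPieces_large (hn : 4 ≤ n) {Γ : Subgroup (MulAut (PSLn n F))} (hinv : Inv Γ (uPSL n F)) :
    HasPieces Γ := by
  refine ⟨headStab n F 1 ⊓ tailStab n F 1, headStab n F 2 ⊓ tailStab n F 2,
    fun γ hγ => map_flagStab (by omega) (hinv γ hγ) (by omega),
    fun γ hγ => map_flagStab (by omega) (hinv γ hγ) (by omega),
    fun e => rootElt_notMem_headStab (i := ⟨1, by omega⟩) (j := ⟨0, by omega⟩) (k := 1) (by simp) (by simp)
      ((inf_eq_top_iff.1 e).1 ▸ Subgroup.mem_top _),
    fun e => rootElt_notMem_headStab (i := ⟨2, by omega⟩) (j := ⟨0, by omega⟩) (k := 2) (by simp) (by simp)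
      ((inf_eq_top_iff.1 e).1 ▸ Subgroup.mem_top _), eq_top_of_rootElt_mem fun i j hij t => ?_⟩
  set M := (headStab n F 1 ⊓ tailStab n F 1) ⊔ (headStab n F 2 ⊓ tailStab n F 2)
  have mid : ∀ (a b : Fin n) (hab : a ≠ b) (t : F), ¬ ((b : ℕ) < 1 ∧ 1 ≤ (a : ℕ)) → ¬ ((b : ℕ) + 1 < n ∧ n ≤ (a : ℕ) + 1) →
      rootElt a b hab t ∈ M :=
    fun a b hab t h1 h2 => Subgroup.mem_sup_left ⟨rootElt_mem_headStab hab t h1, rootElt_mem_tailStab hab t h2⟩
  have out : ∀ (a b : Fin n) (hab : a ≠ b) (t : F), ¬ ((b : ℕ) < 2 ∧ 2 ≤ (a : ℕ)) → ¬ ((b : ℕ) + 2 < n ∧ n ≤ (a : ℕ) + 2) →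
      rootElt a b hab t ∈ M :=
    fun a b hab t h1 h2 => Subgroup.mem_sup_right ⟨rootElt_mem_headStab hab t h1, rootElt_mem_tailStab hab t h2⟩
  have first : ∀ (a b : Fin n) (hab : a ≠ b) (t : F), ¬ ((b : ℕ) + 1 < n ∧ n ≤ (a : ℕ) + 1) → rootElt a b hab t ∈ M := by
    intro a b hab t h2
    by_cases h1 : ¬ ((b : ℕ) < 1 ∧ 1 ≤ (a : ℕ))
    · exact mid a b hab t h1 h2
    push Not at h1
    have hz : (⟨1, by omega⟩ : Fin n) ≠ b := by intro e; have := congrArg Fin.val e; simp only at this; omega
    by_cases ha : a = (⟨1, by omega⟩ : Fin n)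
    · have := congrArg Fin.val ha
      exact out a b hab t (by simp only at this; omega) (by simp only at this; omega)
    · exact rootElt_mem_of_two ha hz hab (fun t => mid a _ ha t (by simp) (by simp; omega))
        (fun t => out _ b hz t (by simp) (by simp; omega)) t
  by_cases h2 : ¬ ((j : ℕ) + 1 < n ∧ n ≤ (i : ℕ) + 1)
  · exact first i j hij t h2
  push Not at h2
  have hz : i ≠ (⟨n - 2, by omega⟩ : Fin n) := by intro e; have := congrArg Fin.val e; simp only at this; omega
  by_cases hj : (⟨n - 2, by omega⟩ : Fin n) = j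
  · have := congrArg Fin.val hj
    exact out i j hij t (by simp only at this; omega) (by simp only at this; omega)
  · exact rootElt_mem_of_two hz hj hij (fun t => out i _ hz t (by simp; omega) (by simp; omega))
      (fun t => first _ j hj t (by simp; omega)) t

theorem isRigid_PSL (hn : 3 ≤ n) (h : 4 ≤ n ∨ p ≠ 2) : IsRigid p (PSLn n F) := by
  obtain ⟨P, hP⟩ := exists_sylow_unitri (p := p) (F := F) n
  refine isRigid_of_one (P.mapSurjective proj_surjective) fun Γ hΓ hinv => ?_
  have hinv' : Inv Γ (uPSL n F) := by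
    have : ((P.mapSurjective proj_surjective : Sylow p (PSLn n F)) : Subgroup (PSLn n F)) = uPSL n F := by
      rw [Sylow.coe_mapSurjective, hP]
    rwa [this] at hinv
  rcases h with h | h
  · exact hasPieces_large h hinv'
  · refine hasPieces_semi hn hinv' fun γ hγ => ?_
    obtain ⟨k, hk⟩ := hΓ ⟨γ, hγ⟩
    have hk' : γ ^ p ^ k = 1 := congrArg Subtype.val hk
    have hodd : Odd (p ^ k) := ((Fact.out : p.Prime).odd_of_ne_two h).pow
    obtain ⟨m, hm⟩ := hodd
    rw [show γ = (γ ^ (m + 1)) * (γ ^ (m + 1)) by rw [← pow_add, show m + 1 + (m + 1) = p ^ k + 1 by omega, pow_succ, hk', one_mul]]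
    exact isSemi_mul_self (by omega) _

end Cfsg.Agent.Lib.PMinimalLie
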