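import Cfsg.Agent.Lib.PMinimalLie.Linear

/-!
The projective special linear groups of degree two and three.
-/

set_option autoImplicit false

namespace Cfsg.Agent.Lib.PMinimalLie

open Matrix PSLAut

variable {n : ℕ} {F : Type*} [Field F] [Fintype F]

theorem entry_eq_zero_of_stab {s : SLn n F} {k : ℕ}
    (hs : s ∈ setStab (natRep n F) (headSpace n F k : Set (Fin n → F))) {i j : Fin n} (hj : (j : ℕ) < k)
    (hi : k ≤ i) : (s : Matrix (Fin n) (Fin n) F) i j = 0 := by
  have hej : (Pi.single j 1 : Fin n → F) ∈ headSpace n F k := fun l hl => by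
    rw [Pi.single_eq_of_ne]
    intro e; subst e; omega
  have h := (hs _).1 hej i hi
  rwa [natRep_apply, Matrix.mulVec_single_one] at h

theorem stab_scalar {s t : SLn n F} {k : ℕ} (hst : proj s = proj t)
    (hs : s ∈ setStab (natRep n F) (headSpace n F k : Set (Fin n → F))) :
    t ∈ setStab (natRep n F) (headSpace n F k : Set (Fin n → F)) := by
  obtain ⟨c, hc⟩ := proj_eq_proj_iff.1 hst
  refine mem_setStab_of_mapsTo fun v hv => ?_
  rw [natRep_apply, hc, Matrix.smul_mulVec, ← natRep_apply]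
  exact Submodule.smul_mem _ c ((hs v).1 hv)

theorem mem_normalizer_of_upper {s : SLn n F} (hs : ∀ i j : Fin n, j < i → (s : Matrix (Fin n) (Fin n) F) i j = 0) :
    proj s ∈ Subgroup.normalizer (uPSL n F : Set (PSLn n F)) := by
  have prod : ∀ (A B : Matrix (Fin n) (Fin n) F), (∀ i j, j < i → A i j = 0) → (∀ i j, j < i → B i j = 0) →
      (∀ i j, j < i → (A * B) i j = 0) ∧ ∀ i, (A * B) i i = A i i * B i i := by
    intro A B hA hB
    refine ⟨fun i j hji => ?_, fun i => ?_⟩
    · rw [Matrix.mul_apply]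
      refine Finset.sum_eq_zero fun l _ => ?_
      rcases lt_or_ge l i with h | h
      · rw [hA i l h, zero_mul]
      · rw [hB l j (lt_of_lt_of_le hji h), mul_zero]
    · rw [Matrix.mul_apply, Finset.sum_eq_single i]
      · intro l _ hl
        rcases lt_or_gt_of_ne hl with h | h
        · rw [hA i l h, zero_mul]
        · rw [hB l i h, mul_zero]
      · simp
  have hinv : ∀ i j : Fin n, j < i → ((s⁻¹ : SLn n F) : Matrix (Fin n) (Fin n) F) i j = 0 := by
    have hp : ∀ m : ℕ, ∀ i j : Fin n, j < i → ((s ^ m : SLn n F) : Matrix (Fin n) (Fin n) F) i j = 0 := by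
      intro m
      induction m with
      | zero => exact fun i j h => by rw [pow_zero]; exact Matrix.one_apply_ne h.ne'
      | succ m ih => exact fun i j h => by rw [pow_succ, Matrix.SpecialLinearGroup.coe_mul]; exact (prod _ _ ih hs).1 i j h
    have e : s⁻¹ = s ^ (orderOf s - 1) := inv_eq_of_mul_eq_one_left
      (by rw [← pow_succ, Nat.sub_add_cancel (orderOf_pos s), pow_orderOf_eq_one])
    rw [e]; exact hp _
  have key : ∀ t : SLn n F, (∀ i j : Fin n, j < i → (t : Matrix (Fin n) (Fin n) F) i j = 0) →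
      (∀ i j : Fin n, j < i → ((t⁻¹ : SLn n F) : Matrix (Fin n) (Fin n) F) i j = 0) →
      ∀ x ∈ uPSL n F, proj t * x * (proj t)⁻¹ ∈ uPSL n F := by
    rintro t ht ht' _ ⟨u, hu, rfl⟩
    refine ⟨t * u * t⁻¹, mem_unitriSL.2 ?_, by simp⟩
    obtain ⟨hu1, hu2⟩ := prod _ _ ht (mem_unitriSL.1 hu).2
    obtain ⟨h1, h2⟩ := prod _ _ hu1 ht'
    refine ⟨fun i => ?_, fun i j h => ?_⟩
    · rw [Matrix.SpecialLinearGroup.coe_mul, Matrix.SpecialLinearGroup.coe_mul, h2, hu2,
        (mem_unitriSL.1 hu).1 i, mul_one]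
      have e := (prod _ _ ht ht').2 i
      rw [← Matrix.SpecialLinearGroup.coe_mul, mul_inv_cancel, Matrix.SpecialLinearGroup.coe_one,
        Matrix.one_apply_eq] at e
      exact e.symm
    · rw [Matrix.SpecialLinearGroup.coe_mul, Matrix.SpecialLinearGroup.coe_mul]
      exact h1 i j h
  refine Subgroup.mem_normalizer_iff.2 fun x => ⟨key s hs hinv x, fun hx => ?_⟩
  have h := key s⁻¹ hinv (by simpa using hs) _ hx
  rw [map_inv, inv_inv] at h
  have e : (proj s)⁻¹ * (proj s * x * (proj s)⁻¹) * proj s = x := by group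
  rwa [e] at h

theorem uPSL_le_normalizer : uPSL n F ≤ Subgroup.normalizer (uPSL n F : Set (PSLn n F)) := Subgroup.le_normalizer

variable {p : ℕ} [Fact p.Prime] [CharP F p]

theorem exists_head_le (hn : 2 ≤ n) {Y : Subgroup (PSLn n F)}
    (hY : Subgroup.normalizer (uPSL n F : Set (PSLn n F)) ≤ Y) (hYt : Y ≠ ⊤) :
    ∃ S : Submodule F (Fin n → F), S ≠ ⊤ ∧ headSpace n F 1 ≤ S ∧
      (¬ S ≤ headSpace n F 1 → headSpace n F 2 ≤ S) ∧ Y ≤ stabK proj (natRep n F) (S : Set (Fin n → F)) := by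
  obtain ⟨p, hpc⟩ := CharP.exists F
  haveI : Fact p.Prime := ⟨CharP.char_is_prime F p⟩
  obtain ⟨P, hP⟩ := exists_sylow_unitri (p := p) (F := F) n
  haveI : Nontrivial (Fin n → F) := by
    haveI : Nonempty (Fin n) := ⟨⟨0, by omega⟩⟩
    exact Function.nontrivial
  obtain ⟨S, hS0, hSt, hinv, hle⟩ := exists_invariant_submodule (π := proj) (τ := natRep n F)
    (SylowOvergroup.good_SL (p := p) n hn) proj_surjective natRep_injective P (hP ▸ uPSL_le_normalizer.trans hY) hYt
  replace hinv : ∀ u ∈ unitriSL n F, ∀ v ∈ S, natRep n F u v ∈ S := fun u hu => hinv u (by show u ∈ (P : Subgroup (SLn n F)); rw [hP]; exact hu)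
  have h1 : headSpace n F 1 ≤ S := by
    obtain ⟨v, hvS, hv0, hv⟩ := exists_fixed_ne_zero (τ := natRep n F) (hP ▸ P.isPGroup') hS0 hinv
    have hv1 : v ∈ headSpace n F 1 := by
      rw [← fixSeq_nat 1 (by omega)]
      exact mem_fixSeq_succ.2 fun u hu => by rw [hv u hu, sub_self]; exact zero_mem _
    intro w hw
    have hv00 : v ⟨0, by omega⟩ ≠ 0 := by
      intro e
      refine hv0 (funext fun i => ?_)
      by_cases hi : (i : ℕ) = 0
      · rw [show i = ⟨0, by omega⟩ from Fin.ext hi, e]; rfl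
      · exact hv1 i (by omega)
    have e : w = (w ⟨0, by omega⟩ / v ⟨0, by omega⟩) • v := by
      funext i
      rw [Pi.smul_apply, smul_eq_mul]
      by_cases hi : (i : ℕ) = 0
      · rw [show i = ⟨0, by omega⟩ from Fin.ext hi, div_mul_cancel₀ _ hv00]
      · rw [hw i (by omega), hv1 i (by omega), mul_zero]
    rw [e]
    exact S.smul_mem _ hvS
  refine ⟨S, hSt, h1, fun hgt => ?_, hle⟩
  obtain ⟨v, hvS, hv1⟩ := SetLike.not_le_iff_exists.1 hgt
  let q := (headSpace n F 1).mkQ
  let T : Submodule F ((Fin n → F) ⧸ headSpace n F 1) := S.map q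
  have hT : T ≠ ⊥ := fun e => hv1 (by
    have : q v ∈ T := ⟨v, hvS, rfl⟩
    rwa [e, Submodule.mem_bot, Submodule.mkQ_apply, Submodule.Quotient.mk_eq_zero] at this)
  let U := unitriSL n F
  have hstab : ∀ u ∈ U, ∀ w ∈ headSpace n F 1, natRep n F u w ∈ headSpace n F 1 := by
    intro u hu w hw
    have h2 : w ∈ fixSeq (natRep n F) (unitriSL n F) 1 := by rw [fixSeq_nat 1 (by omega)]; exact hw
    have := (fixSeq (natRep n F) (unitriSL n F) 0).neg_mem (mem_fixSeq_succ.1 h2 u hu)
    have e := (Submodule.mem_bot F).1 (mem_fixSeq_succ.1 h2 u hu)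
    rw [sub_eq_zero.1 e]
    exact hw
  let τ : ↥U →* (((Fin n → F) ⧸ headSpace n F 1) ≃ₗ[F] ((Fin n → F) ⧸ headSpace n F 1)) :=
    { toFun := fun u => Submodule.Quotient.equiv _ _ (natRep n F u.1) (by
        refine le_antisymm (Submodule.map_le_iff_le_comap.2 fun w hw => hstab u.1 u.2 w hw) fun w hw => ?_
        refine ⟨natRep n F u.1⁻¹ w, hstab _ (inv_mem u.2) w hw, ?_⟩
        show natRep n F u.1 (natRep n F u.1⁻¹ w) = w
        rw [← LinearEquiv.mul_apply, ← map_mul, mul_inv_cancel, map_one]; rfl)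
      map_one' := LinearEquiv.ext fun x => by
        induction x using Submodule.Quotient.induction_on with
        | H w =>
          show Submodule.Quotient.mk (natRep n F (1 : SLn n F) w) = _
          rw [map_one]; rfl
      map_mul' := fun a b => LinearEquiv.ext fun x => by
        induction x using Submodule.Quotient.induction_on with
        | H w =>
          show Submodule.Quotient.mk (natRep n F (a.1 * b.1) w) = _
          rw [map_mul]; rfl }
  haveI : Finite ((Fin n → F) ⧸ headSpace n F 1) := Finite.of_surjective _ (headSpace n F 1).mkQ_surjective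
  obtain ⟨x, hxT, hx0, hx⟩ := exists_fixed_ne_zero (τ := τ) (R := ⊤)
    ((show IsPGroup p ↥(unitriSL n F) from hP ▸ P.isPGroup').of_equiv Subgroup.topEquiv.symm) hT (by
      rintro u - _ ⟨w, hw, rfl⟩
      exact ⟨_, hinv u.1 u.2 w hw, rfl⟩)
  obtain ⟨w, hwS, rfl⟩ := hxT
  have hw2 : w ∈ headSpace n F 2 := by
    rw [← fixSeq_nat 2 (by omega)]
    refine mem_fixSeq_succ.2 fun u hu => ?_
    rw [fixSeq_nat 1 (by omega), ← Submodule.Quotient.eq]
    exact hx ⟨u, hu⟩ trivial
  have hw1 : w ⟨1, by omega⟩ ≠ 0 := by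
    intro e
    refine hx0 ((Submodule.Quotient.mk_eq_zero _).2 fun i hi => ?_)
    by_cases hi1 : (i : ℕ) = 1
    · rw [show i = ⟨1, by omega⟩ from Fin.ext hi1, e]
    · exact hw2 i (by omega)
  intro z hz
  set c := z ⟨1, by omega⟩ / w ⟨1, by omega⟩ with hc
  have : z - c • w ∈ headSpace n F 1 := by
    intro i hi
    rw [Pi.sub_apply, Pi.smul_apply, smul_eq_mul, sub_eq_zero]
    by_cases hi1 : (i : ℕ) = 1
    · rw [show i = ⟨1, by omega⟩ from Fin.ext hi1, hc, div_mul_cancel₀ _ hw1]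
    · rw [hz i (by omega), hw2 i (by omega), mul_zero]
  have := S.add_mem (h1 this) (S.smul_mem c hwS)
  rwa [sub_add_cancel] at this

theorem isSingle_PSL_two : IsSingle p (PSLn 2 F) := by
  obtain ⟨P, hP⟩ := exists_sylow_unitri (p := p) (F := F) 2
  refine isSingle_of_one (P.mapSurjective proj_surjective) fun Γ _ _ Y hY hYt _ => ?_
  have hU : ((P.mapSurjective proj_surjective : Sylow p (PSLn 2 F)) : Subgroup (PSLn 2 F)) = uPSL 2 F := by
    rw [Sylow.coe_mapSurjective, hP]
  rw [hU] at hY ⊢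
  obtain ⟨S, hSt, h1, h2, hle⟩ := exists_head_le le_rfl hY hYt
  have hS : S = headSpace 2 F 1 := le_antisymm (by
    by_contra hgt
    exact hSt (eq_top_iff.2 fun v _ => h2 hgt fun i hi => absurd hi (by omega))) h1
  intro y hy
  obtain ⟨s, hs, rfl⟩ := hle hy
  rw [hS] at hs
  exact mem_normalizer_of_upper fun i j hji => entry_eq_zero_of_stab hs (by omega) (by omega)

theorem headStab_inf_le : headStab 3 F 1 ⊓ headStab 3 F 2 ≤ Subgroup.normalizer (uPSL 3 F : Set (PSLn 3 F)) := by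
  rintro _ ⟨⟨s, hs, rfl⟩, t, ht, e⟩
  have ht' := stab_scalar e ht
  refine mem_normalizer_of_upper fun i j hji => ?_
  rw [Fin.lt_def] at hji
  by_cases hj : (j : ℕ) < 1
  · exact entry_eq_zero_of_stab hs hj (by omega)
  · exact entry_eq_zero_of_stab ht' (k := 2) (by omega) (by omega)

theorem tail_eq_head {k : ℕ} (hk : k ≤ n) : tailStab n F k ≤ headStab n F (n - k) := by
  rintro _ ⟨s, hs, rfl⟩
  refine ⟨s, mem_setStab_of_mapsTo fun v hv i hi => ?_, rfl⟩
  have hinv : (s : Matrix (Fin n) (Fin n) F) = ((slInvTrans s⁻¹ : SLn n F) : Matrix (Fin n) (Fin n) F)ᵀ := by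
    show _ = (((s⁻¹)⁻¹).transpose : Matrix (Fin n) (Fin n) F)ᵀ
    rw [inv_inv, Matrix.SpecialLinearGroup.coe_transpose, Matrix.transpose_transpose]
  rw [natRep_apply, Matrix.mulVec, dotProduct]
  refine Finset.sum_eq_zero fun j _ => ?_
  rcases le_or_gt (n - k) j with hj | hj
  · rw [hv j hj, mul_zero]
  · have hei : (Pi.single i 1 : Fin n → F) ∈ tailSpace n F k := fun l hl => by
      rw [Pi.single_eq_of_ne]
      intro e; subst e; omega
    have := ((inv_mem hs : s⁻¹ ∈ setStab _ _) _).1 hei j (by omega)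
    have e2 : dualRep n F s⁻¹ (Pi.single i 1) = natRep n F (slInvTrans s⁻¹) (Pi.single i 1) := rfl
    rw [e2, natRep_apply, Matrix.mulVec_single_one] at this
    rw [hinv, Matrix.transpose_apply]
    rw [show ((slInvTrans s⁻¹ : SLn n F) : Matrix (Fin n) (Fin n) F) j i = 0 from this, zero_mul]

theorem isSwap_PSL_three : IsSwap p (PSLn 3 F) := by
  obtain ⟨P, hP⟩ := exists_sylow_unitri (p := p) (F := F) 3
  refine isSwap_of_one (P.mapSurjective proj_surjective) fun Γ _ hinv => ?_
  have hU : ((P.mapSurjective proj_surjective : Sylow p (PSLn 3 F)) : Subgroup (PSLn 3 F)) = uPSL 3 F := by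
    rw [Sylow.coe_mapSurjective, hP]
  rw [hU] at hinv ⊢
  by_cases hsemi : AllSemi Γ
  · exact Or.inl (hasPieces_semi le_rfl hinv hsemi)
  refine Or.inr ⟨?_, fun Y hY hYt hYinv => ?_⟩
  · simp only [AllSemi, not_forall] at hsemi
    obtain ⟨γ, hγ, hns⟩ := hsemi
    refine ⟨γ, hγ, ?_⟩
    rintro ⟨x, rfl⟩
    obtain ⟨s, rfl⟩ := proj_surjective x
    exact hns ⟨Matrix.SpecialLinearGroup.toGL s, 1, by rw [map_one, mul_one, conj_toGL]⟩
  simp only [AllSemi, not_forall] at hsemi
  obtain ⟨γ, hγ, hns⟩ := hsemi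
  obtain ⟨g, σ, ε, hε, rfl⟩ := exists_eq_conj_mul_fieldAut_mul (by omega : 2 ≤ 3) γ
  rcases hε with rfl | rfl
  · exact absurd ⟨g, σ, by rw [mul_one]⟩ hns
  have hi := (intertwines_flip g σ).2
  have hYeq : ∀ y ∈ Y, ∃ z ∈ Y, (conj g * fieldAut σ * invTrans : MulAut (PSLn 3 F)) z = y := by
    intro y hy
    let f : ↥Y → ↥Y := fun z => ⟨_, hYinv _ hγ z.1 z.2⟩
    have hf : Function.Injective f := fun a b hab => Subtype.ext
      ((conj g * fieldAut σ * invTrans : MulAut (PSLn 3 F)).injective (congrArg Subtype.val hab))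
    obtain ⟨z, hz⟩ := Finite.injective_iff_surjective.1 hf ⟨y, hy⟩
    exact ⟨z.1, z.2, congrArg Subtype.val hz⟩
  have flip : ∀ k, k ≤ 3 → Y ≤ headStab 3 F k → Y ≤ headStab 3 F (3 - k) := by
    intro k hk hle y hy
    obtain ⟨z, hz, rfl⟩ := hYeq y hy
    exact tail_eq_head hk (map_stabK_subset hi ((image_head (hinv _ hγ) hk).2.1 hi) z (hle hz))
  obtain ⟨S, hSt, h1, h2, hle⟩ := exists_head_le (by omega) hY hYt
  by_cases hgt : S ≤ headSpace 3 F 1
  · rw [le_antisymm hgt h1] at hle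
    exact (le_inf hle (flip 1 (by omega) hle)).trans headStab_inf_le
  · have hS : S = headSpace 3 F 2 := by
      refine le_antisymm (fun v hv => ?_) (h2 hgt)
      by_contra hv2
      refine hSt (eq_top_iff.2 fun w _ => ?_)
      have hv' : v ⟨2, by omega⟩ ≠ 0 := fun e => hv2 fun i hi => by
        rw [show i = ⟨2, by omega⟩ from Fin.ext (by show (i : ℕ) = 2; omega), e]
      have hmem : w - (w ⟨2, by omega⟩ / v ⟨2, by omega⟩) • v ∈ headSpace 3 F 2 := fun i hi => by
        rw [show i = ⟨2, by omega⟩ from Fin.ext (by show (i : ℕ) = 2; omega), Pi.sub_apply, Pi.smul_apply,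
          smul_eq_mul, div_mul_cancel₀ _ hv', sub_self]
      have := S.add_mem (h2 hgt hmem) (S.smul_mem (w ⟨2, by omega⟩ / v ⟨2, by omega⟩) hv)
      rwa [sub_add_cancel] at this
    rw [hS] at hle
    exact (le_inf (flip 2 (by omega) hle) hle).trans headStab_inf_le

end Cfsg.Agent.Lib.PMinimalLie
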