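import Cfsg.Agent.Lib.PMinimalLie.FormPieces
import Cfsg.Agent.Lib.SylowOvergroup.Orthogonal
import Cfsg.Agent.Lib.POmegaAut.Families
import Cfsg.Agent.Lib.POmegaAut.Main

/-!
`PΩ(Q)` where every automorphism comes from a semisimilarity: two pieces.
-/

set_option autoImplicit false

namespace Cfsg.Agent.Lib.PMinimalLie

open QuadraticMap POmegaAut SylowOvergroup

variable {F : Type*} [Field F] {ι : Type} [Fintype ι] [DecidableEq ι] {Q : QuadraticForm F (ι → F)}

/-- `Ω` acting on vectors -/
noncomputable def omRep (Q : QuadraticForm F (ι → F)) :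
    Cfsg.Omega F ⇑Q →* ((ι → F) ≃ₗ[F] (ι → F)) where
  toFun s :=
    { toFun := av s
      invFun := av s⁻¹
      map_add' := fun u v => Matrix.mulVec_add _ u v
      map_smul' := fun c v => Matrix.mulVec_smul _ c v
      left_inv := av_inv_cancel s
      right_inv := av_cancel_inv s }
  map_one' := LinearEquiv.ext av_one
  map_mul' s t := LinearEquiv.ext (av_mul s t)

theorem omRep_apply (s : Cfsg.Omega F ⇑Q) (v : ι → F) : omRep Q s v = av s v := rfl

theorem omForm (S : Setting0 Q) : FormSetting (omRep Q) (fun u v => polar Q u v) (fun v => Q v = 0) where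
  inj s t e := av_ext fun v => by rw [← omRep_apply, e]; rfl
  add_left u v w := polar_add_left _ u v w
  smul_left c u w := by rw [polar_smul_left, smul_eq_mul]
  refl u v e := polar_swap e
  isom g u v := av_polar g u v
  sing_map g v hv := (av_iso g v).trans hv
  sing_smul c v hv := by rw [QuadraticMap.map_smul, show Q v = 0 from hv, smul_zero]
  isotropic v hv := polar_self_zero hv
  sing_add u v hu hv huv := by
    rw [QuadraticMap.map_add (⇑Q), show Q u = 0 from hu, show Q v = 0 from hv, huv]
    ring
  partner x hx hx0 := by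
    obtain ⟨d, hd⟩ := S.rank.partner hx0 hx
    exact ⟨d, hd.qf, by rw [hd.ef]; exact one_ne_zero⟩

theorem omFlag (S : Setting0 Q) {x y w z c d : ι → F} (hxy : Hyp Q x y) (hwz : Hyp Q w z) (hcd : Hyp Q c d)
    (hw : Perp2 Q x y w) (hz : Perp2 Q x y z) (hc : Perp2 Q x y c) (hd : Perp2 Q x y d)
    (hc' : Perp2 Q w z c) (hd' : Perp2 Q w z d) : Flag (omForm S) x w := by
  have hx : polar Q x x = 0 := polar_self_zero hxy.qe
  have hww : polar Q w w = 0 := polar_self_zero hwz.qe
  have hwx : polar Q w x = 0 := hw.1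
  have hxw : polar Q x w = 0 := polar_swap hwx
  have hwn : w ∉ Submodule.span F {x} := fun hm => by
    obtain ⟨a, ha⟩ := Submodule.mem_span_singleton.1 hm
    have := hwz.ef
    rw [← ha, polar_smul_left, polar_swap hz.1, smul_zero] at this
    exact zero_ne_one this
  have lift : ∀ u t, Q u = 0 → polar Q u t = 0 → ∃ g, ∀ v, omRep Q g v =
      v + polar Q v t • u - polar Q v u • t - (Q t * polar Q v u) • u := fun u t hu hut => by
    obtain ⟨s, hs⟩ := S.omega u t hu hut
    exact ⟨s, fun v => (hs v).trans (eich_apply u t v)⟩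
  have liftX : ∀ u, polar Q x u = 0 → ∃ g ∈ formRad (omForm S) (Submodule.span F {x}), ∀ v, omRep Q g v =
      v + polar Q v u • x - polar Q v x • u - (Q u * polar Q v x) • x := fun u hu => by
    obtain ⟨g, hg⟩ := lift x u hxy.qe hu
    refine ⟨g, (mem_formRad (omForm S)).2 ⟨fun a ha => ?_, fun a ha => ?_⟩, hg⟩
    · obtain ⟨k, rfl⟩ := Submodule.mem_span_singleton.1 ha
      rw [hg]
      simp [polar_smul_left, hu, hx]
    · rw [hg, show polar Q a x = 0 from ha x (Submodule.mem_span_singleton_self x), zero_smul, mul_zero,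
        zero_smul, sub_zero, sub_zero, add_sub_cancel_left]
      exact Submodule.smul_mem _ _ (Submodule.mem_span_singleton_self x)
  refine ⟨hxy.ne_zero, hwn, hx, hwx, ?_, ?_, ?_, ?_, ?_⟩
  · intro v hv
    obtain ⟨g, hg, hgv⟩ := liftX w hxw
    refine ⟨g, hg, fun hm => hwn ?_⟩
    rw [hgv, hwz.qe, zero_mul, zero_smul, sub_zero, add_sub_assoc, add_sub_cancel_left] at hm
    have := sub_mem (Submodule.smul_mem _ (polar Q v w) (Submodule.mem_span_singleton_self x)) hm
    rwa [sub_sub_cancel, Submodule.smul_mem_iff _ hv] at this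
  · intro v hv hvx
    obtain ⟨u, hu, huv⟩ : ∃ u, polar Q x u = 0 ∧ polar Q v u ≠ 0 := by
      by_contra hcon
      push Not at hcon
      refine hvx (Submodule.mem_span_singleton.2 ⟨polar Q v y, (sub_eq_zero.1 (S.rank.nondeg _ fun t => ?_)).symm⟩)
      have h1 := hcon (t - polar Q x t • y) (by
        rw [polar_sub_right, polar_smul_right, hxy.ef, smul_eq_mul, mul_one, sub_self])
      simp only [polar_sub_right, polar_sub_left, polar_smul_right, polar_smul_left, smul_eq_mul] at h1 ⊢
      linear_combination h1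
    obtain ⟨g, hg, hgv⟩ := liftX u hu
    refine ⟨g, hg, fun e => ?_⟩
    rw [hgv, show polar Q v x = 0 from hv, zero_smul, mul_zero, zero_smul, sub_zero, sub_zero, add_eq_left,
      smul_eq_zero] at e
    exact e.elim huv hxy.ne_zero
  · intro v hv hvW
    have hwW : w ∈ Submodule.span F {x, w} := Submodule.subset_span (Set.mem_insert_of_mem x rfl)
    have mem : ∀ u, polar Q x u = 0 → polar Q w u = 0 → ∃ g ∈ formRad (omForm S) (Submodule.span F {x, w}),
        ∀ a, omRep Q g a = a + polar Q a u • w - polar Q a w • u - (Q u * polar Q a w) • w := by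
      intro u hu hu'
      obtain ⟨g, hg⟩ := lift w u hwz.qe hu'
      refine ⟨g, (mem_formRad (omForm S)).2 ⟨fun a ha => ?_, fun a ha => ?_⟩, hg⟩
      · obtain ⟨r, s, rfl⟩ := Submodule.mem_span_pair.1 ha
        rw [hg]
        simp [polar_add_left, polar_smul_left, hu, hu', hxw, hww]
      · rw [hg, show polar Q a w = 0 from ha w hwW, zero_smul, mul_zero, zero_smul, sub_zero, sub_zero,
          add_sub_cancel_left]
        exact Submodule.smul_mem _ _ hwW
    by_cases hb : polar Q v w = 0
    · obtain ⟨u, hu, huw, huv⟩ : ∃ u, polar Q x u = 0 ∧ polar Q w u = 0 ∧ polar Q v u ≠ 0 := by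
        by_contra hcon
        push Not at hcon
        refine hvW (Submodule.mem_span_pair.2
          ⟨polar Q v y, polar Q v z, (sub_eq_zero.1 (S.rank.nondeg _ fun t => ?_)).symm⟩)
        have h1 := hcon (t - polar Q x t • y - polar Q w t • z) (by
          simp [polar_sub_right, polar_smul_right, hxy.ef, polar_swap hz.1]) (by
          simp [polar_sub_right, polar_smul_right, hwz.ef, hw.2])
        simp only [polar_sub_right, polar_sub_left, polar_add_left, polar_smul_right, polar_smul_left,
          smul_eq_mul] at h1 ⊢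
        linear_combination h1
      obtain ⟨g, hg, hgv⟩ := mem u hu huw
      refine ⟨g, hg, fun hm => hwn ?_⟩
      rw [hgv, hb, zero_smul, mul_zero, zero_smul, sub_zero, sub_zero, add_sub_cancel_left,
        Submodule.smul_mem_iff _ huv] at hm
      exact hm
    · obtain ⟨g, hg, hgv⟩ := mem c (polar_swap hc.1) (polar_swap hc'.1)
      refine ⟨g, hg, fun hm => hb ?_⟩
      obtain ⟨k, hk⟩ := Submodule.mem_span_singleton.1 hm
      have := congrArg (fun a => polar Q a d) hk
      simpa [hgv, hcd.qe, polar_sub_left, polar_add_left, polar_smul_left, hcd.ef, polar_swap hd.1,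
        polar_swap hd'.1] using this
  · obtain ⟨g, hg⟩ := lift w y hwz.qe hw.2
    have hgx : omRep Q g x = x + w := by rw [hg]; simp [hxy.ef, hxw]
    refine ⟨g, ?_, ?_, ?_, z, hz.1, ?_⟩
    · rw [hgx]
      exact add_mem (Submodule.subset_span (Set.mem_insert _ _))
        (Submodule.subset_span (Set.mem_insert_of_mem x rfl))
    · rw [hg, hw.2, hww]
      simp only [zero_smul, add_zero, sub_zero, mul_zero]
      exact Submodule.subset_span (Set.mem_insert_of_mem x rfl)
    · intro hm
      rw [hgx] at hm
      have h2 := sub_mem hm (Submodule.mem_span_singleton_self x)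
      rw [add_sub_cancel_left] at h2
      exact hwn h2
    · show polar Q (omRep Q g z) x ≠ 0
      rw [hg]
      simp [hxy.qf, hwz.fe, hz.1, hz.2, hxy.fe, hwx, polar_sub_left]
  · intro T hxT hwT hT v hv
    have key : ∀ u, polar Q u x = 0 → polar Q u w = 0 → polar Q u z = 0 → u + Q u • z ∈ T := by
      intro u hu1 hu2 hu3
      obtain ⟨g, hg⟩ := lift z u hwz.qf (polar_swap hu3)
      have := sub_mem hwT (hT g (by
        rw [hg, polar_swap hu1, polar_swap hz.1]
        simp) w hwT)
      rwa [hg, polar_swap hu2, hwz.ef, zero_smul, add_zero, one_smul, mul_one, sub_sub, sub_sub_cancel] at this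
    have kc := key c hc.1 hc'.1 hc'.2
    have kd := key d hd.1 hd'.1 hd'.2
    have kz := key (c + d) (by rw [polar_add_left, hc.1, hd.1, add_zero]) (by rw [polar_add_left, hc'.1, hd'.1, add_zero])
      (by rw [polar_add_left, hc'.2, hd'.2, add_zero])
    rw [hcd.qe, zero_smul, add_zero] at kc
    rw [hcd.qf, zero_smul, add_zero] at kd
    rw [QuadraticMap.map_add (⇑Q), hcd.qe, hcd.qf, hcd.ef, zero_add, zero_add, one_smul] at kz
    have hzT : z ∈ T := by
      have := sub_mem kz (add_mem kc kd)
      rwa [add_sub_cancel_left] at this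
    set u := v - polar Q v z • w - polar Q v w • z with hu
    have h1 := sub_mem (key u (by simp [hu, polar_sub_left, polar_smul_left, show polar Q v x = 0 from hv, hwx, hz.1])
      (by simp [hu, polar_sub_left, polar_smul_left, hww, hwz.fe])
      (by simp [hu, polar_sub_left, polar_smul_left, hwz.ef, polar_self_zero hwz.qf])) (T.smul_mem (Q u) hzT)
    rw [add_sub_cancel_right] at h1
    have h2 := add_mem (add_mem h1 (T.smul_mem (polar Q v w) hzT)) (T.smul_mem (polar Q v z) hwT)
    rwa [hu, sub_add_cancel, sub_add_cancel] at h2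

theorem isRigid_POmega {p : ℕ} [Fintype F] [Fact p.Prime] [CharP F p] (S : Setting Q)
    (hgood : Good p ↥(Cfsg.Omega F ⇑Q)) : IsRigid p (Cfsg.POmega F ⇑Q) := by
  obtain ⟨x, y, hxy⟩ := S.rank.exists_pair
  obtain ⟨w, z, hwz, hw, hz⟩ := S.rank.exists_pair1 hxy
  obtain ⟨c, d, hcd, hc, hd, hc', hd'⟩ := S.rank.exists_pair2 hxy hwz hw hz
  refine (omFlag S.toSetting0 hxy hwz hcd hw hz hc hd hc' hd').isRigid (POmegaAut.proj_surjective ⇑Q)
    (fun s hs => (QuotientGroup.eq_one_iff s).1 hs) hgood fun γ => ?_
  obtain ⟨q, rfl⟩ := S.exists_induced γ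
  refine ⟨{ toFun := q.map
            invFun := q.invMap
            left_inv := fun v => q.map_injective (q.map_invMap (q.map v))
            right_inv := q.map_invMap
            map_add' := q.map.map_add }, fun s => ⟨q.omegaAut s, (q.aut_proj s).symm, q.av_omegaAut s⟩⟩

end Cfsg.Agent.Lib.PMinimalLie
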