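import Cfsg.Prelude.Def_EvenType
import Cfsg.Agent.Lib.Suzuki.Simple
import Cfsg.Agent.Lib.SuzukiSp4.Iso
import Cfsg.Agent.Lib.LinGroup.ProjLine
import Cfsg.Agent.Lib.Classical.UnitaryCentre
import Cfsg.Agent.Lib.SmallGroups.Basic
import Cfsg.Agent.S0249
import Cfsg.Agent.S0270
import Cfsg.Agent.S0283
import Cfsg.Agent.S0295
import Cfsg.Agent.S0296
import Cfsg.Agent.S0297
import Cfsg.Agent.S1070
import Cfsg.Agent.S1071
import Cfsg.Agent.S1072
import Cfsg.Agent.S1073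
import Cfsg.Agent.S1074
import Cfsg.Agent.Lib.Chev.Perfect

/-!
The groups named by `IsChevSimple` are simple, and those of Lie rank one are not commutative.
-/

set_option autoImplicit false

namespace Cfsg.Agent.Lib.PMinimalLie

theorem isSimple_transfer {G H : Type*} [Group G] [Group H] (h : IsSimpleGroup H) (e : G ≃* H) : IsSimpleGroup G :=
  haveI := e.toEquiv.nontrivial
  IsSimpleGroup.isSimpleGroup_of_surjective e.symm.toMonoidHom e.symm.surjective

theorem isSimple_PSL_two {F : Type*} [Field F] [Fintype F] (h : 4 ≤ Fintype.card F) :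
    IsSimpleGroup (Matrix.ProjectiveSpecialLinearGroup (Fin 2) F) :=
  Matrix.ProjectiveSpecialLinearGroup.rank_two_simple (by rw [Nat.card_eq_fintype_card]; omega)

theorem isSimple_of_isChevSimple {K : Type*} [Group K] {p : ℕ} (hK : Cfsg.IsChevSimple p K) : IsSimpleGroup K := by
  rcases hK with hK | ⟨rfl, ⟨⟨e⟩⟩ | ⟨F, _, _, hF, ⟨e⟩⟩ | ⟨⟨e⟩⟩⟩ | ⟨rfl, F, _, _, hF, ⟨e⟩⟩
  · rcases hK with hK | hK | hK | hK | hK | hK | hK | hK | hK | hK | hK
    · obtain ⟨F, _, _, _, n, hn, h4, ⟨e⟩⟩ := hK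
      by_cases hn2 : n = 2
      · subst hn2
        exact isSimple_transfer (isSimple_PSL_two (h4 rfl)) e
      · exact isSimple_transfer (S0249.result (F := F) n (by omega)) e
    · obtain ⟨F, _, _, _, m, hm, h3, ⟨e⟩⟩ := hK
      exact isSimple_transfer (S0270.result (F := F) m hm h3) e
    · obtain ⟨F, _, _, _, n, q, hF, hn, hne, ⟨e⟩⟩ := hK
      exact isSimple_transfer (S0283.result hF n hn hne) e
    · obtain ⟨F, _, _, _, m, hm, hodd, ⟨e⟩⟩ := hK
      exact isSimple_transfer (S0295.result hodd m hm) e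
    · obtain ⟨F, _, _, _, m, hm, ⟨e⟩⟩ := hK
      exact isSimple_transfer (S0296.result (F := F) m hm) e
    · obtain ⟨F, _, _, _, m, a, b, hm, hab, ⟨e⟩⟩ := hK
      exact isSimple_transfer (S0297.result m hm a b hab) e
    · obtain ⟨F, _, _, _, hK⟩ := hK
      rcases hK with ⟨h3, ⟨e⟩⟩ | ⟨⟨e⟩⟩ | ⟨⟨e⟩⟩ | ⟨⟨e⟩⟩ | ⟨⟨e⟩⟩
      · refine isSimple_transfer (Chev.simple_G2 ?_).1 e
        classical
        by_contra hne
        push Not at hne
        have hsub : (Finset.univ : Finset F) ⊆ {0, 1} := fun a _ => by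
          by_cases ha : a = 0
          · simp [ha]
          · simp [hne a ha]
        have := (Finset.card_le_card hsub).trans (Finset.card_insert_le _ _)
        simp at this
        omega
      · exact isSimple_transfer (Chev.simple_large _ (by simp)).1 e
      · exact isSimple_transfer (Chev.simple_large _ (by simp)).1 e
      · exact isSimple_transfer (Chev.simple_large _ (by simp)).1 e
      · exact isSimple_transfer (Chev.simple_large _ (by simp)).1 e
    · obtain ⟨F, _, _, _, q, hq, ⟨hF, ⟨e⟩⟩ | ⟨hF, ⟨e⟩⟩⟩ := hK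
      · exact isSimple_transfer (S1070.result hq hF).1 e
      · exact isSimple_transfer (S1071.result hq hF).1 e
    · obtain ⟨rfl, F, _, _, m, hm, hF, ⟨e⟩⟩ := hK
      exact isSimple_transfer (isSimple_transfer (Suzuki.isSimpleGroup_Sz (F := F) (m := m) ⟨hm, hF⟩)
        (SuzukiSp4.szEquiv ⟨hm, hF⟩).symm) e
    · obtain ⟨rfl, F, _, _, m, hm, hF, ⟨e⟩⟩ := hK
      exact isSimple_transfer (S1072.result hm hF).1 e
    · obtain ⟨rfl, F, _, _, m, hm, hF, ⟨e⟩⟩ := hK
      exact isSimple_transfer (S1073.result hm hF).1 e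
  · exact isSimple_transfer (alternatingGroup.isSimpleGroup (by simp)) e
  · exact isSimple_transfer (S0283.result (q := 3) (hF.trans (by norm_num)) 3 le_rfl (by omega)) e
  · exact isSimple_transfer S1074.result.2.1 e
  · exact isSimple_transfer (isSimple_PSL_two (by omega)) e


theorem not_comm_PSL_two {F : Type*} [Field F] [Fintype F] (h : 4 ≤ Fintype.card F) :
    ¬ IsMulCommutative (Matrix.ProjectiveSpecialLinearGroup (Fin 2) F) := by
  haveI := isSimple_PSL_two h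
  refine SmallGroups.not_isMulCommutative_of_not_prime fun hr => ?_
  have hc := LinGroup.card_PSL_two_mul (F := F)
  set q := Fintype.card F
  set N := Nat.card (Matrix.ProjectiveSpecialLinearGroup (Fin 2) F)
  have hg : Nat.gcd 2 (q - 1) ≤ 2 := Nat.gcd_le_left _ two_pos
  have hd : N ∣ (q ^ 2 - 1) * (q ^ 2 - q) := ⟨_, (hc.symm.trans (by ring : _ = N * (Nat.gcd 2 (q - 1) * (q - 1))))⟩
  obtain ⟨t, ht⟩ : ∃ t, q = t + 2 := ⟨q - 2, by omega⟩
  have e1 : q ^ 2 - 1 = (t + 1) * (t + 3) := by rw [ht]; exact Nat.sub_eq_of_eq_add (by ring)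
  have e2 : q ^ 2 - q = (t + 1) * (t + 2) := by rw [ht]; exact Nat.sub_eq_of_eq_add (by ring)
  have hN : N ≤ t + 3 := by
    rw [e1, e2, hr.dvd_mul, hr.dvd_mul, hr.dvd_mul] at hd
    rcases hd with (h | h) | (h | h) <;> exact (Nat.le_of_dvd (by omega) h).trans (by omega)
  rw [e1, e2, show q - 1 = t + 1 by omega] at hc
  rw [show q - 1 = t + 1 by omega] at hg
  have h2 : Nat.gcd 2 (t + 1) * ((t + 1) * N) ≤ 2 * ((t + 1) * (t + 3)) :=
    Nat.mul_le_mul hg (Nat.mul_le_mul_left _ hN)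
  rw [hc] at h2
  have h3 : 0 < (t + 1) * (t + 3) := by positivity
  have : (t + 1) * (t + 2) ≤ 2 := by nlinarith
  nlinarith

theorem not_comm_PSU_three {F : Type*} [Field F] [Fintype F] {q : ℕ} (hF : Fintype.card F = q ^ 2) (hq : q ≠ 2) :
    ¬ IsMulCommutative (Cfsg.PSU 3 F q) := by
  haveI := S0283.result hF 3 le_rfl (fun h => hq h.2)
  refine SmallGroups.not_isMulCommutative_of_not_prime fun hr => ?_
  have hc := Classical.natCard_PSU hF 3 (by norm_num)
  set N := Nat.card (Cfsg.PSU 3 F q)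
  simp only [Finset.prod_range_succ, Finset.prod_range_zero, one_mul] at hc
  norm_num at hc
  have hq3 : 3 ≤ q := by
    have h1 : 1 < q ^ 2 := hF ▸ Fintype.one_lt_card
    rcases q with _ | _ | _ | q <;> simp_all
  have hg : Nat.gcd 3 (q + 1) ≤ 3 := Nat.gcd_le_left _ (by norm_num)
  have hd : N ∣ q ^ 3 * ((q + 1) * (q ^ 2 - 1) * (q ^ 3 + 1)) :=
    ⟨Nat.gcd 3 (q + 1) * (q + 1), by rw [← hc]; ring⟩
  obtain ⟨t, ht⟩ : ∃ t, q = t + 1 := ⟨q - 1, by omega⟩
  have e1 : q ^ 2 - 1 = t * (t + 2) := by rw [ht]; exact Nat.sub_eq_of_eq_add (by ring)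
  have hN : N ≤ q ^ 3 + 1 := by
    rw [e1, hr.dvd_mul, hr.dvd_mul, hr.dvd_mul, hr.dvd_mul] at hd
    have h3 : q ≤ q ^ 3 := Nat.le_self_pow (by norm_num) q
    rcases hd with h | ((h | h | h) | h)
    · exact (Nat.le_of_dvd (by positivity) h).trans (by omega)
    all_goals exact (Nat.le_of_dvd (by omega) h).trans (by omega)
  have h2 : Nat.gcd 3 (q + 1) * ((q + 1) * N) ≤ 3 * ((q + 1) * (q ^ 3 + 1)) :=
    Nat.mul_le_mul hg (Nat.mul_le_mul_left _ hN)
  rw [hc, e1] at h2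
  have h27 : 27 ≤ q ^ 3 := le_trans (by norm_num) (Nat.pow_le_pow_left hq3 3)
  have h3 : 0 < (q + 1) * (q ^ 3 + 1) := by positivity
  have h4 : 8 ≤ t * (t + 2) := by nlinarith
  have h5 : 27 * 8 * ((q + 1) * (q ^ 3 + 1)) ≤ q ^ 3 * ((q + 1) * (t * (t + 2)) * (q ^ 3 + 1)) :=
    le_of_le_of_eq (Nat.mul_le_mul_right _ (Nat.mul_le_mul h27 h4)) (by ring)
  omega

theorem not_comm_Sz {F : Type*} [Field F] [Fintype F] {m : ℕ} (h : Suzuki.Hyp F m) :
    ¬ IsMulCommutative ↥(Cfsg.Lie.Sz F (2 ^ (m + 1))) := by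
  haveI : IsSimpleGroup ↥(Cfsg.Lie.Sz F (2 ^ (m + 1))) :=
    isSimple_transfer (Suzuki.isSimpleGroup_Sz h) (SuzukiSp4.szEquiv h).symm
  haveI : Finite (Cfsg.Sz F m) := Finite.of_injective _ (fun a b => Subtype.ext)
  haveI : Finite ↥(Cfsg.Lie.Sz F (2 ^ (m + 1))) := Finite.of_equiv _ (SuzukiSp4.szEquiv h).toEquiv
  refine SmallGroups.not_isMulCommutative_of_not_prime fun hr => ?_
  rw [← Nat.card_congr (SuzukiSp4.szEquiv h).toEquiv, Suzuki.card_Sz h, h.hF] at hr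
  have h1 : 2 ∣ (2 ^ (2 * m + 1)) ^ 2 * ((2 ^ (2 * m + 1)) ^ 2 + 1) * (2 ^ (2 * m + 1) - 1) :=
    ((dvd_pow_self 2 (by omega)).trans (dvd_pow_self _ two_ne_zero)).mul_right _ |>.mul_right _
  rcases hr.eq_one_or_self_of_dvd 2 h1 with h2 | h2
  · omega
  · have h8 : 2 ^ 3 ≤ 2 ^ (2 * m + 1) := Nat.pow_le_pow_right two_pos (by have := h.hm; omega)
    have : 8 * 8 * 1 * 1 ≤ (2 ^ (2 * m + 1)) ^ 2 * ((2 ^ (2 * m + 1)) ^ 2 + 1) * (2 ^ (2 * m + 1) - 1) := by
      refine Nat.mul_le_mul (Nat.mul_le_mul ?_ (by omega)) (by omega)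
      rw [pow_two]
      exact Nat.mul_le_mul h8 h8
    omega

end Cfsg.Agent.Lib.PMinimalLie
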