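import Cfsg.Agent.Lib.PMinimalLie.Transport
import Cfsg.Agent.Lib.SuzukiSylow.Borel
import Cfsg.Agent.Lib.SuzukiSp4.Iso

/-!
The Suzuki groups: a subgroup strictly over the stabilizer of the point at infinity is transitive on the ovoid.
-/

set_option autoImplicit false

namespace Cfsg.Agent.Lib.PMinimalLie

open Suzuki MulAction

variable {F : Type*} [Field F] [Fintype F] {m : ℕ}

theorem isSingle_Sz (h : Hyp F m) : IsSingle 2 ↥(Cfsg.Lie.Sz F (2 ^ (m + 1))) := by
  haveI := Fact.mk Nat.prime_two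
  haveI := SuzukiSylow.finite_Sz h
  refine IsSingle.of_equiv ?_ (SuzukiSp4.szEquiv h)
  have P : Sylow 2 (Cfsg.Sz F m) := default
  have hc : Nat.card (transl h) = 2 ^ ((Nat.card (Cfsg.Sz F m)).factorization 2) := by
    obtain ⟨e⟩ := transl_sylow_equiv h P
    rw [Nat.card_congr e.toEquiv, P.card_eq_multiplicity]
  refine isSingle_of_one (Sylow.ofCard (transl h) hc) fun Γ _ _ Y hY hYt _ => ?_
  rw [Sylow.coe_ofCard, SuzukiSylow.normalizer_transl h] at hY ⊢
  intro y hy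
  by_contra hne
  refine hYt (eq_top_iff.2 fun g _ => ?_)
  rcases ovPt_cases (y • ovInf F m) with e | ⟨a, b, e⟩
  · exact absurd (mem_stabilizer_iff.2 e) hne
  have hT : ∀ c d, szT h c d ∈ Y := fun c d => hY (mem_stabilizer_iff.2 (szT_inf h c d))
  have htr : ∀ z : Cfsg.suzukiOvoid F m, ∃ u ∈ Y, u • ovInf F m = z := by
    intro z
    rcases ovPt_cases z with rfl | ⟨c, d, rfl⟩
    · exact ⟨1, one_mem _, one_smul _ _⟩
    refine ⟨szT h c d * (szT h a b)⁻¹ * y, mul_mem (mul_mem (hT c d) (inv_mem (hT a b))) hy, ?_⟩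
    rw [mul_smul, e, mul_smul, ← szT_zero_pt h a b, inv_smul_smul, szT_zero_pt]
  obtain ⟨u, hu, eu⟩ := htr (g • ovInf F m)
  have : u⁻¹ * g ∈ Y := hY (mem_stabilizer_iff.2 (by rw [mul_smul, ← eu, inv_smul_smul]))
  simpa using mul_mem hu this

end Cfsg.Agent.Lib.PMinimalLie
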