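import Cfsg.Agent.Lib.PMinimalLie.Symplectic
import Cfsg.Agent.Lib.PSpAut.Graph

/-!
`PSp₄(2ᵉ)`: two pieces, or an automorphism exchanging the two parabolic subgroups over the Borel subgroup.
-/

set_option autoImplicit false

namespace Cfsg.Agent.Lib.PMinimalLie

open Classical SylowOvergroup

variable {F : Type*} [Field F]

local notation "V₄" => (Fin 2 ⊕ Fin 2 → F)

/-- the three transvections at vectors orthogonal to the first basis vector -/
def triV (F : Type*) [Field F] : Fin 3 → (Fin 2 ⊕ Fin 2 → F) :=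
  ![Pi.single (.inl 0) 1, Pi.single (.inl 1) 1, Pi.single (.inr 1) 1]

theorem graph_tri_fix (h2 : (2 : F) = 0) {v : V₄}
    (h : ∀ i, spRep 2 F (PSpAut.graphSp h2 (Forms.sympTransElem (triV F i) 1)) v = v) : v = 0 := by
  have hn : (-1 : F) = 1 := by linear_combination (-1 : F) * h2
  have e0 := h 0
  have e1 := h 1
  have e2 := h 2
  rw [spRep_apply] at e0 e1 e2
  have a0 := fun j => congrFun e0 j
  have a1 := fun j => congrFun e1 j
  have a2 := fun j => congrFun e2 j
  simp [PSpAut.graphSp, Forms.sympTransElem, Cfsg.sympTransvection, Matrix.vecMulVec_apply, Matrix.mulVec, dotProduct, triV,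
    PSpAut.idx4, Cfsg.Lie.star4, Cfsg.Lie.pairOf, Fintype.sum_sum_type, Fin.sum_univ_two, Forms.sympForm_apply, Matrix.J,
    Matrix.one_apply, Pi.single_apply, hn] at a0 a1 a2
  funext j
  rcases j with j | j <;> fin_cases j
  exacts [a2.1, a1.1, a0.2, a0.1]

variable [Fintype F] (h2 : (2 : F) = 0)

theorem sq_transElem (h2 : (2 : F) = 0) (v : V₄) : Forms.sympTransElem v (1 : F) * Forms.sympTransElem v 1 = 1 := by
  refine LinGroup.spVec_ext fun a => ?_
  rw [LinGroup.sympTransElem_mul, LinGroup.spVec_sympTransElem, show (1 : F) + 1 = 0 by linear_combination h2,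
    zero_mul, zero_smul, add_zero]
  simp [LinGroup.spVec]

/-- Every point stabilizer has an element whose image under the graph map moves a given point. -/
theorem graph_not_point (h2 : (2 : F) = 0) {y a : V₄} (hy : y ≠ 0) (ha : a ≠ 0) :
    ∃ g, spRep 2 F g y = y ∧ spRep 2 F (PSpAut.graphSp h2 g) a ∉ Submodule.span F {a} := by
  obtain ⟨s, hs⟩ := LinGroup.exists_spVec_eq (PSpAut.ev (0 : Fin 2)) y (LinGroup.isoVec_ne_zero 0) hy
  set τ := PSpAut.graphSp h2 with hτ
  set b := spRep 2 F (τ s)⁻¹ a with hb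
  have hb' : spRep 2 F (τ s) b = a := by
    rw [hb, ← LinearEquiv.mul_apply, ← map_mul, mul_inv_cancel, map_one]; rfl
  have hb0 : b ≠ 0 := fun e => ha (by rw [← hb', e, map_zero])
  obtain ⟨i, hi⟩ : ∃ i, spRep 2 F (τ (Forms.sympTransElem (triV F i) 1)) b ≠ b := by
    by_contra hcon
    push Not at hcon
    exact hb0 (graph_tri_fix h2 hcon)
  set T := Forms.sympTransElem (triV F i) (1 : F) with hT
  have hT0 : spRep 2 F T (PSpAut.ev 0) = PSpAut.ev 0 := by
    show LinGroup.spVec T (LinGroup.isoVec 0) = LinGroup.isoVec 0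
    rw [hT, LinGroup.spVec_sympTransElem]
    fin_cases i <;> simp [triV, LinGroup.isoVec, Forms.sympForm_apply, Fin.sum_univ_two]
  refine ⟨s * T * s⁻¹, ?_, fun hm => hi ?_⟩
  · have e : spRep 2 F s⁻¹ y = PSpAut.ev 0 := by
      rw [← hs]
      show spRep 2 F s⁻¹ (spRep 2 F s _) = _
      rw [← LinearEquiv.mul_apply, ← map_mul, inv_mul_cancel, map_one]; rfl
    rw [map_mul, map_mul, LinearEquiv.mul_apply, LinearEquiv.mul_apply, e, hT0,
      show spRep 2 F s (PSpAut.ev 0) = y from hs]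
  · obtain ⟨k, hk⟩ := Submodule.mem_span_singleton.1 hm
    rw [map_mul, map_mul, map_inv, map_mul, map_mul, LinearEquiv.mul_apply, LinearEquiv.mul_apply, ← hb] at hk
    have h1 : spRep 2 F (τ T) b = k • b := (spRep 2 F (τ s)).injective (by rw [map_smul, hb', hk])
    have h3 : (k * k) • b = b := by
      rw [mul_smul, ← h1, ← map_smul, ← h1, ← LinearEquiv.mul_apply, ← map_mul, ← map_mul,
        show T * T = 1 from sq_transElem h2 _, map_one, map_one]
      rfl
    have hk1 : k = 1 := by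
      have h4 : (k * k - 1) • b = 0 := by rw [sub_smul, one_smul, h3, sub_self]
      have h5 : (k - 1) * (k - 1) = 0 := by linear_combination (smul_eq_zero.1 h4).resolve_right hb0 + (1 - k) * h2
      exact sub_eq_zero.1 (mul_self_eq_zero.1 h5)
    rw [h1, hk1, one_smul]

theorem spRep_flag_four {v : V₄} (hx : stdSymp 2 v (Pi.single (.inl 0) 1) = 0)
    (hw : stdSymp 2 v (Pi.single (.inl 1) 1) = 0) :
    v ∈ Submodule.span F {Pi.single (Sum.inl 0) (1 : F), Pi.single (Sum.inl 1) 1} := by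
  rw [stdSymp_apply] at hx hw
  simp [sympFn, Matrix.mulVec, dotProduct, Fintype.sum_sum_type, Fin.sum_univ_two, Matrix.J, Pi.single_apply,
    Matrix.one_apply] at hx hw
  refine Submodule.mem_span_pair.2 ⟨v (.inl 0), v (.inl 1), ?_⟩
  funext j
  rcases j with j | j <;> fin_cases j <;> simp [Pi.single_apply, hx, hw]

/-- the elements acting trivially on the flag -/
def flagKer (x w : V₄) : Subgroup (Matrix.symplecticGroup (Fin 2) F) where
  carrier := {g | spRep 2 F g x = x ∧ spRep 2 F g w - w ∈ Submodule.span F {x}}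
  one_mem' := ⟨by rw [map_one]; rfl, by rw [map_one]; simp⟩
  mul_mem' := by
    rintro a b ⟨ha, ha'⟩ ⟨hb, hb'⟩
    refine ⟨by rw [map_mul, LinearEquiv.mul_apply, hb, ha], ?_⟩
    obtain ⟨k, hk⟩ := Submodule.mem_span_singleton.1 hb'
    rw [map_mul, LinearEquiv.mul_apply, show spRep 2 F b w = k • x + w by rw [hk, sub_add_cancel], map_add, map_smul,
      ha, add_sub_assoc]
    exact add_mem (Submodule.smul_mem _ k (Submodule.mem_span_singleton_self x)) ha'
  inv_mem' := by
    rintro a ⟨ha, ha'⟩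
    have hx : spRep 2 F a⁻¹ x = x := by
      conv_lhs => rw [← ha]
      exact rep_inv_apply (spRep 2 F) a x
    refine ⟨hx, ?_⟩
    obtain ⟨k, hk⟩ := Submodule.mem_span_singleton.1 ha'
    have h1 := congrArg (spRep 2 F a⁻¹) hk
    rw [map_smul, hx, map_sub, rep_inv_apply] at h1
    rw [show spRep 2 F a⁻¹ w - w = -(k • x) by rw [h1, neg_sub]]
    exact neg_mem (Submodule.smul_mem _ k (Submodule.mem_span_singleton_self x))

theorem isPGroup_flagKer (h2 : (2 : F) = 0) {x w y z : V₄}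
    (q : Quad x w y z) (hW : ∀ v, stdSymp 2 v x = 0 → stdSymp 2 v w = 0 → v ∈ Submodule.span F {x, w}) :
    IsPGroup 2 ↥(flagKer x w) := by
  have hB := isSympForm_std (F := F) 2
  rintro ⟨g, hgx, hgw⟩
  set ρ := spRep 2 F g with hρ
  have hn : ∀ v : V₄, v + v = 0 := fun v => by rw [← two_smul F, h2, zero_smul]
  let N : V₄ → V₄ := fun v => ρ v - v
  have hN : ∀ v : V₄, N (N v) = ρ (ρ v) - v := fun v => by
    show ρ (ρ v - v) - (ρ v - v) = _
    rw [map_sub]
    calc ρ (ρ v) - ρ v - (ρ v - v) = ρ (ρ v) - v - (ρ v + ρ v) + (v + v) := by abel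
      _ = _ := by rw [hn, hn, sub_zero, add_zero]
  obtain ⟨c, hc⟩ := Submodule.mem_span_singleton.1 hgw
  have hiso : ∀ u v, stdSymp 2 (ρ u) (ρ v) = stdSymp 2 u v := (spForm 2).isom g
  have hxperp : ∀ v, stdSymp 2 (N v) x = 0 := fun v => by
    show stdSymp 2 (ρ v - v) x = 0
    rw [map_sub, LinearMap.sub_apply]
    conv_lhs => arg 1; rw [← hgx]
    rw [hiso, sub_self]
  have hwperp : ∀ v, stdSymp 2 v x = 0 → stdSymp 2 (N v) w = 0 := fun v hv => by
    show stdSymp 2 (ρ v - v) w = 0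
    have h1 := hiso v w
    rw [show ρ w = c • x + w by rw [hc, sub_add_cancel], map_add, map_smul] at h1
    have h3 : stdSymp 2 (ρ v) x = 0 := by
      conv_lhs => rw [← hgx]
      rw [hiso, hv]
    rw [h3, smul_zero, zero_add] at h1
    rw [map_sub, LinearMap.sub_apply, h1, sub_self]
  have hWx : ∀ v ∈ Submodule.span F {x, w}, N v ∈ Submodule.span F {x} := by
    intro v hv
    obtain ⟨r, s, rfl⟩ := Submodule.mem_span_pair.1 hv
    show ρ (r • x + s • w) - (r • x + s • w) ∈ _
    rw [map_add, map_smul, map_smul, hgx, add_sub_add_left_eq_sub, ← smul_sub]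
    exact Submodule.smul_mem _ s hgw
  have h4 : ∀ v, N (N (N (N v))) = 0 := by
    intro v
    obtain ⟨r, hr⟩ := Submodule.mem_span_singleton.1
      (hWx _ (hW _ (hxperp (N v)) (hwperp _ (hxperp v))))
    rw [← hr]
    show ρ (r • x) - r • x = 0
    rw [map_smul, hgx, sub_self]
  refine ⟨2, Subtype.ext ((spForm (F := F) 2).inj (LinearEquiv.ext fun v => ?_))⟩
  show spRep 2 F (g ^ 4) v = spRep 2 F 1 v
  rw [map_one, show g ^ 4 = g * g * (g * g) by rw [pow_succ, pow_succ, pow_two, mul_assoc], map_mul, map_mul,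
    LinearEquiv.mul_apply, LinearEquiv.mul_apply, LinearEquiv.mul_apply]
  have h5 := h4 v
  rw [hN (N (N v)), hN v, map_sub, map_sub] at h5
  show ρ (ρ (ρ (ρ v))) = v
  calc ρ (ρ (ρ (ρ v))) = (ρ (ρ (ρ (ρ v))) - ρ (ρ v) - (ρ (ρ v) - v)) + (ρ (ρ v) + ρ (ρ v)) - v := by abel
    _ = v := by rw [h5, hn, zero_add, zero_sub]; exact neg_eq_of_add_eq_zero_left (hn v)

theorem mem_stabK_proj [CharP F 2] {S : Set V₄} {g : Matrix.symplecticGroup (Fin 2) F} :
    PSpAut.proj g ∈ stabK PSpAut.proj (spRep 2 F) S ↔ g ∈ setStab (spRep 2 F) S :=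
  Subgroup.mem_map_iff_mem (PSpAut.proj_injective (by exact_mod_cast CharP.cast_eq_zero F 2))

theorem stabK_ne_top_of_move (h2 : (2 : F) = 0) {x w v : V₄} (hv : v ∈ Submodule.span F {x})
    (hswap : ∃ g, spRep 2 F g x ∈ Submodule.span F {x, w} ∧ spRep 2 F g w ∈ Submodule.span F {x, w} ∧
      spRep 2 F g x ∉ Submodule.span F {x} ∧ ∃ v, stdSymp 2 v x = 0 ∧ stdSymp 2 (spRep 2 F g v) x ≠ 0) :
    stabK PSpAut.proj (spRep 2 F) (Submodule.span F {x} : Set V₄) ≠ ⊤ := by
  haveI : CharP F 2 := CharTwo.of_one_ne_zero_of_two_eq_zero one_ne_zero h2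
  obtain ⟨g, -, -, hg, -⟩ := hswap
  exact fun e => hg ((mem_stabK_proj.1 (e ▸ Subgroup.mem_top (PSpAut.proj g)) x).1
    (Submodule.mem_span_singleton_self x))

theorem mem_setStab_span {x : V₄} {g : Matrix.symplecticGroup (Fin 2) F}
    (hg : spRep 2 F g x ∈ Submodule.span F {x}) :
    g ∈ setStab (spRep 2 F) (Submodule.span F {x} : Set V₄) :=
  mem_setStab_of_mapsTo fun v hv => by
    obtain ⟨k, rfl⟩ := Submodule.mem_span_singleton.1 hv
    rw [map_smul]
    exact Submodule.smul_mem _ k hg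

theorem isSwap_PSp_four [CharP F 2] (hq : 3 ≤ Fintype.card F) : IsSwap 2 (Cfsg.PSp 2 F) := by
  have h2 : (2 : F) = 0 := by exact_mod_cast CharP.cast_eq_zero F 2
  haveI : Fact (Nat.Prime 2) := ⟨Nat.prime_two⟩
  have hB := isSympForm_std (F := F) 2
  set x : V₄ := Pi.single (.inl 0) 1 with hxdef
  set w : V₄ := Pi.single (.inl 1) 1 with hwdef
  set z : V₄ := Pi.single (.inr 1) 1 with hzdef
  have q : Quad x w (Pi.single (.inr 0) 1) z := ⟨by simp [hxdef, hwdef, stdSymp_single, Matrix.J],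
    by simp [hwdef, stdSymp_single, Matrix.J], by simp [hxdef, hzdef, stdSymp_single, Matrix.J],
    by simp [hzdef, stdSymp_single, Matrix.J], by simp [hxdef, stdSymp_single, Matrix.J],
    by simp [hwdef, hzdef, stdSymp_single, Matrix.J]⟩
  have fl := spFlag q
  obtain ⟨P, h1, hW2⟩ := fl.exists_sylow (p := 2)
  set π := (PSpAut.proj (F := F) (m := 2))
  set ρ := spRep 2 F
  set W := Submodule.span F {x, w}
  have hxW : x ∈ W := Submodule.subset_span (Set.mem_insert _ _)
  have hwW : w ∈ W := Submodule.subset_span (Set.mem_insert_of_mem x rfl)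
  have hP1 : ∀ u ∈ P, ρ u x = x := fun u hu => sub_eq_zero.1 ((Submodule.mem_bot F).1
    (mem_fixSeq_succ.1 (h1.ge (Submodule.mem_span_singleton_self x)) u hu))
  have hP2 : ∀ u ∈ P, ρ u w - w ∈ Submodule.span F {x} := fun u hu => h1.le
    (mem_fixSeq_succ.1 (hW2.ge hwW) u hu)
  have hPD : (P : Subgroup _) = flagKer x w :=
    (P.is_maximal' (isPGroup_flagKer h2 q fun v => spRep_flag_four) fun u hu => ⟨hP1 u hu, hP2 u hu⟩).symm
  refine isSwap_of_one (P.mapSurjective PSpAut.proj_surjective) fun Γ _ hinv => ?_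
  by_cases hall : ∀ γ ∈ Γ, ∃ φ : V₄ ≃+ V₄, Intertwines π ρ ρ γ φ
  · exact Or.inl (fl.hasPieces PSpAut.proj_surjective proj_ker_le (good_Sp 2 one_le_two) P h1 hW2 hinv hall)
  push Not at hall
  obtain ⟨α, hαΓ, hαnot⟩ := hall
  obtain ⟨ε, g, σ, hε, rfl⟩ := PSpAut.exists_eq_graph_mul h2 hq α
  rcases hε with rfl | rfl
  · rw [one_mul] at hαnot
    exact absurd (intertwines_semisim g σ) (not_exists.2 hαnot)
  set s := PSpAut.conj g * PSpAut.fieldAut σ
  set α := PSpAut.graphAut4 h2 hq * s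
  refine Or.inr ⟨⟨α, hαΓ, fun ⟨k, hk⟩ => ?_⟩, ?_⟩
  · obtain ⟨t, rfl⟩ := PSpAut.proj_surjective k
    obtain ⟨φ, hφ⟩ := intertwines_semisim (PSpAut.spGSp t) (1 : F ≃+* F)
    rw [map_one, mul_one, PSpAut.conj_spGSp, hk] at hφ
    exact hαnot φ hφ
  set Y₁ := stabK π ρ (Submodule.span F {x} : Set V₄)
  set Y₂ := stabK π ρ (W : Set V₄)
  -- `α` does not fix the stabilizer of the point
  have hnot : ¬ ∀ y ∈ Y₁, α y ∈ Y₁ := by
    intro hY
    obtain ⟨φ, hφ⟩ := intertwines_semisim g σ
    obtain ⟨g', hg', hτ⟩ := graph_not_point h2 (y := φ x) (a := x)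
      ((map_ne_zero_iff _ φ.injective).2 fl.x_ne) fl.x_ne
    obtain ⟨g₀, hg₀⟩ := PSpAut.proj_surjective (s⁻¹ (π g'))
    obtain ⟨g'', e1, e2⟩ := hφ g₀
    have e3 : s (π g₀) = π g' := by
      rw [show π g₀ = s⁻¹ (π g') from hg₀]
      exact s.apply_symm_apply _
    obtain rfl := PSpAut.proj_injective h2 (e1.trans e3)
    have e5 : ρ g₀ x = x := φ.injective ((e2 x).symm.trans hg')
    have h3 := hY (π g₀) (Subgroup.mem_map_of_mem π
      (mem_setStab_span (by rw [e5]; exact Submodule.mem_span_singleton_self x)))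
    rw [MulAut.mul_apply, e3] at h3
    exact hτ (((mem_stabK_proj (g := PSpAut.graphSp h2 g'')).1 h3 x).1 (Submodule.mem_span_singleton_self x))
  -- a proper subgroup over the Sylow subgroup stabilizes the point or the line
  have hcases : ∀ L : Subgroup (Cfsg.PSp 2 F), (P : Subgroup _).map π ≤ L → L ≠ ⊤ → L ≤ Y₁ ∨ L ≤ Y₂ := by
    intro L hPL hL
    obtain ⟨S, hS0, hS1, hSP, hS⟩ := exists_invariant_submodule' (good_Sp 2 one_le_two) PSpAut.proj_surjective
      (spForm (F := F) 2).inj P hPL hL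
    have hxS : x ∈ S := by
      obtain ⟨v, hv, hv0, hvf⟩ := exists_fixed_ne_zero (τ := ρ) P.isPGroup' hS0 hSP
      have hmem : v ∈ fixSeq ρ (P : Subgroup _) 1 := mem_fixSeq_succ.2 fun u hu => by
        rw [hvf u hu, sub_self]; exact zero_mem _
      obtain ⟨c, rfl⟩ := Submodule.mem_span_singleton.1 (h1.le hmem)
      have hc0 : c ≠ 0 := fun e => hv0 (by rw [e, zero_smul])
      have := Submodule.smul_mem _ c⁻¹ hv
      rwa [smul_smul, inv_mul_cancel₀ hc0, one_smul] at this
    have hshear : ∀ (u : V₄) (c : F) (hu : stdSymp 2 u x = 0) (v : V₄), v ∈ S →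
        stdSymp 2 x v • u + (stdSymp 2 u v + c * stdSymp 2 x v) • x ∈ S := by
      intro u c hu v hv
      obtain ⟨A, hA⟩ := exists_spRep (sympShear_mem hB x u c hu)
      have hAP : A ∈ P := by
        show A ∈ (P : Subgroup _)
        rw [hPD]
        refine ⟨?_, ?_⟩ <;> rw [hA, sympShear_apply]
        · rw [hB.alt, hu]; simp
        · rw [show stdSymp 2 x w = 0 by rw [hB.flip, q.wx, neg_zero]]
          simpa using Submodule.smul_mem _ _ (Submodule.mem_span_singleton_self x)
      have := sub_mem (hSP A hAP v hv) hv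
      rwa [hA, sympShear_apply, add_assoc, add_sub_cancel_left] at this
    have hSx : ∀ v ∈ S, stdSymp 2 v x = 0 := by
      by_contra hcon
      push Not at hcon
      obtain ⟨v, hv, hvx⟩ := hcon
      have hxv : stdSymp 2 x v ≠ 0 := by rw [hB.flip, neg_ne_zero]; exact hvx
      refine hS1 (eq_top_iff.2 fun t _ => ?_)
      have hperp : ∀ u, stdSymp 2 u x = 0 → u ∈ S := fun u hu => by
        have := sub_mem (hshear u 0 hu v hv) (S.smul_mem (stdSymp 2 u v + 0 * stdSymp 2 x v) hxS)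
        rwa [add_sub_cancel_right, Submodule.smul_mem_iff _ hxv] at this
      have h5 := hperp (t - (stdSymp 2 t x / stdSymp 2 v x) • v) (by
        simp only [map_sub, map_smul, LinearMap.sub_apply, LinearMap.smul_apply, smul_eq_mul]
        rw [div_mul_cancel₀ _ hvx, sub_self])
      have h6 := add_mem h5 (S.smul_mem (stdSymp 2 t x / stdSymp 2 v x) hv)
      rwa [sub_add_cancel] at h6
    by_cases hSW : ∀ v ∈ S, stdSymp 2 v w = 0
    · have hle : S ≤ W := fun v hv => spRep_flag_four (hSx v hv) (hSW v hv)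
      by_cases hSl : S ≤ Submodule.span F {x}
      · refine Or.inl fun l hl => ?_
        obtain ⟨l, rfl⟩ := PSpAut.proj_surjective l
        exact Subgroup.mem_map_of_mem π (mem_setStab_span (hSl (hS l hl x hxS)))
      · obtain ⟨v, hv, hvn⟩ := SetLike.not_le_iff_exists.1 hSl
        obtain ⟨a, b, hab⟩ := Submodule.mem_span_pair.1 (hle hv)
        have hb : b ≠ 0 := fun e => hvn (by
          rw [← hab, e, zero_smul, add_zero]; exact Submodule.smul_mem _ _ (Submodule.mem_span_singleton_self x))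
        have hwS := S.smul_mem b⁻¹ (sub_mem hv (S.smul_mem a hxS))
        rw [← hab, add_sub_cancel_left, smul_smul, inv_mul_cancel₀ hb, one_smul] at hwS
        have hSe : S = W := le_antisymm hle (by
          rw [Submodule.span_le]
          rintro t (rfl | rfl)
          · exact hxS
          · exact hwS)
        refine Or.inr fun l hl => ?_
        obtain ⟨l, rfl⟩ := PSpAut.proj_surjective l
        exact Subgroup.mem_map_of_mem π (mem_setStab_of_mapsTo (S := (W : Set V₄)) (hSe ▸ hS l hl))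
    · push Not at hSW
      obtain ⟨v, hv, hvw⟩ := hSW
      have hwS : w ∈ S := by
        obtain ⟨A, hA⟩ := exists_spRep (sympShear_mem hB w 0 1 (LinearMap.map_zero₂ _ _))
        have hAP : A ∈ P := by
          show A ∈ (P : Subgroup _)
          rw [hPD]
          refine ⟨?_, ?_⟩ <;> rw [hA, sympShear_apply]
          · rw [q.wx]; simp
          · rw [hB.alt]; simp
        have := sub_mem (hSP A hAP v hv) hv
        have hwv : stdSymp 2 w v ≠ 0 := by rw [hB.flip, neg_ne_zero]; exact hvw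
        rwa [hA, sympShear_apply, smul_zero, add_zero, map_zero, LinearMap.zero_apply, zero_add, one_mul,
          add_sub_cancel_left, Submodule.smul_mem_iff _ hwv] at this
      have hxw : stdSymp 2 x w = 0 := by rw [hB.flip, q.wx, neg_zero]
      have hperp : ∀ u, stdSymp 2 u x = 0 → u ∈ S := by
        intro u hu
        have hle : u - (stdSymp 2 u w / stdSymp 2 v w) • v ∈ W := by
          refine spRep_flag_four ?_ ?_
          · show stdSymp 2 _ x = 0
            simp only [map_sub, map_smul, LinearMap.sub_apply, LinearMap.smul_apply, smul_eq_mul, hu, hSx v hv]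
            ring
          · show stdSymp 2 _ w = 0
            simp only [map_sub, map_smul, LinearMap.sub_apply, LinearMap.smul_apply, smul_eq_mul]
            rw [div_mul_cancel₀ _ hvw, sub_self]
        have hWS : W ≤ S := by
          rw [Submodule.span_le]
          rintro t (rfl | rfl)
          · exact hxS
          · exact hwS
        have := add_mem (hWS hle) (S.smul_mem (stdSymp 2 u w / stdSymp 2 v w) hv)
        rwa [sub_add_cancel] at this
      refine Or.inl fun l hl => ?_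
      obtain ⟨l, rfl⟩ := PSpAut.proj_surjective l
      refine Subgroup.mem_map_of_mem π (mem_setStab_span (sympPerp1 q.yx fun u hu => ?_))
      have hu' : ρ l⁻¹ u ∈ S := by
        have h7 := hS l⁻¹ (by rw [map_inv]; exact inv_mem hl) u (hperp u hu)
        exact h7
      have h8 := (spForm (F := F) 2).isom l (ρ l⁻¹ u) x
      rw [rep_apply_inv] at h8
      exact h8.trans (hSx _ hu')
  intro Y hNY hYt hYΓ
  have hPU : (P : Subgroup _).map π ≤ Y := Subgroup.le_normalizer.trans hNY
  have hYα : ∀ {Z : Subgroup (Cfsg.PSp 2 F)}, Y ≤ Z → Y ≤ Z.map α.toMonoidHom := fun {Z} hZ y hy =>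
    ⟨α⁻¹ y, hZ (hYΓ _ (inv_mem hαΓ) y hy), α.apply_symm_apply y⟩
  have hPmap : ∀ {Z : Subgroup (Cfsg.PSp 2 F)}, (P : Subgroup _).map π ≤ Z →
      (P : Subgroup _).map π ≤ Z.map α.toMonoidHom := fun {Z} hZ y hy =>
    ⟨α⁻¹ y, hZ (hinv _ (inv_mem hαΓ) y hy), α.apply_symm_apply y⟩
  have hmapne : ∀ {Z : Subgroup (Cfsg.PSp 2 F)}, Z ≠ ⊤ → Z.map α.toMonoidHom ≠ ⊤ := fun {Z} hZ e => hZ
    (Subgroup.map_injective α.injective (e.trans (Subgroup.map_top_of_surjective _ α.surjective).symm))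
  have hP₁ : (P : Subgroup _).map π ≤ Y₁ := Subgroup.map_mono fun u hu =>
    mem_setStab_span (by rw [hP1 u hu]; exact Submodule.mem_span_singleton_self x)
  have hP₂ : (P : Subgroup _).map π ≤ Y₂ := Subgroup.map_mono fun u hu =>
    mem_setStab_of_mapsTo (S := (W : Set V₄)) (by rw [← hW2]; exact fixSeq_invariant _ hu 2)
  -- an element of the stabilizer of the point moving the line
  obtain ⟨A, hA⟩ := exists_spRep (sympShear_mem hB z 0 1 (LinearMap.map_zero₂ _ _))
  have hA1 : π A ∈ Y₁ := Subgroup.mem_map_of_mem π (mem_setStab_span (by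
    rw [hA, sympShear_apply, q.zx]
    simpa using Submodule.mem_span_singleton_self x))
  have hA2 : π A ∉ Y₂ := fun hm => by
    obtain ⟨a, b, hab⟩ := Submodule.mem_span_pair.1 ((mem_stabK_proj.1 hm w).1 hwW)
    have h9 := congrArg (fun v => stdSymp 2 v w) hab
    simp only [map_add, map_smul, LinearMap.add_apply, LinearMap.smul_apply, smul_eq_mul, hA, sympShear_apply,
      map_zero, LinearMap.zero_apply, show stdSymp 2 x w = 0 by rw [hB.flip, q.wx, neg_zero], hB.alt, smul_zero,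
      mul_zero, add_zero, zero_add, one_mul] at h9
    exact mul_ne_zero q.zw q.zw h9.symm
  have h₁₂ : Y₁.map α.toMonoidHom ≤ Y₂ := by
    refine (hcases _ (hPmap hP₁) (hmapne ?_)).resolve_left fun hle => hnot fun y hy => hle ⟨y, hy, rfl⟩
    exact stabK_ne_top_of_move h2 (v := x) (Submodule.mem_span_singleton_self x) fl.swap
  have h21 : Y₂.map α.toMonoidHom ≤ Y₁ := by
    refine (hcases _ (hPmap hP₂) (hmapne ?_)).resolve_right fun hle => hA2 ?_
    · exact fun e => hA2 (e ▸ Subgroup.mem_top _)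
    · have e : Y₂.map α.toMonoidHom = Y₂ := SetLike.coe_injective (Set.eq_of_subset_of_ncard_le hle (le_of_eq (by
        rw [Subgroup.coe_map]; exact (Set.ncard_image_of_injective _ α.injective).symm)))
      have h10 : α (π A) ∈ Y₂.map α.toMonoidHom := e.symm ▸ h₁₂ ⟨π A, hA1, rfl⟩
      exact (Subgroup.mem_map_iff_mem α.injective).1 h10
  intro y hy
  obtain ⟨y, rfl⟩ := PSpAut.proj_surjective y
  have hY12 : π y ∈ Y₁ ∧ π y ∈ Y₂ := by
    rcases hcases Y hPU hYt with h | h
    · exact ⟨h hy, h₁₂ (hYα h hy)⟩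
    · exact ⟨h21 (hYα h hy), h hy⟩
  have hy1 := mem_stabK_proj.1 hY12.1
  have hy2 := mem_stabK_proj.1 hY12.2
  have key : ∀ l, l ∈ setStab ρ (Submodule.span F {x} : Set V₄) → l ∈ setStab ρ (W : Set V₄) →
      ∀ u ∈ flagKer x w, l * u * l⁻¹ ∈ flagKer x w := by
    rintro l hl hl' u ⟨hu, hu'⟩
    obtain ⟨k, hk⟩ := Submodule.mem_span_singleton.1
      (((inv_mem hl : l⁻¹ ∈ _) x).1 (Submodule.mem_span_singleton_self x))
    obtain ⟨a, b, hab⟩ := Submodule.mem_span_pair.1 (((inv_mem hl' : l⁻¹ ∈ _) w).1 hwW)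
    refine ⟨?_, ?_⟩
    · show ρ (l * u * l⁻¹) x = x
      rw [map_mul, map_mul, LinearEquiv.mul_apply, LinearEquiv.mul_apply, ← hk, map_smul, hu, hk, rep_apply_inv]
    · show ρ (l * u * l⁻¹) w - w ∈ Submodule.span F {x}
      conv in (ρ (l * u * l⁻¹) w - w) => arg 2; rw [← rep_apply_inv ρ l w]
      rw [map_mul, map_mul, LinearEquiv.mul_apply, LinearEquiv.mul_apply, ← map_sub]
      refine (hl _).1 ?_
      rw [← hab, map_add, map_smul, map_smul, hu, add_sub_add_left_eq_sub, ← smul_sub]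
      exact Submodule.smul_mem _ b hu'
  refine Subgroup.le_normalizer_map π ⟨y, ?_, rfl⟩
  show y ∈ Subgroup.normalizer ((P : Subgroup (Matrix.symplecticGroup (Fin 2) F)) : Set (Matrix.symplecticGroup (Fin 2) F))
  rw [hPD]
  refine Subgroup.mem_normalizer_iff.2 fun u => ⟨key y hy1 hy2 u, fun hu => ?_⟩
  simpa [mul_assoc] using key y⁻¹ (inv_mem hy1) (inv_mem hy2) _ hu

end Cfsg.Agent.Lib.PMinimalLie
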