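import Cfsg.Agent.Lib.PMinimalLie.FormPieces
import Cfsg.Agent.Lib.SylowOvergroup.Symplectic
import Cfsg.Agent.Lib.PSpAut.Main

/-!
`PSp_{2m}` away from `m = p = 2`: two pieces.
-/

set_option autoImplicit false

namespace Cfsg.Agent.Lib.PMinimalLie

open Classical SylowOvergroup

variable {F : Type*} [Field F] {m : ℕ}

local notation "V" => (Fin m ⊕ Fin m → F)
local notation "B" => stdSymp (F := F) m

theorem stdSymp_single (a b : Fin m ⊕ Fin m) :
    stdSymp (F := F) m (Pi.single a 1) (Pi.single b 1) = Matrix.J (Fin m) F a b := by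
  rw [stdSymp_apply]
  simp [sympFn, Matrix.mulVec_single, single_dotProduct]

/-- four vectors spanning two orthogonal planes -/
structure Quad (x w y z : Fin m ⊕ Fin m → F) : Prop where
  wx : B w x = 0
  yw : B y w = 0
  zx : B z x = 0
  zy : B z y = 0
  yx : B y x ≠ 0
  zw : B z w ≠ 0

theorem exists_quad (hm : 2 ≤ m) : ∃ x w y z : Fin m ⊕ Fin m → F, Quad x w y z :=
  ⟨Pi.single (.inl ⟨0, by omega⟩) 1, Pi.single (.inl ⟨1, by omega⟩) 1, Pi.single (.inr ⟨0, by omega⟩) 1,
    Pi.single (.inr ⟨1, by omega⟩) 1,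
    ⟨by simp [stdSymp_single, Matrix.J], by simp [stdSymp_single, Matrix.J], by simp [stdSymp_single, Matrix.J],
      by simp [stdSymp_single, Matrix.J], by simp [stdSymp_single, Matrix.J],
      by simp [stdSymp_single, Matrix.J]⟩⟩

variable {x w y z : Fin m ⊕ Fin m → F}

theorem sympPerp1 (hy : B y x ≠ 0) {v : V} (hall : ∀ u, B u x = 0 → B u v = 0) :
    v ∈ Submodule.span F {x} := by
  have hB := isSympForm_std (F := F) m
  refine Submodule.mem_span_singleton.2 ⟨B y v / B y x, (sub_eq_zero.1 (hB.nondeg _ fun u => ?_)).symm⟩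
  have h1 := hall (u - (B u x / B y x) • y) (by
    simp only [map_sub, map_smul, LinearMap.sub_apply, LinearMap.smul_apply, smul_eq_mul]
    rw [div_mul_cancel₀ _ hy, sub_self])
  simp only [map_sub, map_smul, LinearMap.sub_apply, LinearMap.smul_apply, smul_eq_mul] at h1 ⊢
  rw [hB.flip v u, hB.flip x u]
  field_simp at h1 ⊢
  linear_combination -h1

theorem sympPerp2 (q : Quad x w y z) {v : V} (hall : ∀ u, B u x = 0 → B u w = 0 → B u v = 0) :
    v ∈ Submodule.span F {x, w} := by
  have hB := isSympForm_std (F := F) m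
  refine Submodule.mem_span_pair.2 ⟨B y v / B y x, B z v / B z w,
    (sub_eq_zero.1 (hB.nondeg _ fun u => ?_)).symm⟩
  have hxw : B x w = 0 := by rw [hB.flip, q.wx, neg_zero]
  have h1 := hall (u - (B u x / B y x) • y - (B u w / B z w) • z) (by
    simp only [map_sub, map_smul, LinearMap.sub_apply, LinearMap.smul_apply, smul_eq_mul, q.zx]
    rw [div_mul_cancel₀ _ q.yx]; ring) (by
    simp only [map_sub, map_smul, LinearMap.sub_apply, LinearMap.smul_apply, smul_eq_mul, q.yw]
    rw [div_mul_cancel₀ _ q.zw]; ring)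
  have hy := q.yx
  have hz := q.zw
  simp only [map_sub, map_add, map_smul, LinearMap.sub_apply, LinearMap.add_apply, LinearMap.smul_apply,
    smul_eq_mul] at h1 ⊢
  rw [hB.flip v u, hB.flip x u, hB.flip w u]
  field_simp at h1 ⊢
  linear_combination -h1

theorem spFlag (q : Quad x w y z) : Flag (spForm (F := F) m) x w := by
  have hB := isSympForm_std (F := F) m
  have hxw : B x w = 0 := by rw [hB.flip, q.wx, neg_zero]
  have hwz : B w z ≠ 0 := by rw [hB.flip, neg_ne_zero]; exact q.zw
  have hxy : B x y ≠ 0 := by rw [hB.flip, neg_ne_zero]; exact q.yx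
  have hx0 : x ≠ 0 := fun e => q.yx (by rw [e, map_zero])
  have hwn : w ∉ Submodule.span F {x} := fun hw => by
    obtain ⟨c, hc⟩ := Submodule.mem_span_singleton.1 hw
    exact q.zw (by rw [← hc, map_smul, q.zx, smul_zero])
  refine ⟨hx0, hwn, hB.alt x, q.wx, ?_, ?_, ?_, ?_, ?_⟩
  · intro v hv
    obtain ⟨A, hA⟩ := exists_spRep (sympShear_mem hB x w 0 q.wx)
    refine ⟨A, sympShear_mem_formRad _ _ _ q.wx hA, fun hm => ?_⟩
    have hv' : B x v ≠ 0 := by rw [hB.flip, neg_ne_zero]; exact hv
    rw [hA, sympShear_apply, zero_mul, add_zero, add_assoc, add_sub_cancel_left] at hm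
    have h2 := sub_mem hm (Submodule.smul_mem _ (B w v) (Submodule.mem_span_singleton_self x))
    rw [add_sub_cancel_right, Submodule.smul_mem_iff _ hv'] at h2
    exact hwn h2
  · intro v hv hvx
    obtain ⟨u, hu, huv⟩ : ∃ u, B u x = 0 ∧ B u v ≠ 0 := by
      by_contra hcon
      push Not at hcon
      exact hvx (sympPerp1 q.yx hcon)
    obtain ⟨A, hA⟩ := exists_spRep (sympShear_mem hB x u 0 hu)
    refine ⟨A, sympShear_mem_formRad _ _ _ hu hA, fun e => ?_⟩
    rw [hA, sympShear_apply, show B x v = 0 by rw [hB.flip, show B v x = 0 from hv, neg_zero], zero_smul,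
      mul_zero, add_zero, add_zero, add_eq_left, smul_eq_zero] at e
    exact e.elim huv hx0
  · intro v hv hvW
    have mem : ∀ (u : V) (c : F) (hu : B u w = 0), B u x = 0 → ∀ A, spRep m F A = sympShear hB w u c hu →
        A ∈ formRad (spForm m) (Submodule.span F {x, w}) := by
      intro u c hu hux A hA
      refine (mem_formRad (spForm m)).2 ⟨fun a ha => ?_, fun a ha => ?_⟩
      · obtain ⟨r, s, rfl⟩ := Submodule.mem_span_pair.1 ha
        rw [hA, sympShear_apply]
        simp [map_add, map_smul, hB.alt, q.wx, hu, hux]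
      · have h1 : B w a = 0 := by
          rw [hB.flip, show B a w = 0 from ha w (Submodule.subset_span (Set.mem_insert_of_mem x rfl)), neg_zero]
        rw [hA, sympShear_apply, h1, zero_smul, add_zero, add_sub_cancel_left]
        exact Submodule.smul_mem _ _ (Submodule.subset_span (Set.mem_insert_of_mem x rfl))
    by_cases hb : B w v = 0
    · obtain ⟨u, hu, huw, huv⟩ : ∃ u, B u x = 0 ∧ B u w = 0 ∧ B u v ≠ 0 := by
        by_contra hcon
        push Not at hcon
        exact hvW (sympPerp2 q hcon)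
      obtain ⟨A, hA⟩ := exists_spRep (sympShear_mem hB w u 0 huw)
      refine ⟨A, mem u 0 huw hu A hA, fun hm => hwn ?_⟩
      rw [hA, sympShear_apply, hb, zero_smul, mul_zero, add_zero, add_zero, add_sub_cancel_left,
        Submodule.smul_mem_iff _ huv] at hm
      exact hm
    · obtain ⟨A, hA⟩ := exists_spRep (sympShear_mem hB w 0 1 (LinearMap.map_zero₂ _ _))
      refine ⟨A, mem 0 1 _ (LinearMap.map_zero₂ _ _) A hA, fun hm => hwn ?_⟩
      rw [hA, sympShear_apply, smul_zero, add_zero, map_zero, LinearMap.zero_apply, zero_add, one_mul,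
        add_sub_cancel_left, Submodule.smul_mem_iff _ hb] at hm
      exact hm
  · obtain ⟨A, hA⟩ := exists_spRep (sympShear_mem hB w y 0 q.yw)
    have hx : spRep m F A x = x + B y x • w := by
      rw [hA, sympShear_apply, q.wx]
      simp
    refine ⟨A, ?_, ?_, ?_, z, q.zx, ?_⟩
    · rw [hx]
      exact add_mem (Submodule.subset_span (Set.mem_insert _ _))
        (Submodule.smul_mem _ _ (Submodule.subset_span (Set.mem_insert_of_mem x rfl)))
    · rw [hA, sympShear_apply, hB.alt, q.yw]
      simpa using Submodule.subset_span (Set.mem_insert_of_mem x (Set.mem_singleton w))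
    · intro hm
      rw [hx] at hm
      have h2 := sub_mem hm (Submodule.mem_span_singleton_self x)
      rw [add_sub_cancel_left, Submodule.smul_mem_iff _ q.yx] at h2
      exact hwn h2
    · show B (spRep m F A z) x ≠ 0
      rw [hA, sympShear_apply]
      simp [map_add, map_smul, q.zx, q.wx, hwz, q.yx]
  · intro S hx hw hS v hv
    have hsh : ∀ (u : V) (c : F), B u z = 0 → B u x = 0 → w + B z w • u + (B u w + c * B z w) • z ∈ S := by
      intro u c hu hux
      obtain ⟨A, hA⟩ := exists_spRep (sympShear_mem hB z u c hu)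
      have := hS A (by
        rw [hA, sympShear_apply, q.zx, hux]
        simpa using Submodule.mem_span_singleton_self x) w hw
      rwa [hA, sympShear_apply] at this
    have hzS : z ∈ S := by
      have := sub_mem (hsh 0 1 (LinearMap.map_zero₂ _ _) (LinearMap.map_zero₂ _ _)) hw
      rw [smul_zero, add_zero, add_sub_cancel_left, map_zero, LinearMap.zero_apply, zero_add, one_mul,
        Submodule.smul_mem_iff _ q.zw] at this
      exact this
    set u := v - (B v z / B w z) • w - (B v w / B z w) • z with hu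
    have hu1 : B u z = 0 := by
      simp only [hu, map_sub, map_smul, LinearMap.sub_apply, LinearMap.smul_apply, smul_eq_mul, hB.alt]
      rw [div_mul_cancel₀ _ hwz]; ring
    have hu2 : B u x = 0 := by
      simp only [hu, map_sub, map_smul, LinearMap.sub_apply, LinearMap.smul_apply, smul_eq_mul, q.wx, q.zx,
        show B v x = 0 from hv]
      ring
    have h1 := sub_mem (sub_mem (hsh u 0 hu1 hu2) hw) (S.smul_mem (B u w + 0 * B z w) hzS)
    rw [add_sub_right_comm, add_sub_cancel_right, add_sub_cancel_left, Submodule.smul_mem_iff _ q.zw] at h1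
    have h2 := add_mem (add_mem h1 (S.smul_mem (B v w / B z w) hzS)) (S.smul_mem (B v z / B w z) hw)
    rwa [hu, sub_add_cancel, sub_add_cancel] at h2

theorem intertwines_semisim (g : PSpAut.GSpT m F) (σ : F ≃+* F) :
    ∃ φ : V ≃+ V, Intertwines (PSpAut.proj (F := F) (m := m)) (spRep m F) (spRep m F)
      (PSpAut.conj g * PSpAut.fieldAut σ) φ := by
  refine ⟨{ toFun := fun v => PSpAut.gv g.1 (PSpAut.sv σ v)
            invFun := fun v => PSpAut.sv σ.symm (PSpAut.gv g.1⁻¹ v)
            left_inv := fun v => by funext i; simp [PSpAut.gv_inv_cancel', PSpAut.sv]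
            right_inv := fun v => by
              show PSpAut.gv g.1 (PSpAut.sv σ (PSpAut.sv σ.symm (PSpAut.gv g.1⁻¹ v))) = v
              rw [show PSpAut.sv σ (PSpAut.sv σ.symm (PSpAut.gv g.1⁻¹ v)) = PSpAut.gv g.1⁻¹ v by
                funext i; simp [PSpAut.sv], PSpAut.gv_inv_cancel]
            map_add' := fun u v => by
              simp only [PSpAut.gv, ← Matrix.mulVec_add]
              congr 1
              funext i; simp [PSpAut.sv] },
    fun s => ⟨PSpAut.spConjFun g (PSpAut.spFieldFun σ s), ?_, fun v => ?_⟩⟩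
  · rw [MulAut.mul_apply, PSpAut.fieldAut_proj, PSpAut.conj_proj]
  · show LinGroup.spVec (PSpAut.spConjFun g (PSpAut.spFieldFun σ s)) (PSpAut.gv g.1 (PSpAut.sv σ v)) =
      PSpAut.gv g.1 (PSpAut.sv σ (LinGroup.spVec s v))
    rw [PSpAut.spVec_spConjFun, PSpAut.gv_inv_cancel', PSpAut.spVec_spFieldFun]

theorem proj_ker_le : (PSpAut.proj (F := F) (m := m)).ker ≤ Subgroup.center _ :=
  fun _ hs => PSpAut.proj_eq_one_iff.1 hs

theorem isRigid_PSp {p : ℕ} [Fintype F] [Fact p.Prime] [CharP F p] (hm : 2 ≤ m) (h4 : m = 2 → p ≠ 2) :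
    IsRigid p (Cfsg.PSp m F) := by
  obtain ⟨x, w, y, z, q⟩ := exists_quad (F := F) hm
  refine (spFlag q).isRigid PSpAut.proj_surjective proj_ker_le (good_Sp m (by omega)) fun γ => ?_
  obtain ⟨g, σ, rfl⟩ := PSpAut.exists_eq_conj_mul_fieldAut (p := p) hm h4 γ
  exact intertwines_semisim g σ

end Cfsg.Agent.Lib.PMinimalLie
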