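import Cfsg.Agent.Lib.PMinimalLie.Twisted
import Cfsg.Agent.Lib.SylowOvergroup.TitsGroup

/-!
The Tits group: a proper overgroup of its Sylow subgroup lies in one of the two parabolic subgroups, and these have
orders with different odd primes.
-/

set_option autoImplicit false

namespace Cfsg.Agent.Lib.PMinimalLie

open Cfsg.Lie Cfsg.Agent.Lib.Chev Cfsg.Agent.Lib.Twisted Cfsg.Agent.Lib.Twisted.Core
open Cfsg.Agent.Lib.SylowOvergroup.Tits
open Cfsg.Agent.Lib.ReeTwo (ree)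

noncomputable section

namespace Tits

local notation "GF" => GL chevF4.Idx (ZMod 2)

/-- the representative in the big group -/
def sElt (j : Fin 2) : ↥sys.G := ⟨sys.sEl j, sys.sEl_mem j⟩

/-- a minimal parabolic subgroup of the big group, as matrices -/
def par (j : Fin 2) : Subgroup GF := (sys.bnPair.parabolic {sElt j}).map sys.G.subtype

/-- its part in the Tits group -/
def sub (j : Fin 2) : Subgroup Cfsg.Lie.TitsGroup := (par j).comap emb

theorem pos_le_par (j : Fin 2) : pos ≤ par j := fun x hx => by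
  obtain ⟨h1, h2⟩ := mem_pos_iff.1 hx
  exact ⟨⟨x, h2⟩, Subgroup.mem_sup_left ⟨Subgroup.mem_sup_left h1, h2⟩, rfl⟩

theorem el_mem_par (j : Fin 2) : el j ∈ par j :=
  ⟨sElt j, Subgroup.mem_sup_right (Subgroup.subset_closure (Set.mem_singleton _)), sEl_eq j⟩

theorem el_notMem_par {j k : Fin 2} (h : k ≠ j) : el k ∉ par j := by
  rintro ⟨x, hx, e⟩
  have hx' : x = sElt k := Subtype.ext (e.trans (sEl_eq k).symm)
  subst hx'
  have h1 := BNPair.mem_of_mem_parabolic sys.bnPair (Set.singleton_subset_iff.2 ⟨j, rfl⟩) (s := sElt k) ⟨k, rfl⟩ hx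
  have h2 : sys.sEl k = sys.sEl j := congrArg Subtype.val (Set.mem_singleton_iff.1 h1)
  exact h (sys.wJ_injective ((h2 ▸ sys.sEl_cls k).unique (sys.sEl_cls j)))

theorem sub_ne_top (j : Fin 2) : sub j ≠ ⊤ := by
  intro e
  obtain ⟨k, hk⟩ := exists_ne j
  obtain ⟨x, hx⟩ := exists_emb (el_mem_derived k)
  exact el_notMem_par hk (hx ▸ (e.symm ▸ Subgroup.mem_top x : x ∈ sub j))

theorem pos_le_sub (j : Fin 2) : pos.comap emb ≤ sub j := Subgroup.comap_mono (pos_le_par j)

theorem sup_eq_top {Y : Subgroup Cfsg.Lie.TitsGroup} (hY : pos.comap emb ≤ Y)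
    (hel : ∀ j, el j ∈ Y.map emb) : Y = ⊤ := by
  refine eq_top_iff.2 fun x _ => ?_
  have hcore : core ≤ Y.map emb := (Subgroup.closure_le _).2 (by
    rintro y (hy | ⟨j, rfl⟩)
    · obtain ⟨z, rfl⟩ := exists_emb (Subgroup.mem_inf.1 hy).1
      exact Subgroup.mem_map_of_mem _ (hY (Subgroup.mem_inf.1 hy).2)
    · exact hel j)
  obtain ⟨y, hy, e⟩ := Subgroup.mem_map.1 (hcore (derived_le_core (emb_mem x)))
  exact emb_injective e ▸ hy

theorem exists_le_sub {W : Subgroup Cfsg.Lie.TitsGroup} (hW : pos.comap emb ≤ W) (hWt : W ≠ ⊤) :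
    ∃ j, W ≤ sub j := by
  obtain ⟨k, hk⟩ : ∃ k, el k ∉ W.map emb := by
    by_contra hn
    push Not at hn
    exact hWt (sup_eq_top hW hn)
  obtain ⟨j, hj⟩ := exists_ne k
  refine ⟨j, fun x hx => ?_⟩
  have hU : derived ⊓ pos ≤ W.map emb := fun y hy => by
    obtain ⟨z, rfl⟩ := exists_emb (Subgroup.mem_inf.1 hy).1
    exact Subgroup.mem_map_of_mem _ (hW (Subgroup.mem_inf.1 hy).2)
  have hLr : W.map emb ≤ ree := by
    rintro _ ⟨y, -, rfl⟩
    exact derived_le (emb_mem y)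
  have hg : gens (W.map emb) ≤ par j := (Subgroup.closure_le _).2 (by
    rintro y (hy | ⟨l, rfl, hl⟩)
    · exact pos_le_par j hy
    · have : l = j := by
        have h1 : l ≠ k := fun e => hk (e ▸ hl)
        have := (by decide : ∀ a b c : Fin 2, a ≠ c → b ≠ c → a = b) l j k h1 hj
        exact this
      exact this ▸ el_mem_par j)
  exact hg (le_gens hLr hU (Subgroup.mem_map_of_mem emb hx))

theorem card_par_dvd (j : Fin 2) :
    Nat.card ↥(sub j) ∣ Nat.card ↥sys.bnPair.B * (1 + Nat.card ↥(Twist.uGrp chevF4 (ZMod 2) (sys.wJ j) ⊓ sys.G)) := by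
  have h1 : Nat.card ↥(par j) = Nat.card ↥(sys.bnPair.parabolic {sElt j}) :=
    Subgroup.card_subtype sys.G _
  have h2 : Nat.card ↥(sub j) ∣ Nat.card ↥(par j) := by
    have h3 := Subgroup.card_dvd_of_le (Subgroup.map_comap_le emb (par j))
    rwa [Nat.card_congr ((sub j).equivMapOfInjective emb emb_injective).toEquiv]
  rw [h1, card_parabolic_single sys.bnPair (s := sElt j) ⟨j, rfl⟩, sElt, ncard_dc_sEl] at h2
  rwa [mul_add, mul_one]

theorem card_B : ∃ a, Nat.card ↥sys.bnPair.B = 2 ^ a := by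
  haveI := Fact.mk Nat.prime_two
  have hle : sys.bnPair.B.map sys.G.subtype ≤ chevF4.posUnipotent (ZMod 2) := by
    rintro _ ⟨b, hb, rfl⟩
    exact ReeTwo.borel_eq_pos ▸ (hb : (b : GF) ∈ chevF4.borelSubgroup (ZMod 2) ⊓ sys.G).1
  obtain ⟨a, ha⟩ := IsPGroup.iff_card.1 (isPGroup_pos.to_le hle)
  exact ⟨a, by rw [← Subgroup.card_subtype sys.G, ha]⟩

theorem card_orbit : Nat.card ↥(Twist.uGrp chevF4 (ZMod 2) (sys.wJ 0) ⊓ sys.G) = 2 ∧
    Nat.card ↥(Twist.uGrp chevF4 (ZMod 2) (sys.wJ 1) ⊓ sys.G) = 4 := by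
  have h0 := sys.card_uGrp_G (sys.wJ_fixW 0)
  have h1 := sys.card_uGrp_G (sys.wJ_fixW 1)
  have e0 : (invs (sys.wJ 0)).card = 2 := card_invs_reeF.1
  have e1 : (invs (sys.wJ 1)).card = 4 := card_invs_reeF.2
  rw [e0, Nat.card_eq_fintype_card (α := ZMod 2), ZMod.card] at h0
  rw [e1, Nat.card_eq_fintype_card (α := ZMod 2), ZMod.card] at h1
  exact ⟨Nat.pow_left_injective two_ne_zero h0,
    Nat.pow_left_injective two_ne_zero (h1.trans (by norm_num : 2 ^ 4 = 4 ^ 2))⟩

theorem exists_prime (j : Fin 2) : ∃ r, r.Prime ∧ (∀ a : ℕ, ¬ r ∣ 2 ^ a) ∧ r ∣ Nat.card ↥(sub j) ∧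
    ∀ k, k ≠ j → ¬ r ∣ Nat.card ↥(sub k) := by
  haveI := Fact.mk Nat.prime_two
  obtain ⟨a, ha⟩ := card_B
  set r : Fin 2 → ℕ := ![3, 5]
  have hr : ∀ i, (r i).Prime := fun i => by fin_cases i <;> simp [r] <;> norm_num
  have hd : ∀ i, Nat.card ↥(sub i) ∣ 2 ^ a * r i := fun i => by
    have h := card_par_dvd i
    rw [ha] at h
    rcases (by decide : ∀ l : Fin 2, l = 0 ∨ l = 1) i with rfl | rfl
    · rw [card_orbit.1] at h
      exact h
    · rw [card_orbit.2] at h
      exact h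
  have hr2 : ∀ i, ∀ b : ℕ, ¬ r i ∣ 2 ^ b := fun i b h => by
    have := (Nat.prime_dvd_prime_iff_eq (hr i) Nat.prime_two).1 ((hr i).dvd_of_dvd_pow h)
    fin_cases i <;> simp [r] at this
  refine ⟨r j, hr j, hr2 j, ?_, fun k hk h => ?_⟩
  · by_contra hn
    have h2 : Nat.card ↥(sub j) ∣ 2 ^ a :=
      (((hr j).coprime_iff_not_dvd.2 hn).symm).dvd_of_dvd_mul_right (hd j)
    obtain ⟨b, -, hb⟩ := (Nat.dvd_prime_pow Nat.prime_two).1 h2
    -- a `2`-group over the Sylow subgroup is the Sylow subgroup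
    let S : Sylow 2 Cfsg.Lie.TitsGroup :=
      ((isPGroup_pos.to_le inf_le_left : IsPGroup 2 ↥pos).comap_of_injective emb emb_injective).toSylow index_inf
    have e : sub j = pos.comap emb := S.is_maximal' (IsPGroup.of_card hb) (pos_le_sub j)
    obtain ⟨x, hx⟩ := exists_emb (el_mem_derived j)
    have hxp : x ∈ pos.comap emb := e ▸ (show x ∈ sub j by rw [sub, Subgroup.mem_comap, hx]; exact el_mem_par j)
    rw [Subgroup.mem_comap, hx] at hxp
    obtain ⟨k, hk⟩ := exists_ne j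
    exact el_notMem_par hk.symm (pos_le_par k hxp)
  · have h3 := h.trans (hd k)
    rcases (hr j).dvd_mul.1 h3 with h4 | h4
    · exact hr2 j a h4
    · have h5 := (Nat.prime_dvd_prime_iff_eq (hr j) (hr k)).1 h4
      fin_cases j <;> fin_cases k <;> simp [r] at h5 hk

theorem isRigid : IsRigid 2 Cfsg.Lie.TitsGroup := by
  haveI := Fact.mk Nat.prime_two
  let S : Sylow 2 Cfsg.Lie.TitsGroup :=
    ((isPGroup_pos.to_le inf_le_left : IsPGroup 2 ↥pos).comap_of_injective emb emb_injective).toSylow index_inf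
  refine isRigid_of_one S fun Γ _ hinv => ?_
  have hinv' : Inv Γ (pos.comap emb) := hinv
  have hI : ∀ j, Inv Γ (sub j) := by
    intro j γ hγ y hy
    have h1 : pos.comap emb ≤ (sub j).map γ.toMonoidHom :=
      (map_eq_of_inv hinv' hγ).ge.trans (Subgroup.map_mono (pos_le_sub j))
    have h2 : (sub j).map γ.toMonoidHom ≠ ⊤ := fun e => sub_ne_top j (Subgroup.map_injective γ.injective
      (e.trans (Subgroup.map_top_of_surjective _ γ.surjective).symm))
    obtain ⟨k, hk⟩ := exists_le_sub h1 h2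
    obtain rfl : k = j := by
      by_contra hne
      obtain ⟨r, -, -, hr, hr'⟩ := exists_prime j
      refine hr' k hne (hr.trans ?_)
      rw [Nat.card_congr ((sub j).equivMapOfInjective γ.toMonoidHom γ.injective).toEquiv]
      exact Subgroup.card_dvd_of_le hk
    exact hk (Subgroup.mem_map_of_mem _ hy)
  refine ⟨sub 0, sub 1, hI 0, hI 1, sub_ne_top 0, sub_ne_top 1,
    sup_eq_top ((pos_le_sub 0).trans le_sup_left) fun j => ?_⟩
  obtain ⟨x, hx⟩ := exists_emb (el_mem_derived j)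
  refine ⟨x, ?_, hx⟩
  fin_cases j
  · exact Subgroup.mem_sup_left (show emb x ∈ par 0 from hx ▸ el_mem_par 0)
  · exact Subgroup.mem_sup_right (show emb x ∈ par 1 from hx ▸ el_mem_par 1)

end Tits

end

end Cfsg.Agent.Lib.PMinimalLie
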