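import Cfsg.Agent.Lib.PMinimalLie.BN
import Cfsg.Agent.Lib.Twisted.Aut.Basic
import Cfsg.Agent.Lib.Twisted.Core.Enum
import Cfsg.Agent.Lib.Twisted.Ree.F4Sys

/-!
The twisted groups: the double cosets of the distinguished generators have the orders of the root groups of the
orbits, so orbits of different sizes cannot be exchanged.
-/

set_option autoImplicit false

namespace Cfsg.Agent.Lib.PMinimalLie

open Cfsg.Lie Cfsg.Agent.Lib.Chev Cfsg.Agent.Lib.Twisted.Core

section Single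

variable {G : Type*} [Group G] (P : Cfsg.BNPair G)

theorem coe_parabolic_single {s : G} (hs : s ∈ P.S) :
    (P.parabolic {s} : Set G) = (P.B : Set G) ∪ BNPair.dc P s := by
  have hs1 := Set.singleton_subset_iff.2 hs
  ext g
  refine ⟨fun hg => ?_, ?_⟩
  · obtain ⟨n, hn, hgn⟩ := (BNPair.mem_parabolic_iff P hs1 g).1 hg
    rw [← Subgroup.zpowers_eq_closure] at hn
    obtain ⟨m, rfl⟩ := Subgroup.mem_zpowers_iff.1 hn
    have hB : (s * s) ^ (m / 2) ∈ P.B := zpow_mem (P.sq_mem s hs) _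
    have e : s ^ m = s ^ (m % 2) * (s * s) ^ (m / 2) := by
      conv_lhs => rw [← Int.emod_add_mul_ediv m 2]
      rw [zpow_add, zpow_mul, zpow_two]
    have hg' : g ∈ BNPair.dc P (s ^ m) := hgn
    rw [e, BNPair.dc_mul_right P hB] at hg'
    rcases Int.emod_two_eq_zero_or_one m with h | h <;> rw [h] at hg'
    · rw [zpow_zero] at hg'
      obtain ⟨b, hb, c, hc, rfl⟩ := (BNPair.mem_dc P).1 hg'
      exact Or.inl (by simpa using mul_mem hb hc)
    · rw [zpow_one] at hg'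
      exact Or.inr hg'
  · rintro (hg | hg)
    · exact Subgroup.mem_sup_left hg
    · obtain ⟨b, hb, c, hc, rfl⟩ := (BNPair.mem_dc P).1 hg
      exact mul_mem (mul_mem (Subgroup.mem_sup_left hb)
        (Subgroup.mem_sup_right (Subgroup.subset_closure (Set.mem_singleton s)))) (Subgroup.mem_sup_left hc)

theorem card_parabolic_single [Finite G] {s : G} (hs : s ∈ P.S) :
    Nat.card ↥(P.parabolic {s}) = Nat.card ↥P.B + (BNPair.dc P s).ncard := by
  have h : Disjoint (P.B : Set G) (BNPair.dc P s) := Set.disjoint_left.2 fun g hg hg' => by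
    obtain ⟨b, hb, c, hc, rfl⟩ := (BNPair.mem_dc P).1 hg'
    refine BNPair.gen_notMem P ⟨s, hs⟩ ?_
    have := mul_mem (mul_mem (inv_mem hb) hg) (inv_mem hc)
    rwa [show b⁻¹ * (b * s * c) * c⁻¹ = s by group] at this
  rw [show Nat.card ↥(P.parabolic {s}) = (P.parabolic {s} : Set G).ncard from Nat.card_coe_set_eq _,
    show Nat.card ↥P.B = (P.B : Set G).ncard from Nat.card_coe_set_eq _, coe_parabolic_single P hs,
    Set.ncard_union_eq h (Set.toFinite _) (Set.toFinite _)]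

end Single

variable {D : ChevalleyDatum} {C : Cert} {F : Type*} [Field F] [Fintype F] {T : Twist D C F} {ι : Type}
  (S : OrbitSys T ι)

theorem bnPair_B_eq_normalizer : S.bnPair.B = Subgroup.normalizer (Twisted.Aut.Ut S : Set ↥S.G) := by
  refine le_antisymm (fun b hb => Subgroup.mem_normalizer_iff.2 fun g =>
    (Twisted.Aut.borel_normalizes_U S (show b ∈ Twisted.Aut.Bt S from hb.1) g).symm) fun g hg => ?_
  exact ⟨Twisted.Aut.mem_B_of_normalizes S g fun u hu => (Subgroup.mem_normalizer_iff.1 hg u).1 hu, g.2⟩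

/-- the big cell of an orbit in its parabolic -/
theorem ncard_dc_sEl (j : ι) :
    (BNPair.dc S.bnPair (⟨S.sEl j, S.sEl_mem j⟩ : ↥S.G)).ncard =
      Nat.card ↥S.bnPair.B * Nat.card ↥(Twist.uGrp D F (S.wJ j) ⊓ S.G) := by
  have h := T.hh.toChecked
  set s : ↥S.G := ⟨S.sEl j, S.sEl_mem j⟩
  have huB : ∀ u : ↥(Twist.uGrp D F (S.wJ j) ⊓ S.G), (⟨u.1, u.2.2⟩ : ↥S.G) ∈ S.bnPair.B := fun u =>
    ⟨Subgroup.mem_sup_left (uGrp_le_pos h _ u.2.1), u.2.2⟩
  let f : ↥S.bnPair.B × ↥(Twist.uGrp D F (S.wJ j) ⊓ S.G) → ↥(BNPair.dc S.bnPair s) := fun x =>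
    ⟨x.1.1 * s * ⟨x.2.1, x.2.2.2⟩, (BNPair.mem_dc S.bnPair).2 ⟨_, x.1.2, _, huB x.2, rfl⟩⟩
  have hf : Function.Bijective f := by
    constructor
    · rintro ⟨b, u⟩ ⟨b', u'⟩ e
      have e' : (b.1 : GL D.Idx F) * S.sEl j * u = b'.1 * S.sEl j * u' :=
        congrArg (fun x : ↥(BNPair.dc S.bnPair s) => ((x.1 : ↥S.G) : GL D.Idx F)) e
      obtain ⟨L, hL, eL, t, ht, en⟩ := S.sEl_cls j
      have hu : ∀ v : ↥(Twist.uGrp D F (S.wJ j) ⊓ S.G),
          t * (v : GL D.Idx F) * t⁻¹ ∈ rootGen D F (invSet D C L) := fun v => by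
        refine (Subgroup.mem_normalizer_iff.1
          (T.hh.diagonal_le_normalizer (T.hh.toChecked.invSet_lt) ht) _).1 ?_
        rw [rootGen_invSet T.hh.toChecked hL, eL]; exact v.2.1
      have e2 : (b.1 : GL D.Idx F) * nProd T.hh.toChecked F L * (t * u * t⁻¹) =
          b'.1 * nProd T.hh.toChecked F L * (t * u' * t⁻¹) := by
        rw [en] at e'
        calc _ = (b.1 : GL D.Idx F) * (nProd T.hh.toChecked F L * t) * u * t⁻¹ := by group
          _ = _ := by rw [e']; group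
      obtain ⟨eb, eu⟩ := T.hh.canonical_unique hL b.2.1 b'.2.1 (hu u) (hu u') e2
      have eu' : (u : GL D.Idx F) = u' := mul_left_cancel (mul_right_cancel eu)
      rw [Subtype.ext (Subtype.ext eb), Subtype.ext eu']
    · rintro ⟨g, hg⟩
      obtain ⟨b, hb, c, hc, rfl⟩ := (BNPair.mem_dc S.bnPair).1 hg
      obtain ⟨x, hx, u, hu, e⟩ := S.borel_orbit_split j (show (c : GL D.Idx F) ∈ _ from hc)
      refine ⟨⟨⟨b * ⟨x, hx.2⟩, mul_mem hb hx⟩, ⟨u, hu⟩⟩, Subtype.ext (Subtype.ext ?_)⟩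
      show (b : GL D.Idx F) * x * S.sEl j * u = b * S.sEl j * c
      rw [mul_assoc _ x, mul_assoc _ (x * S.sEl j), mul_assoc x, ← e, mul_assoc]
  rw [← Nat.card_coe_set_eq, ← Nat.card_congr (Equiv.ofBijective f hf), Nat.card_prod]

variable {p : ℕ} [Fact p.Prime] [CharP F p]

/-- orbits of different sizes -/
theorem isRigid_twisted (j k : ι) (hjk : (invs (S.wJ j)).card ≠ (invs (S.wJ k)).card) : IsRigid p ↥S.G := by
  obtain ⟨P, hP⟩ := Twisted.Aut.exists_sylow S p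
  refine isRigid_of_one P fun Γ _ hinv => ?_
  have hB : Inv Γ S.bnPair.B := by
    rw [bnPair_B_eq_normalizer, ← hP]
    exact inv_normalizer hinv
  refine hasPieces_of_card S.bnPair hB (s := ⟨S.sEl j, S.sEl_mem j⟩) (t := ⟨S.sEl k, S.sEl_mem k⟩) ⟨j, rfl⟩ ⟨k, rfl⟩
    fun e => hjk ?_
  rw [card_parabolic_single S.bnPair (s := ⟨S.sEl j, S.sEl_mem j⟩) ⟨j, rfl⟩,
    card_parabolic_single S.bnPair (s := ⟨S.sEl k, S.sEl_mem k⟩) ⟨k, rfl⟩, ncard_dc_sEl, ncard_dc_sEl,
    Nat.add_left_cancel_iff, Nat.mul_right_inj (Nat.card_pos).ne'] at e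
  have h := congrArg (· ^ S.d) e
  simp only [S.card_uGrp_G (S.wJ_fixW j), S.card_uGrp_G (S.wJ_fixW k)] at h
  exact Nat.pow_right_injective Finite.one_lt_card h

/-- one orbit -/
theorem isSingle_twisted (j : ι) (hj : ∀ k, k = j) : IsSingle p ↥S.G := by
  obtain ⟨P, hP⟩ := Twisted.Aut.exists_sylow S p
  refine isSingle_of_one P fun Γ _ _ => ?_
  refine onlyBorel_of_rank_one S.bnPair (s := ⟨S.sEl j, S.sEl_mem j⟩) ?_ (hP ▸ bnPair_B_eq_normalizer S)
  refine Set.eq_singleton_iff_unique_mem.2 ⟨⟨j, rfl⟩, ?_⟩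
  rintro _ ⟨k, rfl⟩
  obtain rfl := hj k
  rfl

omit [Fintype F] in
/-- the two orbits of `²F₄` -/
theorem card_invs_reeF : (invs (wperm checked_F4 Twisted.ReeF.LP)).card = 2 ∧
    (invs (wperm checked_F4 Twisted.ReeF.LQ)).card = 4 := by
  rw [card_invs_invLen _ (show IsWord chevF4 Twisted.ReeF.LP from Twisted.ReeF.isWord_LP),
    card_invs_invLen _ (show IsWord chevF4 Twisted.ReeF.LQ from Twisted.ReeF.isWord_LQ)]
  decide +kernel

end Cfsg.Agent.Lib.PMinimalLie
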