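import Cfsg.Agent.Lib.PMinimalLie.BN
import Cfsg.Agent.Lib.UThreeThree.Embed
import Cfsg.Agent.Lib.U3Index.Transfer

/-!
`U₃(3)` at the prime two: the centralizer of the involution in the centre of a Sylow subgroup, and the normalizer
of the abelian subgroup of index two in it.
-/

set_option autoImplicit false

namespace Cfsg.Agent.Lib.PMinimalLie

open UThreeThree

namespace U33

/-- a monomial matrix -/
def mat (p : Nine × Nine × Bool) : Matrix (Fin 3) (Fin 3) Nine :=
  if p.2.2 then !![0, p.1, 0; p.2.1, 0, 0; 0, 0, -(p.1 * p.2.1)⁻¹]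
  else !![p.1, 0, 0; 0, p.2.1, 0; 0, 0, (p.1 * p.2.1)⁻¹]

/-- the parameters of the Sylow subgroup -/
def params : List (Nine × Nine × Bool) :=
  ([⟨1⟩, ⟨2⟩, ⟨3⟩, ⟨6⟩] : List Nine).flatMap fun a =>
    ([⟨1⟩, ⟨2⟩, ⟨3⟩, ⟨6⟩] : List Nine).flatMap fun b => [(a, b, false), (a, b, true)]

/-- composition of parameters -/
def comp (p r : Nine × Nine × Bool) : Nine × Nine × Bool :=
  if p.2.2 then (p.1 * r.2.1, p.2.1 * r.1, !r.2.2) else (p.1 * r.1, p.2.1 * r.2.1, r.2.2)

theorem params_mul : ∀ p ∈ params, ∀ r ∈ params, comp p r ∈ params ∧ mat p * mat r = mat (comp p r) := by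
  decide +kernel

theorem params_inv : ∀ p ∈ params, ∃ r ∈ params, mat p * mat r = 1 := by decide +kernel

theorem params_one : ((1 : Nine), (1 : Nine), false) ∈ params ∧ mat ((1 : Nine), (1 : Nine), false) = 1 := by
  decide +kernel

theorem params_isSU : ∀ p ∈ params, ((mat p).map fun x => x ^ 3).transpose * mat p = 1 ∧ (mat p).det = 1 := by
  decide +kernel

local notation "G" => Cfsg.SU 3 Nine 3

theorem coe_mul (g h : G) : (g * h).1.1 = g.1.1 * h.1.1 := rfl

theorem ext_mat {g h : G} (e : g.1.1 = h.1.1) : g = h := Subtype.ext (Subtype.ext e)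

/-- the Sylow subgroup -/
def syl : Subgroup G where
  carrier := {g | ∃ p ∈ params, g.1.1 = mat p}
  mul_mem' := by
    rintro g h ⟨p, hp, e⟩ ⟨r, hr, e'⟩
    exact ⟨_, (params_mul p hp r hr).1, by rw [coe_mul, e, e', (params_mul p hp r hr).2]⟩
  one_mem' := ⟨_, params_one.1, params_one.2.symm⟩
  inv_mem' := by
    rintro g ⟨p, hp, e⟩
    obtain ⟨r, hr, e'⟩ := params_inv p hp
    refine ⟨r, hr, ?_⟩
    have h1 : g.1.1 * g⁻¹.1.1 = 1 := by rw [← coe_mul, mul_inv_cancel]; rfl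
    rw [← Matrix.inv_eq_right_inv h1, Matrix.inv_eq_right_inv (e.symm ▸ e')]

/-- a monomial element -/
def el (p : Nine × Nine × Bool) (hp : p ∈ params) : G :=
  ⟨⟨mat p, (params_isSU p hp).2⟩, (Semisimple.mem_SU_iff hq _).2 (params_isSU p hp).1⟩

theorem el_mem {p : Nine × Nine × Bool} (hp : p ∈ params) : el p hp ∈ syl := ⟨p, hp, rfl⟩

theorem card_syl : Nat.card ↥syl = 32 := by
  have hinj : ∀ p ∈ params, ∀ r ∈ params, mat p = mat r → p = r := by decide +kernel
  let f : {p // p ∈ params} → ↥syl := fun p => ⟨el p.1 p.2, el_mem p.2⟩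
  have hf : Function.Bijective f :=
    ⟨fun p r e => Subtype.ext (hinj _ p.2 _ r.2 (congrArg (fun g : ↥syl => g.1.1.1) e)),
      fun ⟨g, p, hp, e⟩ => ⟨⟨p, hp⟩, Subtype.ext (ext_mat e.symm)⟩⟩
  rw [← Nat.card_congr (Equiv.ofBijective f hf), Nat.card_eq_fintype_card]
  decide +kernel

/-- the comparison with `PSU` -/
noncomputable def toPSU : G ≃* Cfsg.PSU 3 Nine 3 :=
  MulEquiv.ofBijective (QuotientGroup.mk' (Subgroup.center G))
    ⟨by rw [← MonoidHom.ker_eq_bot_iff, QuotientGroup.ker_mk', center_trivial],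
      QuotientGroup.mk'_surjective _⟩

theorem card_group : Nat.card G = 2 ^ 5 * 189 := by
  rw [Nat.card_congr toPSU.toEquiv]
  have h := Classical.natCard_PSU hq 3 (by norm_num)
  norm_num [Finset.prod_range_succ, Nat.gcd_comm] at h ⊢
  omega

instance : Finite G := Nat.finite_of_card_ne_zero (by rw [card_group]; norm_num)

/-- the Sylow subgroup, packed -/
noncomputable def sylow [Fact (Nat.Prime 2)] : Sylow 2 G :=
  (IsPGroup.of_card (n := 5) (by rw [card_syl]; norm_num) : IsPGroup 2 ↥syl).toSylow (by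
    have h := syl.card_mul_index
    rw [card_syl, card_group] at h
    omega)

/-- the involution of the centre -/
def z0 : G := el (⟨2⟩, ⟨2⟩, false) (by decide +kernel)

theorem z0_unique : ∀ p ∈ params, mat p * mat p = 1 → mat p ≠ 1 →
    (∀ r ∈ params, mat p * mat r = mat r * mat p) → mat p = mat (⟨2⟩, ⟨2⟩, false) := by
  decide +kernel

theorem z0_central : ∀ p ∈ params, mat (⟨2⟩, ⟨2⟩, false) * mat p = mat p * mat (⟨2⟩, ⟨2⟩, false) := by
  decide +kernel

/-- the centralizer of the central involution -/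
def Y : Subgroup G := Subgroup.centralizer {z0}

/-- the elements of the Sylow subgroup commuting with all squares -/
def abel : Subgroup G := syl ⊓ Subgroup.centralizer {x | ∃ v ∈ syl, x = v * v}

theorem abel_iff : ∀ p ∈ params,
    (∀ r ∈ params, mat p * (mat r * mat r) = mat r * mat r * mat p) ↔ p.2.2 = false := by
  decide +kernel

theorem mem_abel {g : G} : g ∈ abel ↔ ∃ p ∈ params, p.2.2 = false ∧ g.1.1 = mat p := by
  constructor
  · rintro ⟨⟨p, hp, e⟩, hc⟩
    refine ⟨p, hp, (abel_iff p hp).1 fun r hr => ?_, e⟩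
    have h := congrArg (fun x : G => x.1.1)
      (Subgroup.mem_centralizer_iff.1 hc (el r hr * el r hr) ⟨_, el_mem hr, rfl⟩)
    simp only [coe_mul] at h
    rw [← e]
    exact h.symm
  · rintro ⟨p, hp, hp', e⟩
    refine ⟨⟨p, hp, e⟩, Subgroup.mem_centralizer_iff.2 ?_⟩
    rintro _ ⟨v, ⟨r, hr, er⟩, rfl⟩
    refine ext_mat ?_
    simp only [coe_mul, e, er]
    exact ((abel_iff p hp).2 hp' r hr).symm

/-- the normalizer of the abelian subgroup of index two -/
def Z : Subgroup G := Subgroup.normalizer (abel : Set G)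

theorem y_isSU : (((ofNums ![![4, 4, 0], ![4, 8, 0], ![0, 0, 3]]).map fun x => x ^ 3).transpose *
      ofNums ![![4, 4, 0], ![4, 8, 0], ![0, 0, 3]] = 1) ∧ (ofNums ![![4, 4, 0], ![4, 8, 0], ![0, 0, 3]]).det = 1 := by
  decide +kernel

/-- an element centralizing the involution -/
def yEl : G := ⟨⟨_, y_isSU.2⟩, (Semisimple.mem_SU_iff hq _).2 y_isSU.1⟩

theorem c_isSU : (((ofNums ![![0, 1, 0], ![0, 0, 1], ![1, 0, 0]]).map fun x => x ^ 3).transpose *
      ofNums ![![0, 1, 0], ![0, 0, 1], ![1, 0, 0]] = 1) ∧ (ofNums ![![0, 1, 0], ![0, 0, 1], ![1, 0, 0]]).det = 1 := by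
  decide +kernel

/-- an element permuting the coordinates cyclically -/
def cEl : G := ⟨⟨_, c_isSU.2⟩, (Semisimple.mem_SU_iff hq _).2 c_isSU.1⟩

theorem yEl_mem_Y : yEl ∈ Y :=
  Subgroup.mem_centralizer_singleton_iff.2 (ext_mat (by rw [coe_mul, coe_mul]; decide +kernel))

theorem cEl_notMem_Y : cEl ∉ Y := fun h => by
  have h' := congrArg (fun x : G => x.1.1) (Subgroup.mem_centralizer_singleton_iff.1 h)
  simp only [coe_mul] at h'
  exact (show ¬ (cEl.1.1 * z0.1.1 = z0.1.1 * cEl.1.1) by decide +kernel) h'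

theorem yEl_notMem_syl : yEl ∉ syl := fun ⟨p, hp, e⟩ =>
  (show ∀ r ∈ params, yEl.1.1 ≠ mat r by decide +kernel) p hp e

theorem yEl_notMem_Z : yEl ∉ Z := fun h => by
  have hm : el (⟨3⟩, ⟨1⟩, false) (by decide +kernel) ∈ abel := mem_abel.2 ⟨(⟨3⟩, ⟨1⟩, false), by decide +kernel, rfl, rfl⟩
  obtain ⟨p, hp, -, e⟩ := mem_abel.1 ((Subgroup.mem_normalizer_iff.1 h _).1 hm)
  have e' : yEl.1.1 * mat (⟨3⟩, ⟨1⟩, false) = mat p * yEl.1.1 := by
    have h1 := congrArg (fun x : G => x.1.1)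
      (inv_mul_cancel_right (yEl * el (⟨3⟩, ⟨1⟩, false) (by decide +kernel)) yEl)
    simp only [coe_mul] at h1 e ⊢
    rw [← e]
    exact h1.symm
  exact (show ∀ r ∈ params, yEl.1.1 * mat (⟨3⟩, ⟨1⟩, false) ≠ mat r * yEl.1.1 by decide +kernel) p hp e'

theorem syl_le_Y : syl ≤ Y := fun g ⟨p, hp, e⟩ =>
  Subgroup.mem_centralizer_singleton_iff.2 (ext_mat (by rw [coe_mul, coe_mul, e]; exact (z0_central p hp).symm))

theorem cEl_mem_Z : cEl ∈ Z := by
  have key : ∀ p ∈ params, p.2.2 = false → (∃ r ∈ params, r.2.2 = false ∧ cEl.1.1 * mat p = mat r * cEl.1.1) ∧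
      ∃ r ∈ params, r.2.2 = false ∧ mat p * cEl.1.1 = cEl.1.1 * mat r := by decide +kernel
  refine Subgroup.mem_normalizer_iff.2 fun g => ⟨fun hg => ?_, fun hg => ?_⟩
  · obtain ⟨p, hp, hp', e⟩ := mem_abel.1 hg
    obtain ⟨r, hr, hr', er⟩ := (key p hp hp').1
    refine mem_abel.2 ⟨r, hr, hr', ?_⟩
    have h1 : cEl * g = el r hr * cEl := ext_mat (by rw [coe_mul, coe_mul, e]; exact er)
    rw [h1, mul_inv_cancel_right]
    rfl
  · obtain ⟨p, hp, hp', e⟩ := mem_abel.1 hg
    obtain ⟨r, hr, hr', er⟩ := (key p hp hp').2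
    refine mem_abel.2 ⟨r, hr, hr', ?_⟩
    have h1 : cEl * g * cEl⁻¹ * cEl = cEl * el r hr := ext_mat (by rw [coe_mul (cEl * g * cEl⁻¹), coe_mul cEl (el r hr), e]; exact er)
    rw [inv_mul_cancel_right] at h1
    rw [mul_left_cancel h1]
    rfl

theorem syl_le_Z : syl ≤ Z := by
  intro g hg
  refine Subgroup.mem_normalizer_iff.2 fun x => ?_
  have key : ∀ g ∈ syl, ∀ x ∈ abel, g * x * g⁻¹ ∈ abel := by
    intro g hg x hx
    obtain ⟨hx1, hx2⟩ := Subgroup.mem_inf.1 hx
    refine Subgroup.mem_inf.2 ⟨mul_mem (mul_mem hg hx1) (inv_mem hg), Subgroup.mem_centralizer_iff.2 ?_⟩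
    rintro _ ⟨v, hv, rfl⟩
    have h := Subgroup.mem_centralizer_iff.1 hx2 ((g⁻¹ * v * g) * (g⁻¹ * v * g))
      ⟨_, mul_mem (mul_mem (inv_mem hg) hv) hg, rfl⟩
    calc v * v * (g * x * g⁻¹) = g * ((g⁻¹ * v * g) * (g⁻¹ * v * g) * x) * g⁻¹ := by group
      _ = g * (x * ((g⁻¹ * v * g) * (g⁻¹ * v * g))) * g⁻¹ := by rw [h]
      _ = g * x * g⁻¹ * (v * v) := by group
  exact ⟨key g hg x, fun h => by simpa [mul_assoc] using key g⁻¹ (inv_mem hg) _ h⟩

theorem sup_eq_top : Y ⊔ Z = ⊤ := by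
  by_contra hne
  have hmin : ∀ W : Subgroup G, W ≠ ⊤ → 28 ≤ W.index := fun W hW => by
    have h := (U3Index.psu_three_min_index (F := Nine) (q := 3) hq le_rfl (by norm_num)).1 (W.map toPSU.toMonoidHom)
      fun e => hW (Subgroup.map_injective toPSU.injective
        (e.trans (Subgroup.map_top_of_surjective _ toPSU.surjective).symm))
    rw [show (W.map toPSU.toMonoidHom).index = W.index from Subgroup.index_map_equiv W toPSU] at h
    omega
  have hidx : syl.index = 189 := by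
    have h := syl.card_mul_index
    rw [card_syl, card_group] at h
    omega
  have hW := hmin _ hne
  have hWd : (Y ⊔ Z).index ∣ 189 := hidx ▸ Subgroup.index_dvd_of_le (syl_le_Y.trans le_sup_left)
  have hYd : Y.index ∣ 189 := hidx ▸ Subgroup.index_dvd_of_le syl_le_Y
  have hdd : (Y ⊔ Z).index ∣ Y.index := Subgroup.index_dvd_of_le le_sup_left
  have h63 : ∀ d, d ∣ 189 → 28 ≤ d → d = 63 ∨ d = 189 := fun d hd h28 => by
    have h : d ∈ ({1, 3, 7, 9, 21, 27, 63, 189} : Finset ℕ) := by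
      rw [← show Nat.divisors 189 = ({1, 3, 7, 9, 21, 27, 63, 189} : Finset ℕ) by decide +kernel]
      exact Nat.mem_divisors.2 ⟨hd, by norm_num⟩
    simp only [Finset.mem_insert, Finset.mem_singleton] at h
    omega
  have hYne : Y.index ≠ 189 := fun e => by
    have := Subgroup.eq_of_le_of_card_ge syl_le_Y (by
      have h1 := syl.card_mul_index
      have h2 := Y.card_mul_index
      rw [e] at h2
      rw [hidx] at h1
      omega)
    exact yEl_notMem_syl (this.symm ▸ yEl_mem_Y)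
  have hY28 : 28 ≤ Y.index := le_trans hW (Nat.le_of_dvd (Nat.pos_of_ne_zero Subgroup.index_ne_zero_of_finite) hdd)
  have hY63 := (h63 _ hYd hY28).resolve_right hYne
  have hW63 : (Y ⊔ Z).index = 63 := (h63 _ hWd hW).resolve_right fun e => by
    have := Nat.le_of_dvd (by norm_num) (hY63 ▸ hdd)
    omega
  have := Subgroup.eq_of_le_of_card_ge (H := Y) (K := Y ⊔ Z) le_sup_left (by
    have h1 := (Y ⊔ Z).card_mul_index
    have h2 := Y.card_mul_index
    rw [hW63] at h1
    rw [hY63] at h2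
    omega)
  exact cEl_notMem_Y (this.symm ▸ Subgroup.mem_sup_right cEl_mem_Z)

theorem isRigid : IsRigid 2 G := by
  haveI := Fact.mk Nat.prime_two
  refine isRigid_of_one sylow fun Γ _ hinv => ?_
  have hinv' : Inv Γ syl := hinv
  have hfix : ∀ γ ∈ Γ, γ z0 = z0 := by
    intro γ hγ
    have hz : z0 ∈ syl := el_mem _
    obtain ⟨p, hp, e⟩ := hinv' γ hγ z0 hz
    refine ext_mat (e.trans (z0_unique p hp ?_ ?_ fun r hr => ?_))
    · rw [← e, ← coe_mul, ← map_mul, show z0 * z0 = 1 from ext_mat (by rw [coe_mul]; decide +kernel), map_one]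
      rfl
    · intro e1
      have h1 : γ z0 = 1 := ext_mat (e.trans e1)
      rw [map_eq_one_iff γ γ.injective] at h1
      exact (show z0.1.1 ≠ (1 : Matrix (Fin 3) (Fin 3) Nine) by decide +kernel) (congrArg (fun x : G => x.1.1) h1)
    · have hw : γ⁻¹ (el r hr) ∈ syl := hinv' _ (inv_mem hγ) _ (el_mem hr)
      have h := congrArg γ (Subgroup.mem_centralizer_singleton_iff.1 (syl_le_Y hw))
      rw [map_mul, map_mul, show γ (γ⁻¹ (el r hr)) = el r hr from γ.apply_symm_apply _] at h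
      have h' := congrArg (fun x : G => x.1.1) h
      simp only [coe_mul] at h'
      rw [← e]
      exact h'.symm
  refine ⟨Y, Z, fun γ hγ g hg => ?_, inv_normalizer fun γ hγ g hg => ⟨hinv' γ hγ g hg.1, ?_⟩,
    fun e => cEl_notMem_Y (e.symm ▸ Subgroup.mem_top _), fun e => yEl_notMem_Z (e.symm ▸ Subgroup.mem_top _),
    sup_eq_top⟩
  · rw [Y, Subgroup.mem_centralizer_singleton_iff] at hg ⊢
    rw [← hfix γ hγ, ← map_mul, ← map_mul, hg]
  · refine Subgroup.mem_centralizer_iff.2 ?_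
    rintro _ ⟨v, hv, rfl⟩
    have h := congrArg γ (Subgroup.mem_centralizer_iff.1 hg.2 (γ⁻¹ v * γ⁻¹ v) ⟨_, hinv' _ (inv_mem hγ) v hv, rfl⟩)
    simp only [map_mul, show γ (γ⁻¹ v) = v from γ.apply_symm_apply v] at h
    exact h

end U33

theorem isRigid_PSU_three_three {F : Type*} [Field F] [Fintype F] (hF : Fintype.card F = 9) :
    IsRigid 2 (Cfsg.PSU 3 F 3) := by
  haveI := Fact.mk Nat.prime_two
  exact U33.isRigid.of_equiv (U33.toPSU.trans (PSUThreeTwo.psuMap
    (FiniteField.ringEquivOfCardEq (card_nine.trans hF.symm))))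

end Cfsg.Agent.Lib.PMinimalLie
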