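import Cfsg.Agent.Lib.PMinimalLie.FormPieces
import Cfsg.Agent.Lib.SylowOvergroup.Unitary
import Cfsg.Agent.Lib.PSUAut.Main

/-!
`PSU_n(q)`: two pieces for `n ≥ 4`, only the Borel subgroup for `n = 3`.
-/

set_option autoImplicit false

namespace Cfsg.Agent.Lib.PMinimalLie

open SylowOvergroup PSUAut

variable {F : Type*} [Field F] [Fintype F] {n q : ℕ}

local notation "V" => (Fin n → F)
local notation "B" => Cfsg.hermForm n F q

theorem suForm (hF : Fintype.card F = q ^ 2) :
    FormSetting (Classical.suLinear n F q) B (fun v => B v v = 0) := by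
  have h := uForm (herm (n := n) hF)
  exact ⟨Classical.suLinear_injective n, h.add_left, h.smul_left, h.refl, fun g u v => g.2 u v,
    fun g v hv => (g.2 v v).trans hv, h.sing_smul, h.isotropic, h.sing_add, h.partner⟩

theorem su_act (s : SUType n F q) (v : V) : Classical.suLinear n F q s v = act s v := rfl

variable {x w y z : Fin n → F}

theorem eich_mem_point (hF : Fintype.card F = q ^ 2) (hxx : B x x = 0) {u : V} {c : F}
    (hu : B u x = 0) (hc : c + c ^ q + B u u = 0) :
    (eich x u c : SUType n F q) ∈ formRad (suForm (n := n) hF) (Submodule.span F {x}) := by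
  have h := herm (n := n) hF
  refine (mem_formRad (suForm hF)).2 ⟨fun a ha => ?_, fun a ha => ?_⟩
  · obtain ⟨k, rfl⟩ := Submodule.mem_span_singleton.1 ha
    rw [su_act, act_eich hF hxx hu hc, h.smul_left, h.smul_left, hxx,
      show B x u = 0 from (suForm hF).refl _ _ hu]
    simp
  · rw [su_act, act_eich hF hxx hu hc, show B a x = 0 from ha x (Submodule.mem_span_singleton_self x),
      zero_smul, add_zero, add_sub_cancel_left]
    exact Submodule.smul_mem _ _ (Submodule.mem_span_singleton_self x)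

/-- the part of the hypotheses that concerns the point alone -/
theorem su_moveAB (hF : Fintype.card F = q ^ 2) (hxx : B x x = 0) (hyx : B y x = 1) (hx0 : x ≠ 0)
    {u₀ : V} (hu₀ : B u₀ x = 0) (hu₀n : u₀ ∉ Submodule.span F {x}) :
    (∀ v, B v x ≠ 0 → ∃ g ∈ formRad (suForm (n := n) hF) (Submodule.span F {x}),
      Classical.suLinear n F q g v - v ∉ Submodule.span F {x}) ∧
    ∀ v, B v x = 0 → v ∉ Submodule.span F {x} → ∃ g ∈ formRad (suForm (n := n) hF) (Submodule.span F {x}),
      Classical.suLinear n F q g v ≠ v := by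
  have h := herm (n := n) hF
  refine ⟨fun v hv => ?_, fun v hv hvx => ?_⟩
  · obtain ⟨c, hc⟩ := exists_fill' hF u₀
    refine ⟨_, eich_mem_point hF hxx hu₀ hc, fun hm => hu₀n ?_⟩
    rw [su_act, act_eich hF hxx hu₀ hc, add_assoc, add_sub_cancel_left] at hm
    have := sub_mem hm (Submodule.smul_mem _ (c * B v x - B v u₀) (Submodule.mem_span_singleton_self x))
    rwa [add_sub_cancel_right, Submodule.smul_mem_iff _ hv] at this
  · obtain ⟨u, hu, huv⟩ : ∃ u, B u x = 0 ∧ B v u ≠ 0 := by
      by_contra hcon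
      push Not at hcon
      refine hvx (Submodule.mem_span_singleton.2 ⟨B v y, (sub_eq_zero.1 (h.nondeg _ fun t => ?_)).symm⟩)
      have h1 := hcon (t - B t x • y) (by rw [h.sub_left, h.smul_left, hyx, mul_one, sub_self])
      rw [h.sub_right, smul_right' hF] at h1
      have h2 : B x t = B t x ^ q := by rw [← h.symm t x, Forms.qPowHom_apply]
      rw [h.sub_left, h.smul_left, h2]
      linear_combination h1
    obtain ⟨c, hc⟩ := exists_fill' hF u
    refine ⟨_, eich_mem_point hF hxx hu hc, fun e => ?_⟩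
    rw [su_act, act_eich hF hxx hu hc, hv, zero_smul, add_zero, mul_zero, zero_sub, add_eq_left, smul_eq_zero,
      neg_eq_zero] at e
    exact e.elim huv hx0

theorem suFlag (hF : Fintype.card F = q ^ 2) (hxx : B x x = 0) (hyy : B y y = 0) (hyx : B y x = 1)
    (hww : B w w = 0) (hzz : B z z = 0) (hwz : B w z = 1) (hwx : B w x = 0) (hwy : B w y = 0)
    (hzx : B z x = 0) (hzy : B z y = 0) : Flag (suForm (n := n) hF) x w := by
  have h := herm (n := n) hF
  have hr : ∀ {u v : V}, B u v = 0 → B v u = 0 := fun {u v} e => (suForm hF).refl u v e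
  have hxy : B x y = 1 := by rw [← h.symm, hyx, map_one]
  have hzw : B z w = 1 := by rw [← h.symm, hwz, map_one]
  obtain ⟨d, hd0, hd⟩ := exists_skew' hF
  have hd' := tv_fill (n := n) hF hd
  have hx0 : x ≠ 0 := fun e => by rw [e, h.zero_right] at hyx; exact zero_ne_one hyx
  have hwn : w ∉ Submodule.span F {x} := fun hm => by
    obtain ⟨a, ha⟩ := Submodule.mem_span_singleton.1 hm
    rw [← ha, h.smul_left, hr hzx, mul_zero] at hwz
    exact zero_ne_one hwz
  obtain ⟨mA, mB⟩ := su_moveAB hF hxx hyx hx0 hwx hwn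
  refine ⟨hx0, hwn, hxx, hwx, mA, mB, ?_, ?_, ?_⟩
  · intro v hv hvW
    have hwW : w ∈ Submodule.span F {x, w} := Submodule.subset_span (Set.mem_insert_of_mem x rfl)
    have mem : ∀ (u : V) (c : F), B u x = 0 → B u w = 0 → c + c ^ q + B u u = 0 →
        (eich w u c : SUType n F q) ∈ formRad (suForm (n := n) hF) (Submodule.span F {x, w}) := by
      intro u c hux huw hc
      refine (mem_formRad (suForm hF)).2 ⟨fun a ha => ?_, fun a ha => ?_⟩
      · obtain ⟨r, s, rfl⟩ := Submodule.mem_span_pair.1 ha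
        rw [su_act, act_eich hF hww huw hc]
        simp only [h.add_left, h.smul_left, hr hwx, hww, hr hux, hr huw]
        simp
      · rw [su_act, act_eich hF hww huw hc, show B a w = 0 from ha w hwW, zero_smul, add_zero,
          add_sub_cancel_left]
        exact Submodule.smul_mem _ _ hwW
    by_cases hb : B v w = 0
    · obtain ⟨u, hu, huw, huv⟩ : ∃ u, B u x = 0 ∧ B u w = 0 ∧ B v u ≠ 0 := by
        by_contra hcon
        push Not at hcon
        refine hvW (Submodule.mem_span_pair.2 ⟨B v y, B v z, (sub_eq_zero.1 (h.nondeg _ fun t => ?_)).symm⟩)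
        have h1 := hcon (t - B t x • y - B t w • z)
          (by rw [h.sub_left, h.sub_left, h.smul_left, h.smul_left, hyx, hzx]; ring)
          (by rw [h.sub_left, h.sub_left, h.smul_left, h.smul_left, hr hwy, hzw]; ring)
        rw [h.sub_right, h.sub_right, smul_right' hF, smul_right' hF] at h1
        have h2 : B x t = B t x ^ q := by rw [← h.symm t x, Forms.qPowHom_apply]
        have h3 : B w t = B t w ^ q := by rw [← h.symm t w, Forms.qPowHom_apply]
        rw [h.sub_left, h.add_left, h.smul_left, h.smul_left, h2, h3]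
        linear_combination h1
      obtain ⟨c, hc⟩ := exists_fill' hF u
      refine ⟨_, mem u c hu huw hc, fun hm => hwn ?_⟩
      rw [su_act, act_eich hF hww huw hc, hb, zero_smul, add_zero, mul_zero, zero_sub, add_sub_cancel_left,
        Submodule.smul_mem_iff _ (neg_ne_zero.2 huv)] at hm
      exact hm
    · refine ⟨_, mem 0 d (h.zero_left x) (h.zero_left w) hd', fun hm => hwn ?_⟩
      rw [su_act, act_eich hF hww (h.zero_left w) hd', smul_zero, add_zero, h.zero_right, sub_zero,
        add_sub_cancel_left, Submodule.smul_mem_iff _ (mul_ne_zero hd0 hb)] at hm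
      exact hm
  · have hc : (0 : F) + 0 ^ q + B y y = 0 := by rw [hyy, zero_pow (q_ne_zero hF)]; ring
    have act' := act_eich hF hww (hr hwy) hc
    have hgx : act (eich w y 0 : SUType n F q) x = x + (-1 : F) • w := by
      rw [act', hr hwx, hxy, zero_smul, add_zero, zero_mul, zero_sub]
    refine ⟨eich w y 0, ?_, ?_, ?_, z, hzx, ?_⟩
    · rw [su_act, hgx]
      exact add_mem (Submodule.subset_span (Set.mem_insert _ _))
        (Submodule.smul_mem _ _ (Submodule.subset_span (Set.mem_insert_of_mem x rfl)))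
    · rw [su_act, act', hww, hwy]
      simp only [zero_smul, add_zero, mul_zero, sub_zero]
      exact Submodule.subset_span (Set.mem_insert_of_mem x rfl)
    · intro hm
      rw [su_act, hgx] at hm
      have h2 := sub_mem hm (Submodule.mem_span_singleton_self x)
      rw [add_sub_cancel_left, Submodule.smul_mem_iff _ (by norm_num : (-1 : F) ≠ 0)] at h2
      exact hwn h2
    · rw [su_act, act', hzw, hzy, one_smul, zero_mul, sub_zero, zero_smul, add_zero, h.add_left, hzx, hyx,
        zero_add]
      exact one_ne_zero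
  · intro T hxT hwT hT v hv
    have key : ∀ (u : V) (c : F), B u x = 0 → B u z = 0 → c + c ^ q + B u u = 0 →
        u + (c * 1 - B w u) • z ∈ T := by
      intro u c hux huz hc
      have := sub_mem (hT (eich z u c) (by
        rw [su_act, act_eich hF hzz huz hc, hr hzx, hr hux]
        simpa using Submodule.mem_span_singleton_self x) w hwT) hwT
      rwa [su_act, act_eich hF hzz huz hc, hwz, one_smul, add_assoc, add_sub_cancel_left] at this
    have hzT : z ∈ T := by
      have := key 0 d (h.zero_left x) (h.zero_left z) hd'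
      rwa [zero_add, h.zero_right, sub_zero, mul_one, Submodule.smul_mem_iff _ hd0] at this
    set u := v - B v z • w - B v w • z with hu
    have hu1 : B u x = 0 := by
      rw [hu, h.sub_left, h.sub_left, h.smul_left, h.smul_left, hv, hwx, hzx]; ring
    have hu2 : B u z = 0 := by
      rw [hu, h.sub_left, h.sub_left, h.smul_left, h.smul_left, hwz, hzz]; ring
    obtain ⟨c, hc⟩ := exists_fill' hF u
    have h1 := sub_mem (key u c hu1 hu2 hc) (T.smul_mem (c * 1 - B w u) hzT)
    rw [add_sub_cancel_right] at h1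
    have h2 := add_mem (add_mem h1 (T.smul_mem (B v w) hzT)) (T.smul_mem (B v z) hwT)
    rwa [hu, sub_add_cancel, sub_add_cancel] at h2

theorem exists_suFlag {m : ℕ} (hF : Fintype.card F = q ^ 2) :
    ∃ x w : Fin (m + 4) → F, Flag (suForm (n := m + 4) hF) x w := by
  obtain ⟨e, he⟩ := Classical.exists_split hF (m + 2)
  obtain ⟨e', he'⟩ := Classical.exists_split hF m
  have hq : q ≠ 0 := q_ne_zero hF
  have key : ∀ a b a' b' : F, ∀ c c' : F × F × (Fin m → F),
      Cfsg.hermForm (m + 4) F q (e (a, b, e' c)) (e (a', b', e' c')) = a * b' ^ q + b * a' ^ q +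
        (c.1 * c'.2.1 ^ q + c.2.1 * c'.1 ^ q + Cfsg.hermForm m F q c.2.2 c'.2.2) := fun a b a' b' c c' => by
    rw [he]
    simp [Classical.uExt, he', Forms.qPowHom_apply]
  have h0 : Cfsg.hermForm m F q 0 0 = 0 := (Classical.hermSpace_std hF m).zero_left 0
  refine ⟨e (1, 0, e' 0), e (0, 0, e' (1, 0, 0)), suFlag (y := e (0, 1, e' 0)) (z := e (0, 0, e' (0, 1, 0))) hF
    ?_ ?_ ?_ ?_ ?_ ?_ ?_ ?_ ?_ ?_⟩ <;>
    (rw [key]; simp [h0, hq])

theorem proj_ker_le_center : (PSUAut.proj (F := F) (n := n) (q := q)).ker ≤ Subgroup.center _ :=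
  fun s hs => (QuotientGroup.eq_one_iff s).1 hs

theorem intertwines_unitSemi (g : GUType n F q) (τ : F ≃+* F) :
    ∃ φ : V ≃+ V, Intertwines (PSUAut.proj (F := F) (n := n) (q := q)) (Classical.suLinear n F q)
      (Classical.suLinear n F q) (PSUAut.conj g * PSUAut.fieldAut τ) φ := by
  refine ⟨{ toFun := semi g τ
            invFun := fun v => sv τ.symm (gv g.1⁻¹ v)
            left_inv := fun v => by
              funext i
              simp [semi, gv_inv_cancel', sv]
            right_inv := fun v => by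
              show semi g τ (sv τ.symm (gv g.1⁻¹ v)) = v
              rw [semi, sv_symm, gv_inv_cancel]
            map_add' := semi_add g τ },
    fun s => ⟨suConjFun g (suFieldFun τ s), (ind_proj g τ s).symm, act_ind g τ s⟩⟩

theorem isRigid_PSU {p : ℕ} [Fact p.Prime] [CharP F p] (hF : Fintype.card F = q ^ 2) (hn : 4 ≤ n) :
    IsRigid p (Cfsg.PSU n F q) := by
  obtain ⟨m, rfl⟩ := Nat.exists_eq_add_of_le' hn
  obtain ⟨x, w, fl⟩ := exists_suFlag (m := m) hF
  refine fl.isRigid PSUAut.proj_surjective proj_ker_le_center (good_SU hF (m + 2)) fun γ => ?_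
  obtain ⟨g, τ, rfl⟩ := PSUAut.exists_eq_conj_mul_fieldAut (p := p) hF (by omega) (by omega) γ
  exact intertwines_unitSemi g τ

theorem isSingle_PSU_three {p : ℕ} [Fact p.Prime] [CharP F p] (hF : Fintype.card F = q ^ 2) :
    IsSingle p (Cfsg.PSU 3 F q) := by
  have hq : q ≠ 0 := q_ne_zero hF
  have h := herm (n := 3) hF
  obtain ⟨e, he⟩ := Classical.exists_split hF 1
  have key : ∀ a b c a' b' c' : F,
      Cfsg.hermForm 3 F q (e (a, b, fun _ => c)) (e (a', b', fun _ => c')) = a * b' ^ q + b * a' ^ q + c * c' ^ q :=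
    fun a b c a' b' c' => by rw [he]; simp [Classical.uExt, Forms.qPowHom_apply, Cfsg.hermForm]
  set x := e (1, 0, fun _ => 0) with hx
  set u₀ := e (0, 0, fun _ => 1) with hu₀
  have hxx : Cfsg.hermForm 3 F q x x = 0 := by simp [hx, key, hq]
  have hyx : Cfsg.hermForm 3 F q (e (0, 1, fun _ => 0)) x = 1 := by simp [hx, key, hq]
  have hux : Cfsg.hermForm 3 F q u₀ x = 0 := by simp [hu₀, hx, key, hq]
  have huu : Cfsg.hermForm 3 F q u₀ u₀ = 1 := by simp [hu₀, key, hq]
  have hx0 : x ≠ 0 := fun e0 => by rw [e0, h.zero_right] at hyx; exact zero_ne_one hyx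
  have hun : u₀ ∉ Submodule.span F {x} := fun hm => by
    obtain ⟨a, ha⟩ := Submodule.mem_span_singleton.1 hm
    rw [← ha, h.smul_left, h.smul_right, hxx, mul_zero, mul_zero] at huu
    exact zero_ne_one huu
  have hdec : ∀ v, Cfsg.hermForm 3 F q v x = 0 → v ∈ Submodule.span F {x, u₀} := by
    intro v hv
    obtain ⟨⟨a, b, c⟩, rfl⟩ := e.surjective v
    obtain ⟨c, rfl⟩ : ∃ c' : F, (fun _ : Fin 1 => c') = c := ⟨c 0, funext fun i => by rw [Fin.fin_one_eq_zero i]⟩
    have hb : b = 0 := by simpa [hx, key, hq] using hv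
    refine Submodule.mem_span_pair.2 ⟨a, c, e.symm.injective ?_⟩
    rw [map_add, map_smul, map_smul, hx, hu₀, LinearEquiv.symm_apply_apply, LinearEquiv.symm_apply_apply,
      LinearEquiv.symm_apply_apply, hb]
    ext <;> simp
  obtain ⟨mA, mB⟩ := su_moveAB hF hxx hyx hx0 hux hun
  set R := formRad (suForm (n := 3) hF) (Submodule.span F {x})
  obtain ⟨P, hP⟩ := (isPGroup_formRad (p := p) (suForm (n := 3) hF) (Submodule.span F {x})).exists_le_sylow
  have hfix : ∀ v, (∀ g ∈ P, act g v = v) → v ∈ Submodule.span F {x} := by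
    intro v hv
    by_contra hvx
    by_cases hb : Cfsg.hermForm 3 F q v x = 0
    · obtain ⟨g, hg, hgv⟩ := mB v hb hvx
      exact hgv (hv g (hP hg))
    · obtain ⟨g, hg, hgv⟩ := mA v hb
      exact hgv (by rw [su_act, hv g (hP hg), sub_self]; exact zero_mem _)
  have hPx : ∀ g ∈ P, act g x = x := by
    obtain ⟨v, -, hv0, hv⟩ := exists_fixed_ne_zero (τ := Classical.suLinear 3 F q) P.isPGroup' (S := ⊤)
      (fun e0 => hx0 ((Submodule.mem_bot F).1 (e0 ▸ Submodule.mem_top))) fun _ _ _ _ => trivial
    obtain ⟨c, rfl⟩ := Submodule.mem_span_singleton.1 (hfix v hv)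
    have hc0 : c ≠ 0 := fun e => hv0 (by rw [e, zero_smul])
    intro g hg
    have := hv g hg
    rw [map_smul] at this
    exact smul_right_injective _ hc0 this
  have hPR : ∀ g ∈ P, g ∈ R := by
    intro g hg
    have hgu : Cfsg.hermForm 3 F q (act g u₀) x = 0 := by
      conv_lhs => rw [← hPx g hg]
      rw [act_form, hux]
    obtain ⟨b, a, hab⟩ := Submodule.mem_span_pair.1 (hdec _ hgu)
    have hpow : ∀ k : ℕ, ∃ b' : F, act (g ^ k) u₀ = b' • x + a ^ k • u₀ := by
      intro k
      induction k with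
      | zero => exact ⟨0, by simp [act_one]⟩
      | succ k ih =>
        obtain ⟨b', hb'⟩ := ih
        refine ⟨b' + a ^ k * b, ?_⟩
        rw [pow_succ', act_mul, hb']
        show Classical.suLinear 3 F q g _ = _
        rw [map_add, map_smul, map_smul, su_act, su_act, hPx g hg, ← hab]
        module
    obtain ⟨j, hj⟩ := P.isPGroup' ⟨g, hg⟩
    obtain ⟨b', hb'⟩ := hpow (p ^ j)
    rw [show g ^ p ^ j = 1 from congrArg Subtype.val hj, act_one] at hb'
    have ha : a = 1 := by
      refine PSUAut.eq_one_of_pow (p := p) hF (m := j) ?_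
      by_contra hne
      refine hun ?_
      have : (1 - a ^ p ^ j) • u₀ ∈ Submodule.span F {x} := by
        rw [sub_smul, one_smul]
        conv in (u₀ - _) => arg 1; rw [hb']
        rw [add_sub_cancel_right]
        exact Submodule.smul_mem _ _ (Submodule.mem_span_singleton_self x)
      rwa [Submodule.smul_mem_iff _ (sub_ne_zero.2 (Ne.symm hne))] at this
    refine (mem_formRad (suForm hF)).2 ⟨fun v hv => ?_, fun v hv => ?_⟩
    · obtain ⟨k, rfl⟩ := Submodule.mem_span_singleton.1 hv
      rw [map_smul, su_act, hPx g hg]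
    · obtain ⟨r, s, rfl⟩ := Submodule.mem_span_pair.1 (hdec v (hv x (Submodule.mem_span_singleton_self x)))
      rw [map_add, map_smul, map_smul, su_act, su_act, hPx g hg, ← hab, ha, one_smul, smul_add,
        show r • x + (s • b • x + s • u₀) - (r • x + s • u₀) = s • b • x by abel]
      exact Submodule.smul_mem _ _ (Submodule.smul_mem _ _ (Submodule.mem_span_singleton_self x))
  refine isSingle_of_one (P.mapSurjective PSUAut.proj_surjective) fun Γ _ _ Y hNY hYt _ => ?_
  have hPY : (P : Subgroup (SUType 3 F q)).map PSUAut.proj ≤ Y := Subgroup.le_normalizer.trans hNY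
  obtain ⟨S, hS0, hS1, hSP, hS⟩ := exists_invariant_submodule' (good_SU hF 1) PSUAut.proj_surjective
    (Classical.suLinear_injective 3) P hPY hYt
  have hxS : x ∈ S := by
    obtain ⟨v, hv, hv0, hvf⟩ := exists_fixed_ne_zero (τ := Classical.suLinear 3 F q) P.isPGroup' hS0 hSP
    obtain ⟨c, rfl⟩ := Submodule.mem_span_singleton.1 (hfix v hvf)
    have hc0 : c ≠ 0 := fun e => hv0 (by rw [e, zero_smul])
    have := Submodule.smul_mem _ c⁻¹ hv
    rwa [smul_smul, inv_mul_cancel₀ hc0, one_smul] at this
  have hSx : ∀ v ∈ S, Cfsg.hermForm 3 F q v x = 0 := by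
    by_contra hcon
    push Not at hcon
    obtain ⟨v, hv, hvx⟩ := hcon
    refine hS1 (eq_top_iff.2 fun t _ => ?_)
    have hperp : ∀ u, Cfsg.hermForm 3 F q u x = 0 → u ∈ S := by
      intro u hu
      obtain ⟨c, hc⟩ := exists_fill' hF u
      have := sub_mem (sub_mem (hSP _ (hP (eich_mem_point hF hxx hu hc)) v hv) hv)
        (S.smul_mem (c * Cfsg.hermForm 3 F q v x - Cfsg.hermForm 3 F q v u) hxS)
      rwa [su_act, act_eich hF hxx hu hc, add_assoc, add_sub_cancel_left, add_sub_cancel_right,
        Submodule.smul_mem_iff _ hvx] at this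
    have h1 := hperp (t - (Cfsg.hermForm 3 F q t x / Cfsg.hermForm 3 F q v x) • v) (by
      rw [h.sub_left, h.smul_left, div_mul_cancel₀ _ hvx, sub_self])
    have h2 := add_mem h1 (S.smul_mem (Cfsg.hermForm 3 F q t x / Cfsg.hermForm 3 F q v x) hv)
    rwa [sub_add_cancel] at h2
  intro g hg
  obtain ⟨g, rfl⟩ := PSUAut.proj_surjective g
  have hgx : act g x ∈ Submodule.span F {x} := by
    have hgS := hS g hg x hxS
    rw [su_act] at hgS
    obtain ⟨b, a, hab⟩ := Submodule.mem_span_pair.1 (hdec _ (hSx _ hgS))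
    have h0 := act_form g x x
    rw [hxx, ← hab] at h0
    simp only [h.add_left, h.add_right, h.smul_left, h.smul_right, hxx, hux,
      show Cfsg.hermForm 3 F q x u₀ = 0 from (suForm hF).refl _ _ hux, huu] at h0
    have ha : a = 0 := by simpa [hq] using h0
    rw [← hab, ha, zero_smul, add_zero]
    exact Submodule.smul_mem _ _ (Submodule.mem_span_singleton_self x)
  have hspan : (Submodule.span F {x}).map (Classical.suLinear 3 F q g : (Fin 3 → F) →ₗ[F] (Fin 3 → F)) =
      Submodule.span F {x} := by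
    refine Submodule.eq_of_le_of_finrank_eq ?_ (LinearEquiv.finrank_map_eq _ _)
    rw [Submodule.map_span, Set.image_singleton, Submodule.span_singleton_le_iff_mem]
    exact hgx
  have hPeq : (P : Subgroup (SUType 3 F q)) = R := le_antisymm hPR hP
  have hgn : g ∈ Subgroup.normalizer ((P : Subgroup (SUType 3 F q)) : Set (SUType 3 F q)) := by
    rw [hPeq]
    refine Subgroup.mem_normalizer_iff.2 fun r => ?_
    conv_rhs => rw [show R = formRad (suForm (n := 3) hF) ((Submodule.span F {x}).map
      (Classical.suLinear 3 F q g : (Fin 3 → F) →ₗ[F] (Fin 3 → F))) by rw [hspan]]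
    rw [mem_formRad_map]
    exact iff_of_eq (congrArg (· ∈ R) (by group))
  exact (Subgroup.le_normalizer_map PSUAut.proj) ⟨g, hgn, rfl⟩

end Cfsg.Agent.Lib.PMinimalLie
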